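import Mathlib
import Cfsg.Agent.Lib.Helper2.Offender
import Cfsg.Agent.Lib.Helper2.S4Sec
import Cfsg.Agent.Lib.Helper67.BaerSuzuki
import Cfsg.Agent.Lib.Helper11.QuadLift

/-!
# Transvections on a normal elementary abelian `2`-subgroup in `S₄`-free groups

If `G` is `S₄`-free and acts on the elementary abelian `2`-group `M` (embedded equivariantly in
`G`), then any element `a` inducing a transvection of order `2` on `M` lies in a normal subgroup
of `G` inducing a `2`-group on `M` (Baer–Suzuki plus the `S₃`-module argument).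
-/

set_option autoImplicit false
set_option linter.unusedSectionVars false
set_option linter.unusedVariables false
set_option linter.style.haveILetI false

namespace Cfsg.Agent.Lib.Helper11.TransvS4

open Cfsg.Agent.Lib.Helper2.Offender

theorem mem_normalizer_of_conj {G : Type*} [Group G] [Finite G] (K : Subgroup G) (g : G)
    (h : ∀ x ∈ K, g * x * g⁻¹ ∈ K) : g ∈ Subgroup.normalizer (K : Set G) := by
  rw [Subgroup.mem_normalizer_iff]
  intro x
  refine ⟨h x, fun hx => ?_⟩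
  have hle : K.map (MulAut.conj g).toMonoidHom ≤ K := by
    rintro _ ⟨y, hy, rfl⟩
    exact h y hy
  have hcard : Nat.card (K.map (MulAut.conj g).toMonoidHom) = Nat.card K :=
    Subgroup.card_map_of_injective (MulAut.conj g).injective
  have heq := Subgroup.eq_of_le_of_card_ge hle hcard.ge
  rw [← heq] at hx
  obtain ⟨y, hy, hyx⟩ := hx
  have hyx' : g * y * g⁻¹ = g * x * g⁻¹ := hyx
  have : y = x := mul_left_cancel (mul_right_cancel hyx')
  rwa [← this]

theorem isPGroup_zpowers {G : Type*} [Group G] (p : ℕ) (s : G) (j : ℕ) (hs : s ^ p ^ j = 1) :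
    IsPGroup p (Subgroup.zpowers s) := by
  rintro ⟨w, hw⟩
  obtain ⟨i, rfl⟩ := Subgroup.mem_zpowers_iff.mp hw
  refine ⟨j, Subtype.ext ?_⟩
  show (s ^ i) ^ p ^ j = 1
  rw [← zpow_natCast, ← zpow_mul, mul_comm, zpow_mul, zpow_natCast, hs, one_zpow]

/-- two involutions whose product has `2`-power order generate a `2`-group -/
theorem isPGroup_closure_pair {Γ : Type*} [Group Γ] (y₁ y₂ : Γ) (h₁ : y₁ * y₁ = 1)
    (h₂ : y₂ * y₂ = 1) (k : ℕ) (hk : (y₁ * y₂) ^ 2 ^ k = 1) :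
    IsPGroup 2 (Subgroup.closure ({y₁, y₂} : Set Γ)) := by
  have hinv₁ : y₁⁻¹ = y₁ := inv_eq_of_mul_eq_one_left h₁
  have hinv₂ : y₂⁻¹ = y₂ := inv_eq_of_mul_eq_one_left h₂
  have hconj : y₁ * (y₁ * y₂) * y₁⁻¹ = (y₁ * y₂)⁻¹ := by
    rw [mul_inv_rev, hinv₁, hinv₂, ← mul_assoc, h₁, one_mul]
  have hp₁ : IsPGroup 2 (Subgroup.zpowers y₁) :=
    isPGroup_zpowers 2 y₁ 1 (by rw [pow_one, pow_two, h₁])
  have hp₂ : IsPGroup 2 (Subgroup.zpowers (y₁ * y₂)) := isPGroup_zpowers 2 _ k hk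
  have hnorm : Subgroup.zpowers y₁ ≤ Subgroup.normalizer
      ((Subgroup.zpowers (y₁ * y₂) : Subgroup Γ) : Set Γ) := by
    rw [Subgroup.zpowers_le, Subgroup.mem_normalizer_iff]
    intro x
    have key : ∀ x, x ∈ Subgroup.zpowers (y₁ * y₂) → y₁ * x * y₁⁻¹ ∈ Subgroup.zpowers (y₁ * y₂) := by
      intro x hx
      obtain ⟨i, rfl⟩ := Subgroup.mem_zpowers_iff.mp hx
      rw [← conj_zpow, hconj]
      exact zpow_mem (inv_mem (Subgroup.mem_zpowers _)) i
    refine ⟨key x, fun hx => ?_⟩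
    have := key _ hx
    rw [hinv₁] at this hx
    have e : y₁ * (y₁ * x * y₁) * y₁ = x := by
      calc y₁ * (y₁ * x * y₁) * y₁ = (y₁ * y₁) * x * (y₁ * y₁) := by group
        _ = x := by rw [h₁, one_mul, mul_one]
    rwa [e] at this
  have hsup := IsPGroup.to_sup_of_normal_right' hp₁ hp₂ hnorm
  apply hsup.to_le
  rw [Subgroup.closure_le]
  rintro z (rfl | rfl)
  · exact (le_sup_left : Subgroup.zpowers z ≤ _) (Subgroup.mem_zpowers z)
  · have hz : y₁⁻¹ * (y₁ * z) ∈ Subgroup.zpowers y₁ ⊔ Subgroup.zpowers (y₁ * z) :=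
      mul_mem (inv_mem ((le_sup_left : Subgroup.zpowers y₁ ≤ _) (Subgroup.mem_zpowers y₁)))
        ((le_sup_right : Subgroup.zpowers (y₁ * z) ≤ _) (Subgroup.mem_zpowers _))
    have e : y₁⁻¹ * (y₁ * z) = z := by group
    rw [e] at hz
    exact hz

variable {G M : Type*} [Group G] [CommGroup M] [Finite G]

theorem exists_normal_two_of_transvection
    (φ : G →* MulAut M) (ι : M →* G)
    (hι : ∀ g m, ι (φ g m) = g * ι m * g⁻¹) (hιinj : Function.Injective ι)
    (hM2 : ∀ m : M, m * m = 1)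
    (hfree : ¬ Cfsg.Involves (Equiv.Perm (Fin 4)) G)
    (a : G) (ha2 : φ (a * a) = 1) (htr : Nat.card M ≤ 2 * Nat.card (fixEl φ a)) :
    ∃ N₁ : Subgroup G, N₁.Normal ∧ a ∈ N₁ ∧ IsPGroup 2 (N₁.map φ) := by
  classical
  haveI : Finite M := Finite.of_injective ι hιinj
  haveI : Fact (Nat.Prime 2) := ⟨Nat.prime_two⟩
  haveI : Fact (Nat.Prime 3) := ⟨Nat.prime_three⟩
  obtain ⟨π, hπ⟩ : ∃ π : G →* ↥φ.range, π = φ.rangeRestrict := ⟨_, rfl⟩
  have hπs : Function.Surjective π := hπ ▸ φ.rangeRestrict_surjective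
  haveI : Finite ↥φ.range := Finite.of_surjective π hπs
  obtain ⟨ψ, hψ⟩ : ∃ ψ : ↥φ.range →* MulAut M, ψ = φ.range.subtype := ⟨_, rfl⟩
  have hψπ : ∀ g, ψ (π g) = φ g := by
    intro g; rw [hψ, hπ]; rfl
  have hψinj : Function.Injective ψ := hψ ▸ φ.range.subtype_injective
  obtain ⟨b, hb⟩ : ∃ b, b = π a := ⟨_, rfl⟩
  have hbb : b * b = 1 := by
    apply hψinj
    rw [hb, ← map_mul, hψπ, ha2, map_one]
  obtain ⟨K, hK⟩ : ∃ K : Set ↥φ.range, K = Group.conjugatesOfSet {b} := ⟨_, rfl⟩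
  have hKconj : ∀ (g y : ↥φ.range), y ∈ K → g * y * g⁻¹ ∈ K := fun g y hy => by
    rw [hK] at hy ⊢
    exact Group.conj_mem_conjugatesOfSet hy
  have hKmem : ∀ y ∈ K, ∃ g : ↥φ.range, g * b * g⁻¹ = y := by
    intro y hy
    rw [hK, Group.mem_conjugatesOfSet_iff] at hy
    obtain ⟨a', ha', hc⟩ := hy
    rw [Set.mem_singleton_iff] at ha'
    subst ha'
    exact isConj_iff.mp hc
  by_cases hall : ∀ y₁ ∈ K, ∀ y₂ ∈ K, IsPGroup 2 (Subgroup.closure ({y₁, y₂} : Set ↥φ.range))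
  · have h1 : IsPGroup 2 (Subgroup.closure K) :=
      Cfsg.Agent.Lib.Helper67.BaerSuzuki.isPGroup_closure K hKconj hall
    have h2 : (Subgroup.closure K).Normal := by
      rw [hK]
      show (Subgroup.normalClosure ({b} : Set ↥φ.range)).Normal
      exact Subgroup.normalClosure_normal
    refine ⟨(Subgroup.closure K).comap π, h2.comap π, ?_, ?_⟩
    · show π a ∈ Subgroup.closure K
      rw [← hb, hK]
      exact Subgroup.subset_closure (Group.subset_conjugatesOfSet (Set.mem_singleton b))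
    · rintro ⟨_, n, hn, rfl⟩
      obtain ⟨k, hk⟩ := h1 ⟨π n, hn⟩
      refine ⟨k, Subtype.ext ?_⟩
      show (φ n) ^ 2 ^ k = 1
      have h3 : (π n) ^ 2 ^ k = 1 := congrArg Subtype.val hk
      rw [← hψπ, ← map_pow, h3, map_one]
  · exfalso
    push Not at hall
    obtain ⟨y₁, hy₁, y₂, hy₂, hnp⟩ := hall
    obtain ⟨γ₁, hγ₁⟩ := hKmem y₁ hy₁
    obtain ⟨γ₂, hγ₂⟩ := hKmem y₂ hy₂
    have hy₁sq : y₁ * y₁ = 1 := by
      rw [← hγ₁]
      calc γ₁ * b * γ₁⁻¹ * (γ₁ * b * γ₁⁻¹) = γ₁ * (b * b) * γ₁⁻¹ := by group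
        _ = 1 := by rw [hbb]; group
    have hy₂sq : y₂ * y₂ = 1 := by
      rw [← hγ₂]
      calc γ₂ * b * γ₂⁻¹ * (γ₂ * b * γ₂⁻¹) = γ₂ * (b * b) * γ₂⁻¹ := by group
        _ = 1 := by rw [hbb]; group
    -- `y₁` is a transvection
    have htr₁ : Nat.card M ≤ 2 * Nat.card (fixEl ψ y₁) := by
      have e1 : fixEl ψ b = fixEl φ a := by
        ext v
        rw [mem_fixEl, mem_fixEl, hb, hψπ]
      have e2 : Nat.card (fixEl ψ b) ≤ Nat.card (fixEl ψ y₁) := by
        let f : ↥(fixEl ψ b) → ↥(fixEl ψ y₁) := fun v => ⟨ψ γ₁ (v : M), by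
          rw [mem_fixEl, ← hγ₁, apply_mul, apply_mul, ← apply_mul ψ γ₁⁻¹ γ₁, inv_mul_cancel,
            apply_one]
          have hv : ψ b (v : M) = v := v.2
          rw [hv]⟩
        apply Nat.card_le_card_of_injective f
        intro v w hvw
        apply Subtype.ext
        exact (ψ γ₁).injective (congrArg Subtype.val hvw)
      rw [e1] at e2
      exact htr.trans (Nat.mul_le_mul_left 2 e2)
    obtain ⟨r, hr⟩ : ∃ r, r = y₁ * y₂ := ⟨_, rfl⟩
    have hr2 : ∀ k : ℕ, r ^ 2 ^ k ≠ 1 := by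
      intro k hk
      rw [hr] at hk
      exact hnp (isPGroup_closure_pair y₁ y₂ hy₁sq hy₂sq k hk)
    have hinv₁ : y₁⁻¹ = y₁ := inv_eq_of_mul_eq_one_left hy₁sq
    have hinv₂ : y₂⁻¹ = y₂ := inv_eq_of_mul_eq_one_left hy₂sq
    have hinv : y₁ * r * y₁⁻¹ = r⁻¹ := by
      rw [hr, mul_inv_rev, hinv₁, hinv₂, ← mul_assoc, hy₁sq, one_mul]
    obtain ⟨k, m', hm'odd, hord⟩ := Nat.exists_eq_two_pow_mul_odd (orderOf_pos r).ne'
    obtain ⟨y, hy⟩ : ∃ y, y = r ^ 2 ^ k := ⟨_, rfl⟩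
    have hy1 : y ≠ 1 := hy ▸ hr2 k
    have hyord : orderOf y = m' := by
      rw [hy, orderOf_pow_of_dvd (pow_ne_zero k (by norm_num)) (Dvd.intro _ hord.symm), hord,
        Nat.mul_div_cancel_left _ (pow_pos (by norm_num) k)]
    have hyodd : Odd (orderOf y) := hyord ▸ hm'odd
    have hby : y₁ * y * y₁⁻¹ = y⁻¹ := by
      rw [hy, ← conj_pow, hinv, inv_pow]
    obtain ⟨hy3, w, hw1, hbw, hrel⟩ :=
      transvection_data hM2 ψ hψinj y₁ y hy₁sq hy1 hyodd hby htr₁
    have hy3' : IsPGroup 3 (Subgroup.zpowers y) :=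
      isPGroup_zpowers 3 y 1 (by rw [pow_one]; exact hy3)
    obtain ⟨T, hT3, hTmap, hTN⟩ :=
      Cfsg.Agent.Lib.Helper11.QuadLift.exists_lift_normalizer π hπs (Subgroup.zpowers y) hy3'
    obtain ⟨t, htT, hty⟩ : ∃ t ∈ T, π t = y := by
      have : y ∈ T.map π := by
        rw [hTmap]; exact Subgroup.mem_zpowers y
      obtain ⟨t, ht, hty⟩ := this
      exact ⟨t, ht, hty⟩
    have hbN : y₁ ∈ Subgroup.normalizer
        ((Subgroup.zpowers y : Subgroup ↥φ.range) : Set ↥φ.range) := by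
      apply mem_normalizer_of_conj
      intro x hx
      obtain ⟨i, rfl⟩ := Subgroup.mem_zpowers_iff.mp hx
      rw [← conj_zpow, hby]
      exact zpow_mem (inv_mem (Subgroup.mem_zpowers y)) i
    obtain ⟨s, hsN, hsb⟩ : ∃ s ∈ Subgroup.normalizer (T : Set G), π s = y₁ := by
      rw [← hTN] at hbN
      obtain ⟨s, hs, hsb⟩ := hbN
      exact ⟨s, hs, hsb⟩
    obtain ⟨R, hR⟩ : ∃ R : Subgroup G, R = φ.ker ⊓ Subgroup.normalizer (T : Set G) := ⟨_, rfl⟩
    have hRmem : ∀ g, g ∈ R ↔ φ g = 1 ∧ g ∈ Subgroup.normalizer (T : Set G) := by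
      intro g; rw [hR, Subgroup.mem_inf, MonoidHom.mem_ker]
    have hNR : ∀ g ∈ Subgroup.normalizer (T : Set G), g ∈ Subgroup.normalizer (R : Set G) := by
      intro g hg
      apply mem_normalizer_of_conj
      intro r hr
      rw [hRmem] at hr ⊢
      refine ⟨?_, mul_mem (mul_mem hg hr.2) (inv_mem hg)⟩
      rw [map_mul, map_mul, hr.1, mul_one, ← map_mul, mul_inv_cancel, map_one]
    have htN : t ∈ Subgroup.normalizer (T : Set G) := Subgroup.le_normalizer htT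
    have hφs : φ s = ψ y₁ := by rw [← hsb, hψπ]
    have hφt : φ t = ψ y := by rw [← hty, hψπ]
    have hker_comm : ∀ r, φ r = 1 → ∀ v : M, r * ι v = ι v * r := by
      intro r hr v
      have h1 := hι r v
      rw [hr, MulAut.one_apply] at h1
      calc r * ι v = r * ι v * r⁻¹ * r := by group
        _ = ι v * r := by rw [← h1]
    have hwR : ι w ∈ Subgroup.normalizer (R : Set G) := by
      apply mem_normalizer_of_conj
      intro r hr
      have h1 := hker_comm r ((hRmem r).mp hr).1 w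
      have h2 : ι w * r * (ι w)⁻¹ = r := by rw [← h1]; group
      rw [h2]; exact hr
    have hssR : s * s ∈ R := by
      rw [hRmem]
      refine ⟨?_, mul_mem hsN hsN⟩
      have e : π (s * s) = 1 := by rw [map_mul, hsb, hy₁sq]
      rw [← hψπ, e, map_one]
    have ht3R : t ^ 3 ∈ R := by
      rw [hRmem]
      refine ⟨?_, pow_mem htN 3⟩
      have e : π (t ^ 3) = 1 := by rw [map_pow, hty, hy3]
      rw [← hψπ, e, map_one]
    have hwwR : ι w * ι w ∈ R := by
      rw [← map_mul, hM2, map_one]; exact one_mem _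
    have hstR : s * t * s⁻¹ * t ∈ R := by
      rw [hRmem]
      refine ⟨?_, mul_mem (mul_mem (mul_mem hsN htN) (inv_mem hsN)) htN⟩
      have e : π (s * t * s⁻¹ * t) = 1 := by
        rw [map_mul, map_mul, map_mul, map_inv, hsb, hty, hby, inv_mul_cancel]
      rw [← hψπ, e, map_one]
    have hswR : s * ι w * s⁻¹ * (ι w)⁻¹ ∈ R := by
      rw [← hι, hφs, hbw, mul_inv_cancel]; exact one_mem _
    have hrelR : (t⁻¹ * ι w) ^ 3 ∈ R := by
      have e : (t⁻¹ * ι w) ^ 3 =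
          (t ^ 3)⁻¹ * ((t * t) * ι w * (t * t)⁻¹ * (t * ι w * t⁻¹) * ι w) := by
        have e0 : (t⁻¹ * ι w) ^ 3 = t⁻¹ * ι w * (t⁻¹ * ι w) * (t⁻¹ * ι w) := by
          rw [pow_succ, pow_two]
        have e1 : t ^ 3 = t * t * t := by rw [pow_succ, pow_two]
        rw [e0, e1]
        group
      have e2 : (t * t) * ι w * (t * t)⁻¹ * (t * ι w * t⁻¹) * ι w = 1 := by
        rw [← hι, ← hι, ← map_mul, ← map_mul, ← map_one ι]
        congr 1
        have h1 : φ (t * t) = ψ (y * y) := by rw [map_mul, hφt, map_mul]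
        rw [h1, hφt, ← hrel]
        rw [mul_comm (ψ (y * y) w) (ψ y w), mul_comm _ w, mul_assoc]
      rw [e, e2, mul_one]
      exact inv_mem ht3R
    have hwnR : ι w ∉ R := by
      intro hwR'
      have hwN := ((hRmem _).mp hwR').2
      have h1 : ι w * t * (ι w)⁻¹ ∈ T := (Subgroup.mem_normalizer_iff.mp hwN t).mp htT
      have hq : ι w * t * (ι w)⁻¹ * t⁻¹ = ι (w * (φ t w)⁻¹) := by
        rw [map_mul, map_inv, hι]; group
      have hqT : ι (w * (φ t w)⁻¹) ∈ T := hq ▸ mul_mem h1 (inv_mem htT)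
      obtain ⟨k3, hk3⟩ := hT3 ⟨_, hqT⟩
      have hk3' : ι (w * (φ t w)⁻¹) ^ 3 ^ k3 = 1 := congrArg Subtype.val hk3
      have h2 : ι (w * (φ t w)⁻¹) ^ 2 = 1 := by rw [← map_pow, pow_two, hM2, map_one]
      have h3 : ι (w * (φ t w)⁻¹) = 1 := by
        have ho1 := orderOf_dvd_of_pow_eq_one hk3'
        have ho2 := orderOf_dvd_of_pow_eq_one h2
        have hcop : Nat.Coprime (3 ^ k3) 2 := by
          apply Nat.Coprime.pow_left; norm_num
        exact orderOf_eq_one_iff.mp (Nat.eq_one_of_dvd_coprimes hcop ho1 ho2)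
      have h4 : w * (φ t w)⁻¹ = 1 := hιinj (by rw [h3, map_one])
      have h5 : ψ y w = w := by rw [← hφt]; exact (mul_inv_eq_one.mp h4).symm
      have h6 : ψ (y * y) w = w := by rw [map_mul, MulAut.mul_apply, h5, h5]
      rw [h5, h6, hM2, one_mul] at hrel
      exact hw1 hrel
    exact hfree (Cfsg.Agent.Lib.Helper2.S4Sec.involves_of_section_data R s t (ι w) (hNR s hsN)
      (hNR t htN) hwR hssR ht3R hwwR hstR hswR hrelR hwnR)

end Cfsg.Agent.Lib.Helper11.TransvS4
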