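import Mathlib
import Cfsg.Agent.Lib.Helper2.Offender

/-!
# Orbit products for a group acting on an abelian group

`Γ` acts on the abelian group `M` through `φ : Γ →* MulAut M`.  For a subgroup `B` and `m : M`,
`oprodS φ B m` is the product of the elements of the `B`-orbit of `m`.  We prove that orbit
products of an abelian `p`-subgroup `A` vanish when the fixed points of `A` have small index in
the fixed points of suitable subgroups of `A` (Glauberman's trace argument), and an induction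
principle computing the product of an invariant set as the product of its fixed points.
-/

set_option autoImplicit false
set_option linter.unusedSectionVars false
set_option linter.unusedVariables false
set_option linter.style.haveILetI false

namespace Cfsg.Agent.Lib.Helper11.OrbProd

open Cfsg.Agent.Lib.Helper2.Offender

variable {Γ M : Type*} [Group Γ] [CommGroup M]

/-- the stabilizer of a point -/
def stab (φ : Γ →* MulAut M) (m : M) : Subgroup Γ where
  carrier := {g | φ g m = m}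
  mul_mem' := by
    intro a b ha hb
    show φ (a * b) m = m
    rw [apply_mul, show φ b m = m from hb, show φ a m = m from ha]
  one_mem' := apply_one φ m
  inv_mem' := by
    intro a ha
    show φ a⁻¹ m = m
    have h : φ a m = m := ha
    calc φ a⁻¹ m = φ a⁻¹ (φ a m) := by rw [h]
      _ = m := by rw [← apply_mul, inv_mul_cancel, apply_one]

theorem mem_stab (φ : Γ →* MulAut M) (m : M) (g : Γ) : g ∈ stab φ m ↔ φ g m = m := Iff.rfl

theorem apply_inv_apply (φ : Γ →* MulAut M) (g : Γ) (m : M) : φ g⁻¹ (φ g m) = m := by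
  rw [← apply_mul, inv_mul_cancel, apply_one]

theorem apply_apply_inv (φ : Γ →* MulAut M) (g : Γ) (m : M) : φ g (φ g⁻¹ m) = m := by
  rw [← apply_mul, mul_inv_cancel, apply_one]

section Orbit

variable [Finite Γ]

/-- the orbit of `m` under the subgroup `B`, as a finset -/
noncomputable def orbS (φ : Γ →* MulAut M) (B : Subgroup Γ) (m : M) : Finset M :=
  (Set.finite_range (fun b : ↥B => φ (b : Γ) m)).toFinset

theorem mem_orbS (φ : Γ →* MulAut M) (B : Subgroup Γ) (m w : M) :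
    w ∈ orbS φ B m ↔ ∃ b ∈ B, φ b m = w := by
  unfold orbS
  rw [Set.Finite.mem_toFinset, Set.mem_range]
  constructor
  · rintro ⟨b, hb⟩
    exact ⟨b, b.2, hb⟩
  · rintro ⟨b, hb, h⟩
    exact ⟨⟨b, hb⟩, h⟩

theorem self_mem_orbS (φ : Γ →* MulAut M) (B : Subgroup Γ) (m : M) : m ∈ orbS φ B m :=
  (mem_orbS φ B m m).mpr ⟨1, one_mem _, apply_one φ m⟩

theorem apply_mem_orbS (φ : Γ →* MulAut M) (B : Subgroup Γ) (m : M) {w : M} {b : Γ} (hb : b ∈ B)
    (hw : w ∈ orbS φ B m) : φ b w ∈ orbS φ B m := by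
  obtain ⟨c, hc, rfl⟩ := (mem_orbS φ B m w).mp hw
  exact (mem_orbS φ B m _).mpr ⟨b * c, mul_mem hb hc, apply_mul φ b c m⟩

/-- the product over the `B`-orbit of `m` -/
noncomputable def oprodS (φ : Γ →* MulAut M) (B : Subgroup Γ) (m : M) : M :=
  ∏ w ∈ orbS φ B m, w

theorem apply_oprodS (φ : Γ →* MulAut M) (B : Subgroup Γ) (m : M) (b : Γ) (hb : b ∈ B) :
    φ b (oprodS φ B m) = oprodS φ B m := by
  unfold oprodS
  rw [map_prod]
  refine Finset.prod_bij (fun w _ => φ b w) (fun w hw => apply_mem_orbS φ B m hb hw) ?_ ?_ ?_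
  · intro w₁ _ w₂ _ h
    exact (φ b).injective h
  · intro w hw
    exact ⟨φ b⁻¹ w, apply_mem_orbS φ B m (inv_mem hb) hw, apply_apply_inv φ b w⟩
  · intro w _
    rfl

theorem oprodS_mem_fix (φ : Γ →* MulAut M) (B : Subgroup Γ) (m : M) :
    oprodS φ B m ∈ fix φ B := fun b hb => apply_oprodS φ B m b hb

/-- coset representatives `1, a, …, a^(p-1)` of `B₁` in `B` -/
structure RelCos (p : ℕ) (B₁ B : Subgroup Γ) (a : Γ) : Prop where
  le : B₁ ≤ B
  mem : a ∈ B
  cover : ∀ g ∈ B, ∃ i < p, ∃ b₁ ∈ B₁, g = a ^ i * b₁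
  disj : ∀ i < p, ∀ j < p, (a ^ j)⁻¹ * a ^ i ∈ B₁ → i = j
  pow : a ^ p ∈ B₁

theorem oprodS_decomp (φ : Γ →* MulAut M) {p : ℕ} {B₁ B : Subgroup Γ} {a : Γ}
    (h : RelCos p B₁ B a) (m : M) (hst : ∀ g ∈ B, φ g m = m → g ∈ B₁) :
    oprodS φ B m = ∏ i ∈ Finset.range p, φ (a ^ i) (oprodS φ B₁ m) := by
  classical
  have hset : orbS φ B m = (Finset.range p).biUnion
      (fun i => (orbS φ B₁ m).image (fun w => φ (a ^ i) w)) := by
    ext w
    rw [mem_orbS, Finset.mem_biUnion]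
    constructor
    · rintro ⟨g, hg, rfl⟩
      obtain ⟨i, hi, b₁, hb₁, rfl⟩ := h.cover g hg
      refine ⟨i, Finset.mem_range.mpr hi, Finset.mem_image.mpr ⟨φ b₁ m, ?_, ?_⟩⟩
      · exact (mem_orbS φ B₁ m _).mpr ⟨b₁, hb₁, rfl⟩
      · rw [apply_mul]
    · rintro ⟨i, _, hw⟩
      obtain ⟨w₁, hw₁, rfl⟩ := Finset.mem_image.mp hw
      obtain ⟨b₁, hb₁, rfl⟩ := (mem_orbS φ B₁ m w₁).mp hw₁
      exact ⟨a ^ i * b₁, mul_mem (pow_mem h.mem i) (h.le hb₁), apply_mul φ _ _ m⟩
  have hdisj : ((Finset.range p : Finset ℕ) : Set ℕ).PairwiseDisjoint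
      (fun i => (orbS φ B₁ m).image (fun w => φ (a ^ i) w)) := by
    intro i hi j hj hij
    rw [Function.onFun, Finset.disjoint_left]
    intro w hwi hwj
    apply hij
    obtain ⟨w₁, hw₁, e₁⟩ := Finset.mem_image.mp hwi
    obtain ⟨w₂, hw₂, e₂⟩ := Finset.mem_image.mp hwj
    obtain ⟨b₁, hb₁, rfl⟩ := (mem_orbS φ B₁ m w₁).mp hw₁
    obtain ⟨b₂, hb₂, rfl⟩ := (mem_orbS φ B₁ m w₂).mp hw₂
    have hi' : i < p := Finset.mem_range.mp hi
    have hj' : j < p := Finset.mem_range.mp hj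
    apply h.disj i hi' j hj'
    have e : φ ((a ^ j * b₂)⁻¹ * (a ^ i * b₁)) m = m := by
      have e₃ : φ (a ^ i * b₁) m = φ (a ^ j * b₂) m := by
        rw [apply_mul, apply_mul]
        exact e₁.trans e₂.symm
      rw [apply_mul, e₃, apply_inv_apply]
    have hmem : (a ^ j * b₂)⁻¹ * (a ^ i * b₁) ∈ B₁ := by
      apply hst _ _ e
      exact mul_mem (inv_mem (mul_mem (pow_mem h.mem j) (h.le hb₂)))
        (mul_mem (pow_mem h.mem i) (h.le hb₁))
    have e₄ : (a ^ j)⁻¹ * a ^ i = b₂ * ((a ^ j * b₂)⁻¹ * (a ^ i * b₁)) * b₁⁻¹ := by group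
    rw [e₄]
    exact mul_mem (mul_mem hb₂ hmem) (inv_mem hb₁)
  unfold oprodS at *
  rw [hset, Finset.prod_biUnion hdisj]
  apply Finset.prod_congr rfl
  intro i _
  rw [Finset.prod_image (fun w₁ _ w₂ _ hw => (φ (a ^ i)).injective hw), map_prod]


theorem fix_mono (φ : Γ →* MulAut M) {B₁ B : Subgroup Γ} (h : B₁ ≤ B) : fix φ B ≤ fix φ B₁ :=
  fun _ hv b hb => hv b (h hb)

theorem mem_fix_of_relCos (φ : Γ →* MulAut M) {p : ℕ} {B₁ B : Subgroup Γ} {a : Γ}
    (h : RelCos p B₁ B a) {v : M} (hv : v ∈ fix φ B₁) (hav : φ a v = v) : v ∈ fix φ B := by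
  intro g hg
  obtain ⟨i, _, b₁, hb₁, rfl⟩ := h.cover g hg
  rw [apply_mul, hv b₁ hb₁, apply_pow_fix φ a v hav]

/-- Vanishing of orbit products, odd `p`: if `A₁ < A` has index `p`, `|C_M(A₁)| ≤ p |C_M(A)|`
and the stabilizer of `m` in `A` lies in `A₁`, the product over the `A`-orbit of `m` is `1`. -/
theorem oprodS_eq_one_odd [Finite M] (φ : Γ →* MulAut M) (p : ℕ) [Fact p.Prime] (hp2 : p ≠ 2)
    (hMp : ∀ m : M, m ^ p = 1) (A A₁ : Subgroup Γ) (a : Γ) (hrc : RelCos p A₁ A a)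
    (hAab : ∀ x ∈ A, ∀ y ∈ A, x * y = y * x)
    (hcard : Nat.card (fix φ A₁) ≤ p * Nat.card (fix φ A))
    (m : M) (hst : ∀ g ∈ A, φ g m = m → g ∈ A₁) : oprodS φ A m = 1 := by
  classical
  have hp : p.Prime := Fact.out
  rw [oprodS_decomp φ hrc m hst]
  obtain ⟨u, hu⟩ : ∃ u, u = oprodS φ A₁ m := ⟨_, rfl⟩
  rw [← hu]
  have huf : u ∈ fix φ A₁ := hu ▸ oprodS_mem_fix φ A₁ m
  have hpres : ∀ v ∈ fix φ A₁, φ a v ∈ fix φ A₁ := by
    intro v hv b hb
    rw [← apply_mul, hAab b (hrc.le hb) a hrc.mem, apply_mul, hv b hb]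
  let δ : ↥(fix φ A₁) →* M :=
    { toFun := fun v => φ a (v : M) * (v : M)⁻¹
      map_one' := by simp
      map_mul' := by
        intro v w
        simp only [Subgroup.coe_mul, map_mul, mul_inv]
        exact mul_mul_mul_comm _ _ _ _ }
  have hδ : ∀ v : ↥(fix φ A₁), δ v = φ a (v : M) * (v : M)⁻¹ := fun _ => rfl
  -- the range of `δ` has at most `p` elements
  have hcardK : Nat.card δ.range ≤ p := by
    have h1 : Nat.card (fix φ A₁) = Nat.card (↥(fix φ A₁) ⧸ δ.ker) * Nat.card δ.ker :=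
      Subgroup.card_eq_card_quotient_mul_card_subgroup _
    have h2 : Nat.card (↥(fix φ A₁) ⧸ δ.ker) = Nat.card δ.range :=
      Nat.card_congr (QuotientGroup.quotientKerEquivRange δ).toEquiv
    have h3 : Nat.card (fix φ A) ≤ Nat.card δ.ker := by
      have hle := fix_mono φ hrc.le
      let f : ↥(fix φ A) → ↥δ.ker := fun v => ⟨⟨(v : M), hle v.2⟩, by
        rw [MonoidHom.mem_ker, hδ]
        show φ a (v : M) * (v : M)⁻¹ = 1
        rw [v.2 a hrc.mem, mul_inv_cancel]⟩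
      apply Nat.card_le_card_of_injective f
      intro v w hvw
      apply Subtype.ext
      exact congrArg (fun z : ↥δ.ker => ((z : ↥(fix φ A₁)) : M)) hvw
    rw [h2] at h1
    have hpos : 0 < Nat.card δ.ker := Nat.card_pos
    have h4 : Nat.card δ.range * Nat.card δ.ker ≤ p * Nat.card δ.ker := by
      rw [← h1]
      exact hcard.trans (Nat.mul_le_mul_left p h3)
    exact Nat.le_of_mul_le_mul_right h4 hpos
  obtain ⟨e, he⟩ : ∃ e, e = φ a u * u⁻¹ := ⟨_, rfl⟩
  have heK : e ∈ δ.range := ⟨⟨u, huf⟩, by rw [hδ, he]⟩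
  have hef : e ∈ fix φ A₁ := he ▸ mul_mem (hpres u huf) (inv_mem huf)
  have hKpres : ∀ k ∈ δ.range, φ a k ∈ δ.range := by
    rintro _ ⟨v, rfl⟩
    refine ⟨⟨φ a (v : M), hpres _ v.2⟩, ?_⟩
    rw [hδ, hδ, map_mul, map_inv]
  have hKpow : ∀ i : ℕ, ∀ k ∈ δ.range, φ (a ^ i) k ∈ δ.range := by
    intro i
    induction i with
    | zero => intro k hk; rw [pow_zero, apply_one]; exact hk
    | succ i ih =>
      intro k hk
      rw [pow_succ, apply_mul]
      exact ih _ (hKpres k hk)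
  have hap : ∀ v ∈ fix φ A₁, ∀ q : ℕ, φ (a ^ (p * q)) v = v := by
    intro v hv q
    rw [pow_mul]
    exact apply_pow_fix φ (a ^ p) v (hv _ hrc.pow) q
  -- `φ a` fixes `e`
  have hae : φ a e = e := by
    by_contra hne
    have he1 : e ≠ 1 := by
      intro h1
      apply hne
      rw [h1, map_one]
    have hinj : ∀ i < p, ∀ j < p, i ≤ j → φ (a ^ i) e = φ (a ^ j) e → i = j := by
      intro i hi j hj hij heq
      by_contra hij'
      have hlt : i < j := lt_of_le_of_ne hij hij'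
      obtain ⟨d, hd⟩ : ∃ d, d = j - i := ⟨_, rfl⟩
      have hd0 : 0 < d := by omega
      have hdp : d < p := by omega
      have hfix : φ (a ^ d) e = e := by
        have hj' : j = i + d := by omega
        rw [hj', pow_add, apply_mul] at heq
        exact ((φ (a ^ i)).injective heq).symm
      have hcop : Nat.Coprime d p := by
        rw [Nat.coprime_comm, hp.coprime_iff_not_dvd]
        intro hdvd
        exact absurd (Nat.le_of_dvd hd0 hdvd) (by omega)
      obtain ⟨k, -, hk⟩ := Nat.exists_mul_mod_eq_one_of_coprime hcop hp.one_lt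
      have hdk : d * k = p * (d * k / p) + 1 := by
        have := Nat.div_add_mod (d * k) p
        omega
      have h1 : φ (a ^ (d * k)) e = e := by
        rw [pow_mul]
        exact apply_pow_fix φ (a ^ d) e hfix k
      rw [hdk, pow_add, pow_one, apply_mul, hap _ (hpres e hef)] at h1
      exact hne h1
    let g : Option (Fin p) → ↥δ.range := fun o =>
      match o with
      | none => 1
      | some i => ⟨φ (a ^ (i : ℕ)) e, hKpow _ e heK⟩
    have hg : Function.Injective g := by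
      intro o₁ o₂ h12
      match o₁, o₂, h12 with
      | none, none, _ => rfl
      | none, some i, h12 =>
        exfalso
        have h' : (1 : M) = φ (a ^ (i : ℕ)) e := congrArg Subtype.val h12
        apply he1
        have : φ (a ^ (i : ℕ)) e = φ (a ^ (i : ℕ)) 1 := by rw [← h', map_one]
        exact (φ (a ^ (i : ℕ))).injective this
      | some i, none, h12 =>
        exfalso
        have h' : φ (a ^ (i : ℕ)) e = (1 : M) := congrArg Subtype.val h12
        apply he1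
        have : φ (a ^ (i : ℕ)) e = φ (a ^ (i : ℕ)) 1 := by rw [h', map_one]
        exact (φ (a ^ (i : ℕ))).injective this
      | some i, some j, h12 =>
        have h' : φ (a ^ (i : ℕ)) e = φ (a ^ (j : ℕ)) e := congrArg Subtype.val h12
        congr 1
        apply Fin.ext
        rcases le_total (i : ℕ) (j : ℕ) with hij | hij
        · exact hinj i i.2 j j.2 hij h'
        · exact (hinj j j.2 i i.2 hij h'.symm).symm
    have hc := Nat.card_le_card_of_injective g hg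
    rw [Nat.card_eq_fintype_card, Fintype.card_option, Fintype.card_fin] at hc
    omega
  have hpow : ∀ i : ℕ, φ (a ^ i) u = u * e ^ i := by
    intro i
    induction i with
    | zero => rw [pow_zero, apply_one, pow_zero, mul_one]
    | succ i ih =>
      have hau : φ a u = e * u := by rw [he, inv_mul_cancel_right]
      rw [pow_succ', apply_mul, ih, map_mul, map_pow, hae, hau, pow_succ]
      rw [mul_comm e u, mul_assoc, mul_comm e (e ^ i)]
  rw [Finset.prod_congr rfl (fun i _ => hpow i), Finset.prod_mul_distrib, Finset.prod_const,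
    Finset.card_range, hMp u, one_mul, Finset.prod_pow_eq_pow_sum]
  obtain ⟨k, hk⟩ : ∃ k, p = 2 * k + 1 := by
    rcases hp.eq_two_or_odd with h2 | hodd
    · exact absurd h2 hp2
    · exact ⟨p / 2, by omega⟩
  have hsum : ∑ i ∈ Finset.range p, i = p * k := by
    have h1 := Finset.sum_range_id_mul_two p
    have h2 : p * (p - 1) = p * k * 2 := by
      have : p - 1 = 2 * k := by omega
      rw [this]; ring
    rw [h2] at h1
    exact Nat.eq_of_mul_eq_mul_right (by norm_num) h1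
  rw [hsum, pow_mul, hMp e, one_pow]

/-- Vanishing of orbit products, `p = 2`: if `A₂ < A₁ < A` with indices `2`,
`|C_M(A₂)| ≤ 4 |C_M(A)|` and the stabilizer of `m` in `A` lies in `A₂`, the product over the
`A`-orbit of `m` is `1`. -/
theorem oprodS_eq_one_two [Finite M] (φ : Γ →* MulAut M)
    (hM2 : ∀ m : M, m * m = 1) (A A₁ A₂ : Subgroup Γ) (c₁ c₂ : Γ)
    (h₁ : RelCos 2 A₂ A₁ c₁) (h₂ : RelCos 2 A₁ A c₂)
    (hAab : ∀ x ∈ A, ∀ y ∈ A, x * y = y * x)
    (hcard : Nat.card (fix φ A₂) ≤ 4 * Nat.card (fix φ A))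
    (m : M) (hst : ∀ g ∈ A, φ g m = m → g ∈ A₂) : oprodS φ A m = 1 := by
  classical
  have hc₁A : c₁ ∈ A := h₂.le h₁.mem
  have hA₂A : A₂ ≤ A := h₁.le.trans h₂.le
  rw [oprodS_decomp φ h₂ m (fun g hg hgm => h₁.le (hst g hg hgm))]
  rw [oprodS_decomp φ h₁ m (fun g hg hgm => hst g (h₂.le hg) hgm)]
  obtain ⟨u, hu⟩ : ∃ u, u = oprodS φ A₂ m := ⟨_, rfl⟩
  rw [← hu]
  have huf : u ∈ fix φ A₂ := hu ▸ oprodS_mem_fix φ A₂ m
  have hpres₁ : ∀ v ∈ fix φ A₂, φ c₁ v ∈ fix φ A₂ := by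
    intro v hv b hb
    rw [← apply_mul, hAab b (hA₂A hb) c₁ hc₁A, apply_mul, hv b hb]
  have hpres₂ : ∀ v ∈ fix φ A₂, φ c₂ v ∈ fix φ A₂ := by
    intro v hv b hb
    rw [← apply_mul, hAab b (hA₂A hb) c₂ h₂.mem, apply_mul, hv b hb]
  let δ : ↥(fix φ A₂) →* M :=
    { toFun := fun v => φ c₁ (v : M) * (v : M)
      map_one' := by simp
      map_mul' := by
        intro v w
        simp only [Subgroup.coe_mul, map_mul]
        exact mul_mul_mul_comm _ _ _ _ }
  have hδ : ∀ v : ↥(fix φ A₂), δ v = φ c₁ (v : M) * (v : M) := fun _ => rfl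
  have hc₁sq : ∀ v ∈ fix φ A₂, φ c₁ (φ c₁ v) = v := by
    intro v hv
    rw [← apply_mul, ← pow_two]
    exact hv _ h₁.pow
  -- the range of `δ` is fixed by `A₁`
  have hKfix : ∀ k ∈ δ.range, k ∈ fix φ A₁ := by
    rintro _ ⟨v, rfl⟩
    apply mem_fix_of_relCos φ h₁
    · exact mul_mem (hpres₁ _ v.2) v.2
    · rw [hδ, map_mul, hc₁sq _ v.2, mul_comm]
  have hKpres : ∀ k ∈ δ.range, φ c₂ k ∈ δ.range := by
    rintro _ ⟨v, rfl⟩
    refine ⟨⟨φ c₂ (v : M), hpres₂ _ v.2⟩, ?_⟩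
    rw [hδ, hδ, map_mul]
    congr 1
    rw [← apply_mul, ← apply_mul, hAab c₁ hc₁A c₂ h₂.mem]
  obtain ⟨u₁, hu₁⟩ : ∃ u₁, u₁ = φ c₁ u * u := ⟨_, rfl⟩
  have hu₁K : u₁ ∈ δ.range := ⟨⟨u, huf⟩, by rw [hδ, hu₁]⟩
  have hprod₁ : ∏ i ∈ Finset.range 2, φ (c₁ ^ i) u = u₁ := by
    rw [Finset.prod_range_succ, Finset.prod_range_one, pow_zero, apply_one, pow_one, hu₁, mul_comm]
  rw [hprod₁, Finset.prod_range_succ, Finset.prod_range_one, pow_zero, apply_one, pow_one]
  -- `φ c₂` fixes `u₁`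
  have hfix : φ c₂ u₁ = u₁ := by
    by_cases hK : Nat.card δ.range ≤ 2
    · by_contra hne
      have hu1 : u₁ ≠ 1 := by
        intro h1
        apply hne
        rw [h1, map_one]
      have hcu1 : φ c₂ u₁ ≠ 1 := by
        intro h1
        apply hu1
        have : φ c₂ u₁ = φ c₂ 1 := by rw [h1, map_one]
        exact (φ c₂).injective this
      have hpos : 0 < Nat.card δ.range := Nat.card_pos
      have hcases : Nat.card δ.range = 1 ∨ Nat.card δ.range = 2 := by omega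
      rcases hcases with h1 | h2
      · have hbot : δ.range = ⊥ := Subgroup.card_eq_one.mp h1
        rw [hbot] at hu₁K
        exact hu1 (Subgroup.mem_bot.mp hu₁K)
      · obtain ⟨y, -, hy⟩ := (Nat.card_eq_two_iff' (1 : ↥δ.range)).mp h2
        have e1 : (⟨u₁, hu₁K⟩ : ↥δ.range) = y := hy _ (fun h => hu1 (congrArg Subtype.val h))
        have e2 : (⟨φ c₂ u₁, hKpres _ hu₁K⟩ : ↥δ.range) = y :=
          hy _ (fun h => hcu1 (congrArg Subtype.val h))
        exact hne (congrArg Subtype.val (e2.trans e1.symm))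
    · push Not at hK
      -- then `C_M(A₁) = C_M(A)`
      have h1 : Nat.card (fix φ A₂) = Nat.card (↥(fix φ A₂) ⧸ δ.ker) * Nat.card δ.ker :=
        Subgroup.card_eq_card_quotient_mul_card_subgroup _
      have h2 : Nat.card (↥(fix φ A₂) ⧸ δ.ker) = Nat.card δ.range :=
        Nat.card_congr (QuotientGroup.quotientKerEquivRange δ).toEquiv
      have h3 : Nat.card (fix φ A₁) ≤ Nat.card δ.ker := by
        have hle := fix_mono φ h₁.le
        let f : ↥(fix φ A₁) → ↥δ.ker := fun v => ⟨⟨(v : M), hle v.2⟩, by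
          rw [MonoidHom.mem_ker, hδ]
          show φ c₁ (v : M) * (v : M) = 1
          rw [v.2 c₁ h₁.mem, hM2]⟩
        apply Nat.card_le_card_of_injective f
        intro v w hvw
        apply Subtype.ext
        exact congrArg (fun z : ↥δ.ker => ((z : ↥(fix φ A₂)) : M)) hvw
      rw [h2] at h1
      have hle : fix φ A ≤ fix φ A₁ := fix_mono φ h₂.le
      obtain ⟨k, hk⟩ := Subgroup.card_dvd_of_le hle
      have hposA : 0 < Nat.card (fix φ A) := Nat.card_pos
      have hpos₁ : 0 < Nat.card (fix φ A₁) := Nat.card_pos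
      have h4 : 3 * Nat.card (fix φ A₁) ≤ 4 * Nat.card (fix φ A) := by
        calc 3 * Nat.card (fix φ A₁) ≤ Nat.card δ.range * Nat.card δ.ker :=
              Nat.mul_le_mul hK h3
          _ = Nat.card (fix φ A₂) := h1.symm
          _ ≤ _ := hcard
      have hk1 : k = 1 := by
        rw [hk] at h4 hpos₁
        have hk0 : 0 < k := Nat.pos_of_mul_pos_left hpos₁ |> fun h => by
          rcases Nat.eq_zero_or_pos k with h0 | h0
          · rw [h0, Nat.mul_zero] at hpos₁; exact absurd hpos₁ (lt_irrefl 0)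
          · exact h0
        by_contra hk1
        have hk2 : 2 ≤ k := by omega
        have : 3 * (Nat.card (fix φ A) * 2) ≤ 3 * (Nat.card (fix φ A) * k) :=
          Nat.mul_le_mul_left 3 (Nat.mul_le_mul_left _ hk2)
        omega
      rw [hk1, mul_one] at hk
      have heq : fix φ A = fix φ A₁ := Subgroup.eq_of_le_of_card_ge hle hk.le
      have : u₁ ∈ fix φ A := heq ▸ hKfix u₁ hu₁K
      exact this c₂ h₂.mem
  rw [hfix, hM2]


/-! ### Coset representatives in abelian `p`-groups -/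

theorem exists_relCos (p : ℕ) [Fact p.Prime] (A A₁ : Subgroup Γ) (hle : A₁ ≤ A)
    (hAab : ∀ x ∈ A, ∀ y ∈ A, x * y = y * x) (hcard : Nat.card A = p * Nat.card A₁) :
    ∃ a, RelCos p A₁ A a := by
  classical
  have hp : p.Prime := Fact.out
  obtain ⟨N, hN⟩ : ∃ N : Subgroup ↥A, N = A₁.subgroupOf A := ⟨_, rfl⟩
  have hNmem : ∀ z : ↥A, z ∈ N ↔ (z : Γ) ∈ A₁ := fun z => by rw [hN, Subgroup.mem_subgroupOf]
  haveI hNn : N.Normal := by
    constructor
    intro n hn g
    have : g * n * g⁻¹ = n := by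
      apply Subtype.ext
      show (g : Γ) * n * (g : Γ)⁻¹ = n
      rw [hAab _ g.2 _ n.2]
      group
    rwa [this]
  have hcN : Nat.card N = Nat.card A₁ := by
    rw [hN]
    exact Nat.card_congr (Subgroup.subgroupOfEquivOfLe hle).toEquiv
  have hQ : Nat.card (↥A ⧸ N) = p := by
    have h1 := Subgroup.card_mul_index N
    rw [hcN, hcard] at h1
    have hpos : 0 < Nat.card A₁ := Nat.card_pos
    have h2 : Nat.card A₁ * N.index = Nat.card A₁ * p := by rw [h1]; ring
    exact Nat.eq_of_mul_eq_mul_left hpos h2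
  haveI : Finite (↥A ⧸ N) := Nat.finite_of_card_ne_zero (by rw [hQ]; exact hp.ne_zero)
  haveI : Nontrivial (↥A ⧸ N) := by
    rw [← Finite.one_lt_card_iff_nontrivial, hQ]
    exact hp.one_lt
  obtain ⟨q, hq⟩ := exists_ne (1 : ↥A ⧸ N)
  obtain ⟨a', rfl⟩ := QuotientGroup.mk_surjective q
  have htop : Subgroup.zpowers (QuotientGroup.mk a' : ↥A ⧸ N) = ⊤ :=
    zpowers_eq_top_of_prime_card hQ hq
  have hqp : (QuotientGroup.mk a' : ↥A ⧸ N) ^ p = 1 := by
    have := pow_card_eq_one' (G := ↥A ⧸ N) (x := QuotientGroup.mk a')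
    rwa [hQ] at this
  have hord : orderOf (QuotientGroup.mk a' : ↥A ⧸ N) = p := orderOf_eq_prime hqp hq
  have hmk : ∀ (i : ℕ) (g : ↥A), (QuotientGroup.mk a' : ↥A ⧸ N) ^ i = QuotientGroup.mk g ↔
      ((a' : Γ) ^ i)⁻¹ * (g : Γ) ∈ A₁ := by
    intro i g
    rw [← QuotientGroup.mk_pow, QuotientGroup.eq, hNmem]
    rfl
  refine ⟨(a' : Γ), hle, a'.2, ?_, ?_, ?_⟩
  · intro g hg
    have hmem : (QuotientGroup.mk (⟨g, hg⟩ : ↥A) : ↥A ⧸ N) ∈
        Subgroup.zpowers (QuotientGroup.mk a' : ↥A ⧸ N) := by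
      rw [htop]; exact Subgroup.mem_top _
    rw [mem_zpowers_iff_mem_range_orderOf, hord] at hmem
    obtain ⟨i, hi, hi'⟩ := Finset.mem_image.mp hmem
    refine ⟨i, Finset.mem_range.mp hi, ((a' : Γ) ^ i)⁻¹ * g, (hmk i ⟨g, hg⟩).mp hi', ?_⟩
    group
  · intro i hi j hj hij
    have h1 : (QuotientGroup.mk a' : ↥A ⧸ N) ^ j = QuotientGroup.mk (a' ^ i) := by
      rw [hmk]
      exact hij
    rw [QuotientGroup.mk_pow, pow_eq_pow_iff_modEq, hord] at h1
    exact (Nat.ModEq.eq_of_lt_of_lt h1 hj hi).symm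
  · have h1 : (QuotientGroup.mk a' : ↥A ⧸ N) ^ p = QuotientGroup.mk (1 : ↥A) := by
      rw [hqp]; rfl
    rw [hmk] at h1
    have h2 : (a' : Γ) ^ p = (((a' : Γ) ^ p)⁻¹ * ((1 : ↥A) : Γ))⁻¹ := by
      rw [Subgroup.coe_one]; group
    rw [h2]
    exact inv_mem h1

theorem exists_between (p : ℕ) [Fact p.Prime] (A B : Subgroup Γ) (hBA : B ≤ A)
    {n k : ℕ} (hB : Nat.card B = p ^ n) (hk : p ^ k ∣ Nat.card A) (hnk : n ≤ k) :
    ∃ K : Subgroup Γ, B ≤ K ∧ K ≤ A ∧ Nat.card K = p ^ k := by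
  have hcB : Nat.card (B.subgroupOf A) = p ^ n := by
    rw [← hB]
    exact Nat.card_congr (Subgroup.subgroupOfEquivOfLe hBA).toEquiv
  obtain ⟨K', hK', hBK'⟩ := Sylow.exists_subgroup_card_pow_prime_le p hk (B.subgroupOf A) hcB hnk
  refine ⟨K'.map A.subtype, ?_, Subgroup.map_subtype_le _, ?_⟩
  · intro b hb
    exact ⟨⟨b, hBA hb⟩, hBK' (Subgroup.mem_subgroupOf.mpr hb), rfl⟩
  · rw [Subgroup.card_map_of_injective A.subtype_injective, hK']

theorem exists_index_p (p : ℕ) [Fact p.Prime] (A B : Subgroup Γ) (hA : IsPGroup p A)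
    (hBA : B ≤ A) (hne : B ≠ A) :
    ∃ A₁ : Subgroup Γ, B ≤ A₁ ∧ A₁ ≤ A ∧ Nat.card A = p * Nat.card A₁ := by
  obtain ⟨N, hN⟩ := hA.exists_card_eq
  obtain ⟨n, hn⟩ := (hA.to_le hBA).exists_card_eq
  have hp : p.Prime := Fact.out
  have hnN : n ≤ N := by
    have h1 := Subgroup.card_dvd_of_le hBA
    rw [hN, hn] at h1
    exact (Nat.pow_dvd_pow_iff_le_right hp.one_lt).mp h1
  have hnN' : n ≠ N := by
    intro h
    apply hne
    apply Subgroup.eq_of_le_of_card_ge hBA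
    rw [hN, hn, h]
  obtain ⟨K, hBK, hKA, hK⟩ := exists_between p A B hBA hn
    (show p ^ (N - 1) ∣ Nat.card A by rw [hN]; exact pow_dvd_pow p (by omega)) (by omega)
  refine ⟨K, hBK, hKA, ?_⟩
  rw [hN, hK, ← pow_succ']
  congr 1
  omega

theorem exists_chain (p : ℕ) [Fact p.Prime] (A B : Subgroup Γ) (hA : IsPGroup p A)
    (hBA : B ≤ A) (hne : B ≠ A) (hne2 : Nat.card A ≠ p * Nat.card B) :
    ∃ A₂ A₁ : Subgroup Γ, B ≤ A₂ ∧ A₂ ≤ A₁ ∧ A₁ ≤ A ∧ Nat.card A₁ = p * Nat.card A₂ ∧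
      Nat.card A = p * Nat.card A₁ := by
  obtain ⟨N, hN⟩ := hA.exists_card_eq
  obtain ⟨n, hn⟩ := (hA.to_le hBA).exists_card_eq
  have hp : p.Prime := Fact.out
  have hnN : n ≤ N := by
    have h1 := Subgroup.card_dvd_of_le hBA
    rw [hN, hn] at h1
    exact (Nat.pow_dvd_pow_iff_le_right hp.one_lt).mp h1
  have hnN' : n ≠ N := by
    intro h
    apply hne
    apply Subgroup.eq_of_le_of_card_ge hBA
    rw [hN, hn, h]
  have hnN2 : N ≠ n + 1 := by
    intro h
    apply hne2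
    rw [hN, hn, h, pow_succ']
  obtain ⟨K₂, hBK₂, hK₂A, hK₂⟩ := exists_between p A B hBA hn
    (show p ^ (N - 2) ∣ Nat.card A by rw [hN]; exact pow_dvd_pow p (by omega)) (by omega)
  obtain ⟨K₁, hK₂K₁, hK₁A, hK₁⟩ := exists_between p A K₂ hK₂A hK₂
    (show p ^ (N - 1) ∣ Nat.card A by rw [hN]; exact pow_dvd_pow p (by omega)) (by omega)
  refine ⟨K₂, K₁, hBK₂, hK₂K₁, hK₁A, ?_, ?_⟩
  · rw [hK₁, hK₂, ← pow_succ']
    congr 1
    omega
  · rw [hN, hK₁, ← pow_succ']
    congr 1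
    omega

/-- Orbit products of an abelian `p`-subgroup with the "Thompson bound" on fixed points vanish,
except possibly for orbits of length `2`. -/
theorem good_or_bad [Finite M] (φ : Γ →* MulAut M) (p : ℕ) [Fact p.Prime]
    (hMp : ∀ m : M, m ^ p = 1) (A : Subgroup Γ) (hA : IsPGroup p A)
    (hAab : ∀ x ∈ A, ∀ y ∈ A, x * y = y * x)
    (hH : ∀ B : Subgroup Γ, B ≤ A →
      Nat.card (fix φ B) * Nat.card B ≤ Nat.card A * Nat.card (fix φ A))
    (d : M) : (∀ a ∈ A, φ a d = d) ∨ oprodS φ A d = 1 ∨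
      (p = 2 ∧ Nat.card A = 2 * Nat.card ↥(A ⊓ stab φ d)) := by
  obtain ⟨B, hB⟩ : ∃ B, B = A ⊓ stab φ d := ⟨_, rfl⟩
  have hBA : B ≤ A := hB ▸ inf_le_left
  have hst : ∀ g ∈ A, φ g d = d → g ∈ B := by
    intro g hg hgd
    rw [hB]
    exact Subgroup.mem_inf.mpr ⟨hg, hgd⟩
  by_cases hBeq : B = A
  · left
    intro a ha
    have : a ∈ B := hBeq ▸ ha
    rw [hB] at this
    exact (Subgroup.mem_inf.mp this).2
  · right
    by_cases hp2 : p = 2
    · by_cases hc : Nat.card A = p * Nat.card B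
      · right
        rw [← hB]
        exact ⟨hp2, hp2 ▸ hc⟩
      · left
        obtain ⟨A₂, A₁, hBA₂, hA₂A₁, hA₁A, hc₁, hc₂⟩ := exists_chain p A B hA hBA hBeq hc
        subst hp2
        obtain ⟨c₁, hrc₁⟩ := exists_relCos 2 A₁ A₂ hA₂A₁
          (fun x hx y hy => hAab x (hA₁A hx) y (hA₁A hy)) hc₁
        obtain ⟨c₂, hrc₂⟩ := exists_relCos 2 A A₁ hA₁A hAab hc₂
        have hM2 : ∀ m : M, m * m = 1 := fun m => by rw [← pow_two]; exact hMp m
        have hbd := hH A₂ (hA₂A₁.trans hA₁A)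
        have hpos : 0 < Nat.card A₂ := Nat.card_pos
        have hcard : Nat.card (fix φ A₂) ≤ 4 * Nat.card (fix φ A) := by
          have h4 : Nat.card A = 4 * Nat.card A₂ := by rw [hc₂, hc₁]; ring
          rw [h4] at hbd
          have : Nat.card (fix φ A₂) * Nat.card A₂ ≤ 4 * Nat.card (fix φ A) * Nat.card A₂ := by
            calc _ ≤ 4 * Nat.card A₂ * Nat.card (fix φ A) := hbd
              _ = _ := by ring
          exact Nat.le_of_mul_le_mul_right this hpos
        exact oprodS_eq_one_two φ hM2 A A₁ A₂ c₁ c₂ hrc₁ hrc₂ hAab hcard d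
          (fun g hg hgd => hBA₂ (hst g hg hgd))
    · left
      obtain ⟨A₁, hBA₁, hA₁A, hc⟩ := exists_index_p p A B hA hBA hBeq
      obtain ⟨a, hrc⟩ := exists_relCos p A A₁ hA₁A hAab hc
      have hbd := hH A₁ hA₁A
      have hpos : 0 < Nat.card A₁ := Nat.card_pos
      have hcard : Nat.card (fix φ A₁) ≤ p * Nat.card (fix φ A) := by
        rw [hc] at hbd
        have : Nat.card (fix φ A₁) * Nat.card A₁ ≤ p * Nat.card (fix φ A) * Nat.card A₁ := by
          calc _ ≤ p * Nat.card A₁ * Nat.card (fix φ A) := hbd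
            _ = _ := by ring
        exact Nat.le_of_mul_le_mul_right this hpos
      exact oprodS_eq_one_odd φ p hp2 hMp A A₁ a hrc hAab hcard d
        (fun g hg hgd => hBA₁ (hst g hg hgd))


/-! ### The induction principle -/

/-- a proper subgroup of a finite `p`-group lies in a proper normal subgroup -/
theorem exists_normal_proper (p : ℕ) [Fact p.Prime] (R A : Subgroup Γ) (hR : IsPGroup p R)
    (hAR : A ≤ R) (hne : A ≠ R) :
    ∃ R₁ : Subgroup Γ, A ≤ R₁ ∧ R₁ ≤ R ∧ R₁ ≠ R ∧ ∀ r ∈ R, ∀ y ∈ R₁, r * y * r⁻¹ ∈ R₁ := by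
  have hAtop : A.subgroupOf R ≠ ⊤ := by
    intro h
    rw [Subgroup.subgroupOf_eq_top] at h
    exact hne (le_antisymm hAR h)
  haveI : Group.IsNilpotent ↥R := hR.isNilpotent
  rcases eq_top_or_exists_le_coatom (A.subgroupOf R) with h | ⟨K, hK, hAK⟩
  · exact absurd h hAtop
  · haveI hKn : K.Normal :=
      Subgroup.NormalizerCondition.normal_of_coatom K Group.normalizerCondition_of_isNilpotent hK
    refine ⟨K.map R.subtype, ?_, Subgroup.map_subtype_le _, ?_, ?_⟩
    · intro a ha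
      exact ⟨⟨a, hAR ha⟩, hAK (Subgroup.mem_subgroupOf.mpr ha), rfl⟩
    · intro h
      apply hK.1
      rw [eq_top_iff]
      intro r _
      have hr : (r : Γ) ∈ K.map R.subtype := by rw [h]; exact r.2
      obtain ⟨k, hk, hkr⟩ := hr
      have : k = r := Subtype.ext hkr
      rwa [← this]
    · rintro r hr _ ⟨k, hk, rfl⟩
      exact ⟨⟨r, hr⟩ * k * ⟨r, hr⟩⁻¹, hKn.conj_mem k hk ⟨r, hr⟩, rfl⟩

/-- **Orbit induction.** Let `P` be a `p`-group, `𝓐` a `P`-invariant set of subgroups and `R ≤ P`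
generated by members of `𝓐`.  If `D` is an `R`-invariant finite set on which every member of `𝓐`
has only fixed points and orbits with product `1`, and the only possible `R`-fixed point of `D`
is `1`, then the product of `D` is `1`. -/
theorem prod_eq_one_aux (φ : Γ →* MulAut M) (p : ℕ) [Fact p.Prime] (P : Subgroup Γ)
    (hP : IsPGroup p P) (𝓐 : Set (Subgroup Γ))
    (h𝓐 : ∀ A ∈ 𝓐, ∀ g ∈ P, A.map (MulAut.conj g).toMonoidHom ∈ 𝓐) :
    ∀ n : ℕ, ∀ R : Subgroup Γ, Nat.card R = n → R ≤ P → R = sSup {A | A ∈ 𝓐 ∧ A ≤ R} →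
    ∀ k : ℕ, ∀ D : Finset M, D.card = k → (∀ r ∈ R, ∀ d ∈ D, φ r d ∈ D) →
      (∀ A ∈ 𝓐, A ≤ R → ∀ d ∈ D, (∀ a ∈ A, φ a d = d) ∨ oprodS φ A d = 1) →
      (∀ d ∈ D, (∀ r ∈ R, φ r d = d) → d = 1) → ∏ d ∈ D, d = 1 := by
  classical
  intro n
  induction n using Nat.strong_induction_on with
  | _ n ihn =>
  intro R hRn hRP hRgen k
  induction k using Nat.strong_induction_on with
  | _ k ihk =>
  intro D hDk hDinv hgood hfp
  by_cases hall : ∀ d ∈ D, ∀ r ∈ R, φ r d = d
  · exact Finset.prod_eq_one (fun d hd => hfp d hd (hall d hd))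
  · push Not at hall
    obtain ⟨m, hmD, r₀, hr₀, hr₀m⟩ := hall
    obtain ⟨O, hO⟩ : ∃ O, O = orbS φ R m := ⟨_, rfl⟩
    have hOD : O ⊆ D := by
      intro w hw
      rw [hO] at hw
      obtain ⟨r, hr, rfl⟩ := (mem_orbS φ R m w).mp hw
      exact hDinv r hr m hmD
    have hmO : m ∈ O := hO ▸ self_mem_orbS φ R m
    rw [← Finset.prod_sdiff hOD]
    -- the product over the complement
    have h1 : ∏ d ∈ D \ O, d = 1 := by
      apply ihk (D \ O).card _ (D \ O) rfl
      · intro r hr d hd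
        rw [Finset.mem_sdiff] at hd ⊢
        refine ⟨hDinv r hr d hd.1, ?_⟩
        intro hcon
        apply hd.2
        rw [hO] at hcon ⊢
        have := apply_mem_orbS φ R m (inv_mem hr) hcon
        rwa [apply_inv_apply] at this
      · intro A hA hAR d hd
        exact hgood A hA hAR d (Finset.mem_sdiff.mp hd).1
      · intro d hd hdfix
        exact hfp d (Finset.mem_sdiff.mp hd).1 hdfix
      · rw [← hDk]
        apply Finset.card_lt_card
        refine ⟨Finset.sdiff_subset, ?_⟩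
        intro hsub
        exact (Finset.mem_sdiff.mp (hsub hmD)).2 hmO
    rw [h1, one_mul]
    -- the product over the orbit
    have hex : ∃ A, A ∈ 𝓐 ∧ A ≤ R ∧ ¬ A ≤ stab φ m := by
      by_contra hcon
      push Not at hcon
      have : R ≤ stab φ m := by
        rw [hRgen]
        apply sSup_le
        rintro A ⟨hA, hAR⟩
        exact hcon A hA (hRgen ▸ hAR)
      exact hr₀m (this hr₀)
    obtain ⟨A, hA, hAR, hAm⟩ := hex
    have hAm' : ¬ ∀ a ∈ A, φ a m = m := fun h => hAm (fun a ha => h a ha)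
    by_cases hAeq : A = R
    · rcases hgood A hA hAR m hmD with h | h
      · exact absurd h hAm'
      · rw [hO, ← hAeq]
        exact h
    · obtain ⟨R₁, hAR₁, hR₁R, hR₁ne, hR₁n⟩ := exists_normal_proper p R A (hP.to_le hRP) hAR hAeq
      obtain ⟨R₂, hR₂⟩ : ∃ R₂, R₂ = sSup {A' | A' ∈ 𝓐 ∧ A' ≤ R₁} := ⟨_, rfl⟩
      have hR₂R₁ : R₂ ≤ R₁ := by
        rw [hR₂]
        exact sSup_le (fun A' hA' => hA'.2)
      have hAR₂ : A ≤ R₂ := by
        rw [hR₂]
        exact le_sSup ⟨hA, hAR₁⟩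
      have hR₂R : R₂ ≤ R := hR₂R₁.trans hR₁R
      have hR₂lt : Nat.card R₂ < n := by
        rw [← hRn]
        by_contra hge
        push Not at hge
        have heq : R₂ = R := Subgroup.eq_of_le_of_card_ge hR₂R hge
        exact hR₁ne (le_antisymm hR₁R (heq ▸ hR₂R₁))
      have hR₂gen : R₂ = sSup {A' | A' ∈ 𝓐 ∧ A' ≤ R₂} := by
        apply le_antisymm
        · conv_lhs => rw [hR₂]
          apply sSup_le
          rintro A' ⟨hA', hA'R₁⟩
          exact le_sSup ⟨hA', by rw [hR₂]; exact le_sSup ⟨hA', hA'R₁⟩⟩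
        · exact sSup_le (fun A' hA' => hA'.2)
      -- `R₂` is normalized by `R`
      have hR₂n : ∀ r ∈ R, ∀ y ∈ R₂, r⁻¹ * y * r ∈ R₂ := by
        intro r hr y hy
        have hmap : R₂.map (MulAut.conj r⁻¹).toMonoidHom ≤ R₂ := by
          conv_lhs => rw [hR₂]
          rw [(Subgroup.gc_map_comap (MulAut.conj r⁻¹).toMonoidHom).l_sSup]
          apply iSup₂_le
          rintro A' ⟨hA', hA'R₁⟩
          rw [hR₂]
          apply le_sSup
          refine ⟨h𝓐 A' hA' r⁻¹ (hRP (inv_mem hr)), ?_⟩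
          rintro _ ⟨a', ha', rfl⟩
          have := hR₁n r⁻¹ (inv_mem hr) a' (hA'R₁ ha')
          simpa [MulAut.conj_apply] using this
        have : (MulAut.conj r⁻¹).toMonoidHom y ∈ R₂ := hmap ⟨y, hy, rfl⟩
        simpa [MulAut.conj_apply] using this
      have hfixinv : ∀ r ∈ R, ∀ w, (∀ y ∈ R₂, φ y w = w) → ∀ y ∈ R₂, φ y (φ r w) = φ r w := by
        intro r hr w hw y hy
        have e : y * r = r * (r⁻¹ * y * r) := by group
        rw [← apply_mul, e, apply_mul, hw _ (hR₂n r hr y hy)]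
      have h2 := ihn (Nat.card R₂) hR₂lt R₂ rfl (hR₂R.trans hRP) hR₂gen O.card O rfl
        (fun r hr d hd => by
          rw [hO] at hd ⊢
          exact apply_mem_orbS φ R m (hR₂R hr) hd)
        (fun A' hA' hA'R₂ d hd => hgood A' hA' (hA'R₂.trans hR₂R) d (hOD hd))
        (fun d hd hdfix => by
          exfalso
          rw [hO] at hd
          obtain ⟨r, hr, rfl⟩ := (mem_orbS φ R m d).mp hd
          apply hAm'
          intro a ha
          have h3 := hfixinv r⁻¹ (inv_mem hr) (φ r m) hdfix a (hAR₂ ha)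
          rwa [apply_inv_apply] at h3)
      exact h2

/-- **Orbit induction**, for the join of the family. -/
theorem prod_eq_one (φ : Γ →* MulAut M) (p : ℕ) [Fact p.Prime] (P : Subgroup Γ)
    (hP : IsPGroup p P) (𝓐 : Set (Subgroup Γ)) (h𝓐P : ∀ A ∈ 𝓐, A ≤ P)
    (h𝓐 : ∀ A ∈ 𝓐, ∀ g ∈ P, A.map (MulAut.conj g).toMonoidHom ∈ 𝓐)
    (D : Finset M) (hDinv : ∀ r ∈ P, ∀ d ∈ D, φ r d ∈ D)
    (hgood : ∀ A ∈ 𝓐, ∀ d ∈ D, (∀ a ∈ A, φ a d = d) ∨ oprodS φ A d = 1)
    (hfp : ∀ d ∈ D, (∀ r ∈ sSup 𝓐, φ r d = d) → d = 1) : ∏ d ∈ D, d = 1 := by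
  have hJP : sSup 𝓐 ≤ P := sSup_le h𝓐P
  have hgen : sSup 𝓐 = sSup {A | A ∈ 𝓐 ∧ A ≤ sSup 𝓐} := by
    congr 1
    ext A
    exact ⟨fun h => ⟨h, le_sSup h⟩, fun h => h.1⟩
  exact prod_eq_one_aux φ p P hP 𝓐 h𝓐 _ (sSup 𝓐) rfl hJP hgen _ D rfl
    (fun r hr d hd => hDinv r (hJP hr) d hd) (fun A hA _ d hd => hgood A hA d hd) hfp

end Orbit

end Cfsg.Agent.Lib.Helper11.OrbProd
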