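import Mathlib
import Cfsg.Agent.Lib.Helper11.OrbProd
import Cfsg.Agent.Lib.Helper11.ZJFam
import Cfsg.Agent.Lib.Helper33.Conj

/-!
# Glauberman's weak closure argument: the core

Setting: a finite group `G`, an abelian group `M` of exponent `p` embedded `G`-equivariantly in
`G` by `ι` (a normal elementary abelian subgroup), an element `x` with a map `c : G → M` such that
`ι (c g) = [g, x]`.  If `x` is centralized by a Sylow `p`-subgroup `S` and by the normalizer of
the join `J` of a conjugation-invariant family of subgroups of `S` whose orbit products on the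
`c g` vanish, then `x` is central.
-/

set_option autoImplicit false
set_option linter.unusedSectionVars false
set_option linter.unusedVariables false
set_option linter.style.haveILetI false

namespace Cfsg.Agent.Lib.Helper11.WeakCl

open Cfsg.Agent.Lib.Helper2.Offender Cfsg.Agent.Lib.Helper11.OrbProd
open Cfsg.Agent.Lib.Helper11.ZJFam Cfsg.Agent.Lib.Helper33.Conj

variable {G M : Type*} [Group G] [CommGroup M] [Finite G]

/-! ### The Thompson bound -/

theorem mem_fix_of_mem (φ : G →* MulAut M) (ι : M →* G)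
    (hι : ∀ g m, ι (φ g m) = g * ι m * g⁻¹) (hιinj : Function.Injective ι)
    (A : Subgroup G) (hAab : ∀ x ∈ A, ∀ y ∈ A, x * y = y * x) (m : M) (hm : ι m ∈ A) :
    m ∈ fix φ A := by
  intro a ha
  apply hιinj
  rw [hι, hAab a ha _ hm]
  group

theorem commute_of_mem_fix (φ : G →* MulAut M) (ι : M →* G)
    (hι : ∀ g m, ι (φ g m) = g * ι m * g⁻¹) (B : Subgroup G) {b : G} (hb : b ∈ B) {m : M}
    (hm : m ∈ fix φ B) : b * ι m = ι m * b := by
  have h := hι b m
  rw [hm b hb] at h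
  calc b * ι m = b * ι m * b⁻¹ * b := by group
    _ = ι m * b := by rw [← h]

theorem hchain (φ : G →* MulAut M) (ι : M →* G)
    (hι : ∀ g m, ι (φ g m) = g * ι m * g⁻¹) (hιinj : Function.Injective ι)
    (S : Subgroup G) (hVS : ∀ m, ι m ∈ S) (A : Subgroup G) (hA : A ∈ famA S)
    (B : Subgroup G) (hBA : B ≤ A) :
    (B ⊔ (fix φ B).map ι) ≤ S ∧ IsMulCommutative ↥(B ⊔ (fix φ B).map ι) ∧
    Nat.card (fix φ B) * Nat.card B ≤
      Nat.card (fix φ A) * Nat.card ↥(B ⊔ (fix φ B).map ι) := by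
  obtain ⟨hAS, hAc, hAmax⟩ := (mem_famA_iff S A).mp hA
  have hAab : ∀ x ∈ A, ∀ y ∈ A, x * y = y * x := fun x hx y hy => setLike_mul_comm hx hy
  obtain ⟨F, hF⟩ : ∃ F, F = (fix φ B).map ι := ⟨_, rfl⟩
  rw [← hF]
  have hFmem : ∀ f ∈ F, ∃ m ∈ fix φ B, ι m = f := by
    intro f hf
    rw [hF] at hf
    exact hf
  have hFS : F ≤ S := by
    intro f hf
    obtain ⟨m, -, rfl⟩ := hFmem f hf
    exact hVS m
  have hBB : B ≤ Subgroup.centralizer (B : Set G) := by
    intro b hb
    rw [Subgroup.mem_centralizer_iff]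
    intro b' hb'
    exact hAab b' (hBA hb') b (hBA hb)
  have hFB : F ≤ Subgroup.centralizer (B : Set G) := by
    intro f hf
    obtain ⟨m, hm, rfl⟩ := hFmem f hf
    rw [Subgroup.mem_centralizer_iff]
    intro b hb
    exact commute_of_mem_fix φ ι hι B hb hm
  have hBF : B ≤ Subgroup.centralizer (F : Set G) := Subgroup.le_centralizer_iff.mp hFB
  have hFF : F ≤ Subgroup.centralizer (F : Set G) := by
    intro f hf
    obtain ⟨m, hm, rfl⟩ := hFmem f hf
    rw [Subgroup.mem_centralizer_iff]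
    intro f' hf'
    obtain ⟨m', hm', rfl⟩ := hFmem f' hf'
    rw [← map_mul, ← map_mul, mul_comm]
  have h1 : B ⊔ F ≤ Subgroup.centralizer (B : Set G) := sup_le hBB hFB
  have h2 : B ⊔ F ≤ Subgroup.centralizer (F : Set G) := sup_le hBF hFF
  have hXc : IsMulCommutative ↥(B ⊔ F) :=
    Subgroup.le_centralizer_iff_isMulCommutative.mp
      (sup_le (Subgroup.le_centralizer_iff.mp h1) (Subgroup.le_centralizer_iff.mp h2))
  refine ⟨sup_le (hBA.trans hAS) hFS, hXc, ?_⟩
  have hcF : Nat.card F = Nat.card (fix φ B) := by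
    rw [hF]
    exact Subgroup.card_map_of_injective hιinj
  have e1 : Nat.card F = Nat.card ↥(B ⊓ F) * B.relIndex F := by
    have := Subgroup.card_mul_index ((B ⊓ F).subgroupOf F)
    rw [Nat.card_congr (Subgroup.subgroupOfEquivOfLe (inf_le_right : B ⊓ F ≤ F)).toEquiv] at this
    rw [← Subgroup.inf_relIndex_right]
    exact this.symm
  have e2 : Nat.card ↥(B ⊔ F) = Nat.card B * B.relIndex (B ⊔ F) := by
    have := Subgroup.card_mul_index (B.subgroupOf (B ⊔ F))
    rw [Nat.card_congr (Subgroup.subgroupOfEquivOfLe (le_sup_left : B ≤ B ⊔ F)).toEquiv] at this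
    exact this.symm
  have e3 : B.relIndex F ≤ B.relIndex (B ⊔ F) :=
    Subgroup.relIndex_le_of_le_right le_sup_right
      (Subgroup.index_ne_zero_of_finite : (B.subgroupOf (B ⊔ F)).index ≠ 0)
  have e4 : Nat.card ↥(B ⊓ F) ≤ Nat.card (fix φ A) := by
    have hle : B ⊓ F ≤ (fix φ A).map ι := by
      intro w hw
      obtain ⟨m, hm, rfl⟩ := hFmem w (Subgroup.mem_inf.mp hw).2
      exact ⟨m, mem_fix_of_mem φ ι hι hιinj A hAab m (hBA (Subgroup.mem_inf.mp hw).1), rfl⟩
    calc Nat.card ↥(B ⊓ F) ≤ Nat.card ((fix φ A).map ι) := Subgroup.card_le_of_le hle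
      _ = Nat.card (fix φ A) := Subgroup.card_map_of_injective hιinj
  calc Nat.card (fix φ B) * Nat.card B = Nat.card ↥(B ⊓ F) * B.relIndex F * Nat.card B := by
        rw [← hcF, e1]
    _ ≤ Nat.card (fix φ A) * B.relIndex (B ⊔ F) * Nat.card B :=
        Nat.mul_le_mul_right _ (Nat.mul_le_mul e4 e3)
    _ = Nat.card (fix φ A) * Nat.card ↥(B ⊔ F) := by rw [e2]; ring

theorem hbound (φ : G →* MulAut M) (ι : M →* G)
    (hι : ∀ g m, ι (φ g m) = g * ι m * g⁻¹) (hιinj : Function.Injective ι)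
    (S : Subgroup G) (hVS : ∀ m, ι m ∈ S) (A : Subgroup G) (hA : A ∈ famA S)
    (B : Subgroup G) (hBA : B ≤ A) :
    Nat.card (fix φ B) * Nat.card B ≤ Nat.card A * Nat.card (fix φ A) := by
  obtain ⟨hXS, hXc, hcard⟩ := hchain φ ι hι hιinj S hVS A hA B hBA
  have hmax := ((mem_famA_iff S A).mp hA).2.2 _ hXS hXc
  calc Nat.card (fix φ B) * Nat.card B ≤ _ := hcard
    _ ≤ Nat.card (fix φ A) * Nat.card A := Nat.mul_le_mul_left _ hmax
    _ = _ := mul_comm _ _

/-! ### The cocycle -/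

section Cocycle

variable (φ : G →* MulAut M) (ι : M →* G)
  (hι : ∀ g m, ι (φ g m) = g * ι m * g⁻¹) (hιinj : Function.Injective ι)
  (x : G) (c : G → M) (hc : ∀ g, ι (c g) = g * x * g⁻¹ * x⁻¹)

include hι hιinj hc

theorem c_mul (h g : G) : c (h * g) = φ h (c g) * c h := by
  apply hιinj
  rw [map_mul, hι, hc, hc, hc]
  group

theorem c_eq_one_iff (g : G) : c g = 1 ↔ g * x = x * g := by
  constructor
  · intro h
    have h1 := hc g
    rw [h, map_one] at h1
    calc g * x = (g * x * g⁻¹ * x⁻¹) * (x * g) := by group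
      _ = x * g := by rw [← h1, one_mul]
  · intro h
    apply hιinj
    rw [hc, map_one, h]
    group

theorem c_eq_iff (a b : G) : c a = c b ↔ (a⁻¹ * b) * x = x * (a⁻¹ * b) := by
  rw [← c_eq_one_iff φ ι hι hιinj x c hc]
  have h1 : c b = φ a (c (a⁻¹ * b)) * c a := by
    rw [← c_mul φ ι hι hιinj x c hc]
    congr 1
    group
  constructor
  · intro h
    rw [← h] at h1
    have h2 : φ a (c (a⁻¹ * b)) = 1 := by
      have : c a = φ a (c (a⁻¹ * b)) * c a := h1
      exact mul_eq_right.mp this.symm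
    have h3 : φ a (c (a⁻¹ * b)) = φ a 1 := by rw [h2, map_one]
    exact (φ a).injective h3
  · intro h
    rw [h1, h, map_one, one_mul]

/-- the set of values of `c` -/
noncomputable def cD (c : G → M) : Finset M := (Set.finite_range c).toFinset

omit hι hιinj hc in
theorem mem_cD (d : M) : d ∈ cD c ↔ ∃ g, c g = d := by
  unfold cD
  rw [Set.Finite.mem_toFinset, Set.mem_range]

theorem card_cD : (cD c).card = (Subgroup.centralizer ({x} : Set G)).index := by
  classical
  have hrel : ∀ a b : G, (QuotientGroup.leftRel (Subgroup.centralizer ({x} : Set G))) a b →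
      c a = c b := by
    intro a b hab
    rw [QuotientGroup.leftRel_apply, Subgroup.mem_centralizer_iff] at hab
    rw [c_eq_iff φ ι hι hιinj x c hc]
    exact (hab x (Set.mem_singleton x)).symm
  let f : G ⧸ Subgroup.centralizer ({x} : Set G) → M := Quotient.lift c hrel
  have hf : Function.Injective f := by
    intro q₁ q₂ h
    induction q₁ using QuotientGroup.induction_on with
    | H a =>
    induction q₂ using QuotientGroup.induction_on with
    | H b =>
    have h' : c a = c b := h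
    rw [c_eq_iff φ ι hι hιinj x c hc] at h'
    apply QuotientGroup.eq.mpr
    rw [Subgroup.mem_centralizer_iff]
    intro y hy
    rw [Set.mem_singleton_iff] at hy
    rw [hy]
    exact h'.symm
  have hrange : Set.range c = f '' Set.univ := by
    ext d
    constructor
    · rintro ⟨g, rfl⟩
      exact ⟨QuotientGroup.mk g, Set.mem_univ _, rfl⟩
    · rintro ⟨q, -, rfl⟩
      induction q using QuotientGroup.induction_on with
      | H a => exact ⟨a, rfl⟩
  have h1 : (cD c).card = (Set.range c).ncard := by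
    unfold cD
    rw [Set.ncard_eq_toFinset_card (Set.range c) (Set.finite_range c)]
  rw [h1, hrange, Set.ncard_image_of_injective _ hf, Set.ncard_univ]
  rfl

theorem aff_prod (h : G) : φ h (∏ d ∈ cD c, d) * c h ^ (cD c).card = ∏ d ∈ cD c, d := by
  have h1 : ∏ d ∈ cD c, d = ∏ d ∈ cD c, (φ h d * c h) := by
    symm
    refine Finset.prod_bij (fun d _ => φ h d * c h) ?_ ?_ ?_ ?_
    · intro d hd
      obtain ⟨g, rfl⟩ := (mem_cD c d).mp hd
      rw [← c_mul φ ι hι hιinj x c hc]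
      exact (mem_cD c _).mpr ⟨_, rfl⟩
    · intro d₁ _ d₂ _ h12
      exact (φ h).injective (mul_right_cancel h12)
    · intro d hd
      obtain ⟨g, rfl⟩ := (mem_cD c d).mp hd
      refine ⟨c (h⁻¹ * g), (mem_cD c _).mpr ⟨_, rfl⟩, ?_⟩
      rw [← c_mul φ ι hι hιinj x c hc]
      congr 1
      group
    · intro d _
      rfl
  conv_rhs => rw [h1]
  rw [Finset.prod_mul_distrib, Finset.prod_const, map_prod]

theorem commute_of_fix_prod {p : ℕ} [Fact p.Prime] (hMp : ∀ m : M, m ^ p = 1) (S : Sylow p G)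
    (hxS : ∀ s ∈ S, s * x = x * s) (h : G)
    (hfix : φ h (∏ d ∈ cD c, d) = ∏ d ∈ cD c, d) : h * x = x * h := by
  have hp : p.Prime := Fact.out
  rw [← c_eq_one_iff φ ι hι hιinj x c hc]
  have h1 := aff_prod φ ι hι hιinj x c hc h
  rw [hfix] at h1
  have h2 : c h ^ (cD c).card = 1 := mul_eq_left.mp h1
  have hSle : (S : Subgroup G) ≤ Subgroup.centralizer ({x} : Set G) := by
    intro s hs
    rw [Subgroup.mem_centralizer_iff]
    intro y hy
    rw [Set.mem_singleton_iff] at hy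
    rw [hy]
    exact (hxS s hs).symm
  have h3 : ¬ p ∣ (cD c).card := by
    rw [card_cD φ ι hι hιinj x c hc]
    intro hdvd
    exact S.not_dvd_index (hdvd.trans (Subgroup.index_dvd_of_le hSle))
  have h4 : orderOf (c h) ∣ (cD c).card := orderOf_dvd_of_pow_eq_one h2
  have h5 : orderOf (c h) ∣ p := orderOf_dvd_of_pow_eq_one (hMp _)
  have hcop : Nat.Coprime p (cD c).card := (Nat.Prime.coprime_iff_not_dvd hp).mpr h3
  exact orderOf_eq_one_iff.mp (Nat.eq_one_of_dvd_coprimes hcop h5 h4)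

/-- **Core.** -/
theorem core {p : ℕ} [Fact p.Prime] (hMp : ∀ m : M, m ^ p = 1) (S : Sylow p G)
    (hxS : ∀ s ∈ S, s * x = x * s)
    (Pr : Subgroup G → Prop) (hPr : ∀ A g, Pr A → Pr (A.map (MulAut.conj g).toMonoidHom))
    (hN : ∀ g ∈ Subgroup.normalizer
      ((sSup {A | A ≤ (S : Subgroup G) ∧ Pr A} : Subgroup G) : Set G), g * x = x * g)
    (hgood : ∀ A, A ≤ (S : Subgroup G) → Pr A → ∀ g,
      (∀ a ∈ A, φ a (c g) = c g) ∨ oprodS φ A (c g) = 1) :
    ∀ g, g * x = x * g := by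
  obtain ⟨𝓐, h𝓐def⟩ : ∃ 𝓐 : Set (Subgroup G), 𝓐 = {A | A ≤ (S : Subgroup G) ∧ Pr A} := ⟨_, rfl⟩
  rw [← h𝓐def] at hN
  have h𝓐mem : ∀ A, A ∈ 𝓐 ↔ A ≤ (S : Subgroup G) ∧ Pr A := by
    intro A; rw [h𝓐def]; rfl
  have hJS : sSup 𝓐 ≤ (S : Subgroup G) := sSup_le (fun A hA => ((h𝓐mem A).mp hA).1)
  have hprod : ∏ d ∈ cD c, d = 1 := by
    apply prod_eq_one φ p (S : Subgroup G) S.2 𝓐 (fun A hA => ((h𝓐mem A).mp hA).1)
    · intro A hA g hg
      rw [h𝓐mem] at hA ⊢
      exact ⟨cj_le_of_le_of_mem hA.1 hg, hPr A g hA.2⟩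
    · intro r hr d hd
      obtain ⟨g, rfl⟩ := (mem_cD c d).mp hd
      have h1 := c_mul φ ι hι hιinj x c hc r g
      rw [(c_eq_one_iff φ ι hι hιinj x c hc r).mpr (hxS r hr), mul_one] at h1
      rw [← h1]
      exact (mem_cD c _).mpr ⟨_, rfl⟩
    · intro A hA d hd
      obtain ⟨g, rfl⟩ := (mem_cD c d).mp hd
      exact hgood A ((h𝓐mem A).mp hA).1 ((h𝓐mem A).mp hA).2 g
    · intro d hd hdfix
      obtain ⟨g, rfl⟩ := (mem_cD c d).mp hd
      rw [c_eq_one_iff φ ι hι hιinj x c hc]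
      obtain ⟨z, hz⟩ : ∃ z, z = g * x * g⁻¹ := ⟨_, rfl⟩
      -- `J` centralizes `z`
      have hJz : sSup 𝓐 ≤ Subgroup.centralizer ({z} : Set G) := by
        intro r hr
        rw [Subgroup.mem_centralizer_iff]
        intro y hy
        rw [Set.mem_singleton_iff] at hy
        rw [hy]
        have h1 := hι r (c g)
        rw [hdfix r hr, hc, ← hz] at h1
        have h2 := hxS r (hJS hr)
        calc z * r = (z * x⁻¹) * x * r := by group
          _ = (r * (z * x⁻¹) * r⁻¹) * x * r := by rw [← h1]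
          _ = r * z * (x⁻¹ * (r⁻¹ * x * r)) := by group
          _ = r * z * (x⁻¹ * (r⁻¹ * (r * x))) := by rw [h2, mul_assoc r⁻¹ x r]
          _ = r * z := by group
      have hSg : IsSylIn p ((S : Subgroup G).map (MulAut.conj g).toMonoidHom)
          (Subgroup.centralizer ({z} : Set G)) := by
        have hle : (S : Subgroup G).map (MulAut.conj g).toMonoidHom ≤
            Subgroup.centralizer ({z} : Set G) := by
          rintro _ ⟨s, hs, rfl⟩
          rw [Subgroup.mem_centralizer_iff]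
          intro y hy
          rw [Set.mem_singleton_iff] at hy
          rw [hy, hz]
          have h2 := hxS s hs
          show g * x * g⁻¹ * (g * s * g⁻¹) = g * s * g⁻¹ * (g * x * g⁻¹)
          calc g * x * g⁻¹ * (g * s * g⁻¹) = g * (x * s) * g⁻¹ := by group
            _ = g * (s * x) * g⁻¹ := by rw [h2]
            _ = _ := by group
        refine ⟨hle, isPGroup_cj g S.2, ?_⟩
        have h1 := ((isSylIn_of_sylow S (le_top : (S : Subgroup G) ≤ ⊤)).cj g).2.2
        rw [cj_eq_self_of_mem (Subgroup.mem_top g), Subgroup.relIndex_top_right] at h1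
        intro hdvd
        exact h1 (hdvd.trans (Subgroup.relIndex_dvd_index_of_le hle))
      obtain ⟨y, hyH, hy⟩ := hSg.exists_cj_le hJz (S.2.to_le hJS)
      obtain ⟨k, hk⟩ : ∃ k, k = g⁻¹ * y := ⟨_, rfl⟩
      have hkS : (sSup 𝓐).map (MulAut.conj k).toMonoidHom ≤ (S : Subgroup G) := by
        rintro _ ⟨j, hj, rfl⟩
        have h1 : y * j * y⁻¹ ∈ (S : Subgroup G).map (MulAut.conj g).toMonoidHom :=
          hy (conj_mem_cj hj)
        rw [mem_cj] at h1
        have e : (MulAut.conj k).toMonoidHom j = g⁻¹ * (y * j * y⁻¹) * g := by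
          rw [hk]
          simp [MulAut.conj_apply, mul_assoc]
        rw [e]
        exact h1
      have hkJ : (sSup 𝓐).map (MulAut.conj k).toMonoidHom ≤ sSup 𝓐 := by
        rw [(Subgroup.gc_map_comap (MulAut.conj k).toMonoidHom).l_sSup]
        apply iSup₂_le
        intro A hA
        apply le_sSup
        rw [h𝓐mem] at hA ⊢
        exact ⟨(Subgroup.map_mono (le_sSup ((h𝓐mem A).mpr hA))).trans hkS, hPr A k hA.2⟩
      have hkN : k ∈ Subgroup.normalizer ((sSup 𝓐 : Subgroup G) : Set G) := by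
        rw [mem_normalizer_iff_cj_eq]
        exact Subgroup.eq_of_le_of_card_ge hkJ (by rw [card_cj])
      have h3 := hN k hkN
      have h4 : z * y = y * z := by
        rw [Subgroup.mem_centralizer_iff] at hyH
        exact hyH z (Set.mem_singleton z)
      have h5 : y * x = y * z := by
        rw [← h4, hz]
        calc y * x = g * (g⁻¹ * y * x) := by group
          _ = g * (x * (g⁻¹ * y)) := by rw [← hk, h3]
          _ = g * x * g⁻¹ * y := by group
      have h6 : x = z := mul_left_cancel h5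
      rw [hz] at h6
      calc g * x = g * x * g⁻¹ * g := by group
        _ = x * g := by rw [← h6]
  intro g
  apply commute_of_fix_prod φ ι hι hιinj x c hc hMp S hxS g
  rw [hprod, map_one]


/-- for `r` commuting with `x`: `r` fixes `c g` iff `r` commutes with `g x g⁻¹` -/
theorem fix_iff_commute (g r : G) (hr : r * x = x * r) :
    φ r (c g) = c g ↔ (g * x * g⁻¹) * r = r * (g * x * g⁻¹) := by
  obtain ⟨z, hz⟩ : ∃ z, z = g * x * g⁻¹ := ⟨_, rfl⟩
  rw [← hz]
  have h1 := hι r (c g)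
  rw [hc, ← hz] at h1
  constructor
  · intro h
    rw [h, hc, ← hz] at h1
    calc z * r = (z * x⁻¹) * x * r := by group
      _ = (r * (z * x⁻¹) * r⁻¹) * x * r := by rw [← h1]
      _ = r * z * (x⁻¹ * (r⁻¹ * x * r)) := by group
      _ = r * z * (x⁻¹ * (r⁻¹ * (r * x))) := by rw [hr, mul_assoc r⁻¹ x r]
      _ = r * z := by group
  · intro h
    apply hιinj
    rw [h1, hc, ← hz]
    calc r * (z * x⁻¹) * r⁻¹ = (r * z) * (r * x)⁻¹ := by group
      _ = (z * r) * (x * r)⁻¹ := by rw [← h, hr]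
      _ = z * x⁻¹ := by group

omit hι hιinj hc in
theorem isSylIn_conj_centralizer {p : ℕ} [Fact p.Prime] (S : Sylow p G)
    (hxS : ∀ s ∈ S, s * x = x * s) (g : G) :
    IsSylIn p ((S : Subgroup G).map (MulAut.conj g).toMonoidHom)
      (Subgroup.centralizer ({g * x * g⁻¹} : Set G)) := by
  have hle : (S : Subgroup G).map (MulAut.conj g).toMonoidHom ≤
      Subgroup.centralizer ({g * x * g⁻¹} : Set G) := by
    rintro _ ⟨s, hs, rfl⟩
    rw [Subgroup.mem_centralizer_iff]
    intro y hy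
    rw [Set.mem_singleton_iff] at hy
    rw [hy]
    have h2 := hxS s hs
    show g * x * g⁻¹ * (g * s * g⁻¹) = g * s * g⁻¹ * (g * x * g⁻¹)
    calc g * x * g⁻¹ * (g * s * g⁻¹) = g * (x * s) * g⁻¹ := by group
      _ = g * (s * x) * g⁻¹ := by rw [h2]
      _ = _ := by group
  refine ⟨hle, isPGroup_cj g S.2, ?_⟩
  have h1 := ((isSylIn_of_sylow S (le_top : (S : Subgroup G) ≤ ⊤)).cj g).2.2
  rw [cj_eq_self_of_mem (Subgroup.mem_top g), Subgroup.relIndex_top_right] at h1
  intro hdvd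
  exact h1 (hdvd.trans (Subgroup.relIndex_dvd_index_of_le hle))

end Cocycle

/-! ### Abelian subgroups of largest order -/

/-- abelian of the largest order among abelian subgroups of `S` -/
def Pr0 (S : Subgroup G) (A : Subgroup G) : Prop :=
  IsMulCommutative A ∧ ∀ Y ∈ famA S, Nat.card Y = Nat.card A

theorem pr0_conj (S : Subgroup G) (A : Subgroup G) (g : G) (h : Pr0 S A) :
    Pr0 S (A.map (MulAut.conj g).toMonoidHom) := by
  obtain ⟨h1, h2⟩ := h
  refine ⟨inferInstance, fun Y hY => ?_⟩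
  rw [card_cj]
  exact h2 Y hY

theorem mem_famA_iff_pr0 (S : Subgroup G) (A : Subgroup G) :
    A ∈ famA S ↔ A ≤ S ∧ Pr0 S A := by
  constructor
  · intro hA
    obtain ⟨hAS, hAc, hAmax⟩ := (mem_famA_iff S A).mp hA
    refine ⟨hAS, hAc, fun Y hY => ?_⟩
    obtain ⟨hYS, hYc, hYmax⟩ := (mem_famA_iff S Y).mp hY
    exact le_antisymm (hAmax Y hYS hYc) (hYmax A hAS hAc)
  · rintro ⟨hAS, hAc, hAeq⟩
    rw [mem_famA_iff]
    refine ⟨hAS, hAc, fun Y hYS hYc => ?_⟩
    obtain ⟨A₀, hA₀⟩ := famA_nonempty S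
    rw [← hAeq A₀ hA₀]
    exact ((mem_famA_iff S A₀).mp hA₀).2.2 Y hYS hYc

theorem setOf_pr0 (S : Subgroup G) : {A | A ≤ S ∧ Pr0 S A} = famA S := by
  ext A
  exact (mem_famA_iff_pr0 S A).symm

/-- an element of `p`-power order centralizing an abelian subgroup of largest order of a Sylow
`p`-subgroup lies in it -/
theorem mem_of_centralizes {p : ℕ} [Fact p.Prime] (S : Sylow p G) (X : Subgroup G)
    (hX : X ∈ famA (S : Subgroup G)) (s : G) (j : ℕ) (hs : s ^ p ^ j = 1)
    (hsX : ∀ w ∈ X, w * s = s * w) : s ∈ X := by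
  obtain ⟨hXS, hXc, hXmax⟩ := (mem_famA_iff _ X).mp hX
  obtain ⟨Y, hY⟩ : ∃ Y, Y = X ⊔ Subgroup.zpowers s := ⟨_, rfl⟩
  have hsC : s ∈ Subgroup.centralizer (X : Set G) := by
    rw [Subgroup.mem_centralizer_iff]
    exact hsX
  have hXX : X ≤ Subgroup.centralizer (X : Set G) :=
    Subgroup.le_centralizer_iff_isMulCommutative.mpr hXc
  have h1 : Y ≤ Subgroup.centralizer (X : Set G) :=
    hY ▸ sup_le hXX (Subgroup.zpowers_le.mpr hsC)
  have hXs : X ≤ Subgroup.centralizer ({s} : Set G) := by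
    intro w hw
    rw [Subgroup.mem_centralizer_iff]
    intro y hy
    rw [Set.mem_singleton_iff] at hy
    rw [hy]
    exact (hsX w hw).symm
  have hss : s ∈ Subgroup.centralizer ({s} : Set G) := by
    rw [Subgroup.mem_centralizer_iff]
    intro y hy
    rw [Set.mem_singleton_iff] at hy
    rw [hy]
  have h2 : Y ≤ Subgroup.centralizer ({s} : Set G) :=
    hY ▸ sup_le hXs (Subgroup.zpowers_le.mpr hss)
  have h3 : X ≤ Subgroup.centralizer (Y : Set G) := Subgroup.le_centralizer_iff.mp h1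
  have h4 : Subgroup.zpowers s ≤ Subgroup.centralizer (Y : Set G) := by
    rw [Subgroup.zpowers_le, Subgroup.mem_centralizer_iff]
    intro y hy
    have := h2 hy
    rw [Subgroup.mem_centralizer_iff] at this
    exact (this s (Set.mem_singleton s)).symm
  have hYle : Y ≤ Subgroup.centralizer (Y : Set G) := by
    conv_lhs => rw [hY]
    exact sup_le h3 h4
  have hYc : IsMulCommutative ↥Y := Subgroup.le_centralizer_iff_isMulCommutative.mp hYle
  have hpz : IsPGroup p (Subgroup.zpowers s) := by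
    rintro ⟨w, hw⟩
    obtain ⟨i, rfl⟩ := Subgroup.mem_zpowers_iff.mp hw
    refine ⟨j, Subtype.ext ?_⟩
    show (s ^ i) ^ p ^ j = 1
    rw [← zpow_natCast, ← zpow_mul, mul_comm, zpow_mul, zpow_natCast, hs, one_zpow]
  have hYp : IsPGroup p Y := by
    rw [hY]
    apply IsPGroup.to_sup_of_normal_left' (S.2.to_le hXS) hpz
    exact (Subgroup.zpowers_le.mpr hsC).trans (Subgroup.centralizer_le_normalizer _)
  obtain ⟨w, hw⟩ := exists_cj_le_sylow S hYp
  have hcard : Nat.card Y ≤ Nat.card X := by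
    rw [← card_cj w Y]
    exact hXmax _ hw inferInstance
  have hXY : X ≤ Y := hY ▸ le_sup_left
  have heq : X = Y := Subgroup.eq_of_le_of_card_ge hXY hcard
  rw [heq, hY]
  exact (le_sup_right : Subgroup.zpowers s ≤ X ⊔ Subgroup.zpowers s) (Subgroup.mem_zpowers s)

/-- elements of `B ⊔ ι(C_M(B))` are products -/
theorem exists_mul_of_mem_sup (φ : G →* MulAut M) (ι : M →* G)
    (hι : ∀ g m, ι (φ g m) = g * ι m * g⁻¹) (B : Subgroup G) (w : G)
    (hw : w ∈ B ⊔ (fix φ B).map ι) : ∃ b ∈ B, ∃ m ∈ fix φ B, w = b * ι m := by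
  let X' : Subgroup G :=
    { carrier := {w | ∃ b ∈ B, ∃ m ∈ fix φ B, w = b * ι m}
      mul_mem' := by
        rintro _ _ ⟨b, hb, m, hm, rfl⟩ ⟨b', hb', m', hm', rfl⟩
        refine ⟨b * b', mul_mem hb hb', m * m', mul_mem hm hm', ?_⟩
        rw [map_mul]
        calc b * ι m * (b' * ι m') = b * (ι m * b') * ι m' := by group
          _ = b * (b' * ι m) * ι m' := by rw [commute_of_mem_fix φ ι hι B hb' hm]
          _ = _ := by group
      one_mem' := ⟨1, one_mem _, 1, one_mem _, by simp⟩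
      inv_mem' := by
        rintro _ ⟨b, hb, m, hm, rfl⟩
        refine ⟨b⁻¹, inv_mem hb, m⁻¹, inv_mem hm, ?_⟩
        rw [map_inv, mul_inv_rev]
        have h := commute_of_mem_fix φ ι hι B (inv_mem hb) (inv_mem hm)
        rw [map_inv] at h
        exact h.symm }
  have hle : B ⊔ (fix φ B).map ι ≤ X' := by
    apply sup_le
    · intro b hb
      exact ⟨b, hb, 1, one_mem _, by simp⟩
    · rintro _ ⟨m, hm, rfl⟩
      exact ⟨1, one_mem _, m, hm, by simp⟩
  exact hle hw

/-- orbit products of abelian subgroups of largest order vanish, up to orbits of length `2` -/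
theorem good_famA (φ : G →* MulAut M) (ι : M →* G)
    (hι : ∀ g m, ι (φ g m) = g * ι m * g⁻¹) (hιinj : Function.Injective ι)
    {p : ℕ} [Fact p.Prime] (hMp : ∀ m : M, m ^ p = 1) (S : Sylow p G)
    (hVS : ∀ m, ι m ∈ (S : Subgroup G)) (A : Subgroup G) (hA : A ∈ famA (S : Subgroup G))
    (d : M) : (∀ a ∈ A, φ a d = d) ∨ oprodS φ A d = 1 ∨
      (p = 2 ∧ Nat.card A = 2 * Nat.card ↥(A ⊓ stab φ d)) := by
  haveI : Finite M := Finite.of_injective ι hιinj
  obtain ⟨hAS, hAc, hAmax⟩ := (mem_famA_iff _ A).mp hA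
  exact good_or_bad φ p hMp A (S.2.to_le hAS) (fun x hx y hy => setLike_mul_comm hx hy)
    (fun B hBA => hbound φ ι hι hιinj _ hVS A hA B hBA) d

/-- the structure of an orbit of length `2` -/
theorem bad_orbit (φ : G →* MulAut M) (ι : M →* G)
    (hι : ∀ g m, ι (φ g m) = g * ι m * g⁻¹) (hιinj : Function.Injective ι)
    (S : Subgroup G) (hVS : ∀ m, ι m ∈ S) (A : Subgroup G) (hA : A ∈ famA S) (d : M)
    (hbad : Nat.card A = 2 * Nat.card ↥(A ⊓ stab φ d)) :
    (A ⊓ stab φ d) ⊔ (fix φ (A ⊓ stab φ d)).map ι ∈ famA S ∧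
      2 * Nat.card (fix φ A) ≤ Nat.card (fix φ (A ⊓ stab φ d)) ∧
      Nat.card (fix φ (A ⊓ stab φ d)) * Nat.card ↥(A ⊓ stab φ d) ≤
        Nat.card (fix φ A) * Nat.card A ∧
      ∃ a ∈ A, φ a d ≠ d := by
  haveI : Finite M := Finite.of_injective ι hιinj
  obtain ⟨B, hB⟩ : ∃ B, B = A ⊓ stab φ d := ⟨_, rfl⟩
  rw [← hB] at hbad ⊢
  have hBA : B ≤ A := hB ▸ inf_le_left
  obtain ⟨hAS, hAc, hAmax⟩ := (mem_famA_iff S A).mp hA
  have hposB : 0 < Nat.card B := Nat.card_pos
  have hex : ∃ a ∈ A, φ a d ≠ d := by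
    by_contra hcon
    push Not at hcon
    have hAB : A ≤ B := by
      intro a ha
      rw [hB]
      exact Subgroup.mem_inf.mpr ⟨ha, hcon a ha⟩
    have := Subgroup.card_le_of_le hAB
    omega
  obtain ⟨a, ha, had⟩ := hex
  have hdB : d ∈ fix φ B := by
    intro b hb
    rw [hB] at hb
    exact (Subgroup.mem_inf.mp hb).2
  have hle : fix φ A ≤ fix φ B := fix_mono φ hBA
  have h2 : 2 * Nat.card (fix φ A) ≤ Nat.card (fix φ B) := by
    obtain ⟨k, hk⟩ := Subgroup.card_dvd_of_le hle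
    have hposA : 0 < Nat.card (fix φ A) := Nat.card_pos
    have hposB' : 0 < Nat.card (fix φ B) := Nat.card_pos
    have hk1 : k ≠ 1 := by
      intro h1
      rw [h1, mul_one] at hk
      have heq : fix φ A = fix φ B := Subgroup.eq_of_le_of_card_ge hle hk.le
      have : d ∈ fix φ A := heq ▸ hdB
      exact had (this a ha)
    have hk0 : k ≠ 0 := by
      intro h0
      rw [h0, mul_zero] at hk
      omega
    have hk2 : 2 ≤ k := by omega
    rw [hk, mul_comm]
    exact Nat.mul_le_mul_left _ hk2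
  obtain ⟨hXS, hXc, hcard⟩ := hchain φ ι hι hιinj S hVS A hA B hBA
  have hcX : Nat.card A ≤ Nat.card ↥(B ⊔ (fix φ B).map ι) := by
    have hposA : 0 < Nat.card (fix φ A) := Nat.card_pos
    have h3 : Nat.card (fix φ A) * (2 * Nat.card B) ≤
        Nat.card (fix φ A) * Nat.card ↥(B ⊔ (fix φ B).map ι) := by
      calc Nat.card (fix φ A) * (2 * Nat.card B) = 2 * Nat.card (fix φ A) * Nat.card B := by ring
        _ ≤ Nat.card (fix φ B) * Nat.card B := Nat.mul_le_mul_right _ h2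
        _ ≤ _ := hcard
    rw [hbad]
    exact Nat.le_of_mul_le_mul_left h3 hposA
  refine ⟨?_, h2, ?_, a, ha, had⟩
  · rw [mem_famA_iff]
    exact ⟨hXS, hXc, fun Y hYS hYc => (hAmax Y hYS hYc).trans hcX⟩
  · calc Nat.card (fix φ B) * Nat.card B ≤ _ := hcard
      _ ≤ Nat.card (fix φ A) * Nat.card A := Nat.mul_le_mul_left _ (hAmax _ hXS hXc)

/-- Case `x = t²`, `t ∈ Z(S)`: there are no orbits of length `2`. -/
theorem no_bad_of_sq (φ : G →* MulAut M) (ι : M →* G)
    (hι : ∀ g m, ι (φ g m) = g * ι m * g⁻¹) (hιinj : Function.Injective ι)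
    (x : G) (c : G → M) (hc : ∀ g, ι (c g) = g * x * g⁻¹ * x⁻¹)
    [Fact (Nat.Prime 2)] (hM2 : ∀ m : M, m ^ 2 = 1) (S : Sylow 2 G)
    (hVS : ∀ m, ι m ∈ (S : Subgroup G)) (hxS : ∀ s ∈ S, s * x = x * s)
    (t : G) (htS : t ∈ S) (htZ : ∀ s ∈ S, s * t = t * s) (htx : t ^ 2 = x)
    (A : Subgroup G) (hA : A ∈ famA (S : Subgroup G)) (g : G)
    (hbad : Nat.card A = 2 * Nat.card ↥(A ⊓ stab φ (c g))) : False := by
  obtain ⟨hX, -, -, a₀, ha₀, ha₀d⟩ := bad_orbit φ ι hι hιinj _ hVS A hA (c g) hbad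
  obtain ⟨hAS, hAc, hAmax⟩ := (mem_famA_iff _ A).mp hA
  obtain ⟨B, hB⟩ : ∃ B, B = A ⊓ stab φ (c g) := ⟨_, rfl⟩
  rw [← hB] at hX
  have hBA : B ≤ A := hB ▸ inf_le_left
  obtain ⟨z, hz⟩ : ∃ z, z = g * x * g⁻¹ := ⟨_, rfl⟩
  have hBz : B ≤ Subgroup.centralizer ({z} : Set G) := by
    intro b hb
    rw [Subgroup.mem_centralizer_iff]
    intro y hy
    rw [Set.mem_singleton_iff] at hy
    rw [hy, hz]
    have hbS : b ∈ (S : Subgroup G) := hAS (hBA hb)
    rw [hB] at hb
    exact (fix_iff_commute φ ι hι hιinj x c hc g b (hxS b hbS)).mp (Subgroup.mem_inf.mp hb).2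
  have hSg := isSylIn_conj_centralizer x S hxS g
  rw [← hz] at hSg
  obtain ⟨y, hyH, hy⟩ := hSg.exists_cj_le hBz (S.2.to_le (hBA.trans hAS))
  have hyz : z * y = y * z := by
    rw [Subgroup.mem_centralizer_iff] at hyH
    exact hyH z (Set.mem_singleton z)
  obtain ⟨k, hk⟩ : ∃ k, k = y⁻¹ * g := ⟨_, rfl⟩
  obtain ⟨s', hs'⟩ : ∃ s', s' = k * t * k⁻¹ := ⟨_, rfl⟩
  -- `s'` commutes with `B`
  have hs'B : ∀ b ∈ B, b * s' = s' * b := by
    intro b hb
    have h1 : y * b * y⁻¹ ∈ (S : Subgroup G).map (MulAut.conj g).toMonoidHom :=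
      hy (conj_mem_cj hb)
    rw [mem_cj] at h1
    have h2 := htZ _ h1
    have e : b = k * (g⁻¹ * (y * b * y⁻¹) * g) * k⁻¹ := by rw [hk]; group
    rw [hs']
    calc b * (k * t * k⁻¹) = k * (g⁻¹ * (y * b * y⁻¹) * g) * k⁻¹ * (k * t * k⁻¹) := by rw [← e]
      _ = k * ((g⁻¹ * (y * b * y⁻¹) * g) * t) * k⁻¹ := by group
      _ = k * (t * (g⁻¹ * (y * b * y⁻¹) * g)) * k⁻¹ := by rw [h2]
      _ = (k * t * k⁻¹) * (k * (g⁻¹ * (y * b * y⁻¹) * g) * k⁻¹) := by group
      _ = _ := by rw [← e]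
  -- `s'` squares to `z`
  have hs'sq : s' * s' = z := by
    rw [hs']
    calc k * t * k⁻¹ * (k * t * k⁻¹) = k * t ^ 2 * k⁻¹ := by rw [pow_two]; group
      _ = y⁻¹ * (g * x * g⁻¹) * y := by rw [htx, hk]; group
      _ = y⁻¹ * (z * y) := by rw [← hz]; group
      _ = z := by rw [hyz]; group
  -- `s'` commutes with the image of `ι`
  have hs'M : ∀ m : M, ι m * s' = s' * ι m := by
    intro m
    have h1 := hι k (φ k⁻¹ m)
    rw [apply_apply_inv] at h1
    have h2 := htZ _ (hVS (φ k⁻¹ m))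
    rw [hs', h1]
    calc k * ι (φ k⁻¹ m) * k⁻¹ * (k * t * k⁻¹) = k * (ι (φ k⁻¹ m) * t) * k⁻¹ := by group
      _ = k * (t * ι (φ k⁻¹ m)) * k⁻¹ := by rw [h2]
      _ = _ := by group
  obtain ⟨j, hj⟩ := (IsPGroup.iff_orderOf.mp S.2) ⟨t, htS⟩
  have hs'p : s' ^ 2 ^ j = 1 := by
    have h1 : t ^ 2 ^ j = 1 := by
      have := orderOf_dvd_iff_pow_eq_one.mp (dvd_of_eq hj)
      exact congrArg Subtype.val this
    rw [hs', conj_pow, h1]
    group
  have hs'X : s' ∈ B ⊔ (fix φ B).map ι := by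
    apply mem_of_centralizes S _ hX s' j hs'p
    intro w hw
    obtain ⟨b, hb, m, hm, rfl⟩ := exists_mul_of_mem_sup φ ι hι B w hw
    calc b * ι m * s' = b * (ι m * s') := by group
      _ = b * (s' * ι m) := by rw [hs'M]
      _ = (b * s') * ι m := by group
      _ = s' * (b * ι m) := by rw [hs'B b hb]; group
  obtain ⟨b, hb, m, hm, hbm⟩ := exists_mul_of_mem_sup φ ι hι B s' hs'X
  have hzB : z = b * b := by
    rw [← hs'sq, hbm]
    have h1 := commute_of_mem_fix φ ι hι B hb hm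
    have h2 : ι m * ι m = 1 := by rw [← map_mul, ← pow_two, hM2, map_one]
    calc b * ι m * (b * ι m) = b * (ι m * b) * ι m := by group
      _ = b * (b * ι m) * ι m := by rw [h1]
      _ = b * b * (ι m * ι m) := by group
      _ = b * b := by rw [h2, mul_one]
  have hzA : z ∈ A := hzB ▸ mul_mem (hBA hb) (hBA hb)
  apply ha₀d
  rw [fix_iff_commute φ ι hι hιinj x c hc g a₀ (hxS a₀ (hAS ha₀)), ← hz]
  exact setLike_mul_comm hzA ha₀

end Cfsg.Agent.Lib.Helper11.WeakCl
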