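import Cfsg.Agent.Lib.Helper11.ZJ2
import Cfsg.Agent.Lib.Helper11.ZJFam
import Cfsg.Agent.Lib.Helper11.PConstr
import Mathlib

/-! ZJ-theorem in the `p`-constrained, `p`-stable vocabulary (via the quotient by `O_{p'}(G)`). -/

open Cfsg

set_option autoImplicit false
set_option linter.unusedSectionVars false
set_option linter.unusedVariables false

namespace Cfsg.Agent.Lib.Helper11.ZJQuot

open Cfsg.Agent.Lib.Helper11.ZJ Cfsg.Agent.Lib.Helper11.ZJFam Cfsg.Agent.Lib.Helper11.PConstr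
open Cfsg.Agent.Lib.Helper76.PSolv Cfsg.Agent.Lib.Helper76.SylowTools
open scoped commutatorElement

section transfer

variable {G H : Type*} [Group G] [Group H]

theorem inj_on (f : G →* H) (P : Subgroup G) (hinj : P ⊓ f.ker = ⊥) :
    ∀ x ∈ P, ∀ y ∈ P, f x = f y → x = y := by
  intro x hx y hy h
  have h0 : x⁻¹ * y ∈ f.ker := by
    rw [MonoidHom.mem_ker, map_mul, map_inv, h]
    simp
  have h1 : x⁻¹ * y ∈ P ⊓ f.ker := Subgroup.mem_inf.mpr ⟨P.mul_mem (P.inv_mem hx) hy, h0⟩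
  rw [hinj, Subgroup.mem_bot] at h1
  exact inv_mul_eq_one.mp h1

theorem card_map_of_inj (f : G →* H) (P : Subgroup G) (hinj : P ⊓ f.ker = ⊥) (A : Subgroup G)
    (hA : A ≤ P) : Nat.card (A.map f) = Nat.card A := by
  have h1 : Function.Injective (f.comp A.subtype) := by
    intro x y hxy
    exact Subtype.ext (inj_on f P hinj x (hA x.2) y (hA y.2) hxy)
  have h2 : (f.comp A.subtype).range = A.map f := by
    rw [MonoidHom.range_comp, Subgroup.range_subtype]
  rw [← h2]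
  exact Nat.card_congr (Equiv.ofInjective _ h1).symm

/-- Pullback of a subgroup of `P.map f` to `P`. -/
theorem pull_map (f : G →* H) (P : Subgroup G) (Y : Subgroup H) (hY : Y ≤ P.map f) :
    (Y.comap f ⊓ P).map f = Y := by
  apply le_antisymm
  · rintro _ ⟨x, hx, rfl⟩
    exact hx.1
  · intro y hy
    obtain ⟨x, hx, rfl⟩ := hY hy
    exact ⟨x, ⟨hy, hx⟩, rfl⟩

theorem pull_comm (f : G →* H) (P : Subgroup G) (hinj : P ⊓ f.ker = ⊥) (Y : Subgroup H)
    (hYc : IsMulCommutative Y) : IsMulCommutative ↥(Y.comap f ⊓ P) := by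
  constructor
  constructor
  rintro ⟨x, hx⟩ ⟨y, hy⟩
  apply Subtype.ext
  show x * y = y * x
  apply inj_on f P hinj _ (P.mul_mem hx.2 hy.2) _ (P.mul_mem hy.2 hx.2)
  rw [map_mul, map_mul]
  have hx1 : f x ∈ Y := hx.1
  have hy1 : f y ∈ Y := hy.1
  exact setLike_mul_comm hx1 hy1

variable [Finite G] [Finite H]

theorem famA_map_of_inj (f : G →* H) (P : Subgroup G) (hinj : P ⊓ f.ker = ⊥) (A : Subgroup G)
    (hA : A ∈ famA P) : A.map f ∈ famA (P.map f) := by
  rw [mem_famA_iff] at hA ⊢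
  have := hA.2.1
  refine ⟨Subgroup.map_mono hA.1, inferInstance, ?_⟩
  intro Y hY hYc
  have h1 := hA.2.2 (Y.comap f ⊓ P) inf_le_right (pull_comm f P hinj Y hYc)
  rw [← card_map_of_inj f P hinj _ inf_le_right, pull_map f P Y hY] at h1
  rw [card_map_of_inj f P hinj A hA.1]
  exact h1

theorem exists_of_mem_famA_map (f : G →* H) (P : Subgroup G) (hinj : P ⊓ f.ker = ⊥)
    (X : Subgroup H) (hX : X ∈ famA (P.map f)) : ∃ A ∈ famA P, A.map f = X := by
  rw [mem_famA_iff] at hX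
  refine ⟨X.comap f ⊓ P, ?_, pull_map f P X hX.1⟩
  rw [mem_famA_iff]
  refine ⟨inf_le_right, pull_comm f P hinj X hX.2.1, ?_⟩
  intro Y hY hYc
  have := hYc
  have h1 := hX.2.2 (Y.map f) (Subgroup.map_mono hY) inferInstance
  rw [card_map_of_inj f P hinj Y hY] at h1
  rw [← card_map_of_inj f P hinj _ inf_le_right, pull_map f P X hX.1]
  exact h1

theorem sInf_famA_map (f : G →* H) (P : Subgroup G) (hinj : P ⊓ f.ker = ⊥) :
    (sInf (famA P)).map f = sInf (famA (P.map f)) := by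
  apply le_antisymm
  · rintro _ ⟨z, hz, rfl⟩
    have hz' : z ∈ sInf (famA P) := hz
    rw [Subgroup.mem_sInf] at hz' ⊢
    intro X hX
    obtain ⟨A, hA, rfl⟩ := exists_of_mem_famA_map f P hinj X hX
    exact ⟨z, hz' A hA, rfl⟩
  · intro y hy
    rw [Subgroup.mem_sInf] at hy
    obtain ⟨A₁, hA₁⟩ := famA_nonempty P
    obtain ⟨x, hx, rfl⟩ := hy _ (famA_map_of_inj f P hinj A₁ hA₁)
    have hxP : x ∈ P := ((mem_famA_iff P A₁).mp hA₁).1 hx
    refine ⟨x, ?_, rfl⟩
    show x ∈ sInf (famA P)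
    rw [Subgroup.mem_sInf]
    intro A hA
    obtain ⟨x', hx', hxx'⟩ := hy _ (famA_map_of_inj f P hinj A hA)
    have hx'P : x' ∈ P := ((mem_famA_iff P A).mp hA).1 hx'
    have : x' = x := inj_on f P hinj x' hx'P x hxP hxx'
    rw [← this]; exact hx'

end transfer

section quot

variable {G : Type*} [Group G] [Finite G] {p : ℕ} [Fact p.Prime]

theorem inf_eq_bot_of_pgroup_coprime (R K : Subgroup G) (hR : IsPGroup p R)
    (hK : (Nat.card K).Coprime p) : R ⊓ K = ⊥ := by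
  obtain ⟨n, hn⟩ := IsPGroup.iff_card.mp hR
  apply (Subgroup.disjoint_of_coprime_natCard _).eq_bot
  rw [hn]
  exact (hK.pow_right n).symm

theorem map_pPrimeCore_eq_bot :
    (Cfsg.pPrimeCore p G).map (QuotientGroup.mk' (Cfsg.pPrimeCore p G)) = ⊥ := by
  rw [Subgroup.map_eq_bot_iff, QuotientGroup.ker_mk']

/-- The image of a Sylow `p`-subgroup of `O_{p',p}(G)` in `G / O_{p'}(G)` is `O_p`. -/
theorem map_sylow_eq_pCore (P : Sylow p ↥(Cfsg.pPrimePCore p G)) :
    ((P : Subgroup ↥(Cfsg.pPrimePCore p G)).map (Cfsg.pPrimePCore p G).subtype).map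
      (QuotientGroup.mk' (Cfsg.pPrimeCore p G)) = Cfsg.pCore p (G ⧸ Cfsg.pPrimeCore p G) := by
  have hKn : (Cfsg.pPrimeCore p G).Normal := (pPrimeCore_mem p).1
  have h1 : (Cfsg.pPrimePCore p G).map (QuotientGroup.mk' (Cfsg.pPrimeCore p G)) =
      Cfsg.pCore p (G ⧸ Cfsg.pPrimeCore p G) :=
    Subgroup.map_comap_eq_self_of_surjective (QuotientGroup.mk'_surjective _) _
  have h2 := sylow_sup_pPrimeCore P
  have h3 := congrArg (Subgroup.map (QuotientGroup.mk' (Cfsg.pPrimeCore p G))) h2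
  rw [Subgroup.map_sup, map_pPrimeCore_eq_bot, sup_bot_eq] at h3
  rw [h3, h1]

/-- Step A: a `p`-constrained group satisfies `C(O_p) ≤ O_p` modulo `O_{p'}`. -/
theorem centralizer_pCore_quotient_le (hc : Cfsg.IsPConstrained p G) :
    Subgroup.centralizer (Cfsg.pCore p (G ⧸ Cfsg.pPrimeCore p G) :
      Set (G ⧸ Cfsg.pPrimeCore p G)) ≤ Cfsg.pCore p (G ⧸ Cfsg.pPrimeCore p G) := by
  have hKn : (Cfsg.pPrimeCore p G).Normal := (pPrimeCore_mem p).1
  have hKc : (Nat.card (Cfsg.pPrimeCore p G)).Coprime p := pPrimeCore_coprime p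
  obtain ⟨P⟩ : Nonempty (Sylow p ↥(Cfsg.pPrimePCore p G)) := inferInstance
  set R := (P : Subgroup ↥(Cfsg.pPrimePCore p G)).map (Cfsg.pPrimePCore p G).subtype with hR
  have hRp : IsPGroup p R := P.2.map _
  have hRb := map_sylow_eq_pCore P
  intro xb hxb
  obtain ⟨x, rfl⟩ := QuotientGroup.mk'_surjective (Cfsg.pPrimeCore p G) xb
  have hfr := normalizer_sylow_sup_pPrimeCore P
  have hx : x ∈ Subgroup.normalizer (R : Set G) ⊔ Cfsg.pPrimeCore p G := by
    rw [hfr]; trivial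
  obtain ⟨n, hn, k, hk, rfl⟩ := Subgroup.mem_sup_of_normal_right.mp hx
  have hnk : QuotientGroup.mk' (Cfsg.pPrimeCore p G) (n * k) =
      QuotientGroup.mk' (Cfsg.pPrimeCore p G) n := by
    have hk1 : QuotientGroup.mk' (Cfsg.pPrimeCore p G) k = 1 :=
      (QuotientGroup.eq_one_iff k).mpr hk
    rw [map_mul, hk1, mul_one]
  rw [hnk] at hxb ⊢
  have hnC : n ∈ Subgroup.centralizer (R : Set G) := by
    rw [Subgroup.mem_centralizer_iff]
    intro r hr
    have h1 : r * n * r⁻¹ * n⁻¹ ∈ R := by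
      have h0 : n * r⁻¹ * n⁻¹ ∈ R := (Subgroup.mem_normalizer_iff.mp hn r⁻¹).mp (R.inv_mem hr)
      have := R.mul_mem hr h0
      simpa [mul_assoc] using this
    have h2 : r * n * r⁻¹ * n⁻¹ ∈ Cfsg.pPrimeCore p G := by
      rw [← QuotientGroup.eq_one_iff]
      have hrb : QuotientGroup.mk' (Cfsg.pPrimeCore p G) r ∈
          Cfsg.pCore p (G ⧸ Cfsg.pPrimeCore p G) := by
        rw [← hRb]; exact ⟨r, hr, rfl⟩
      have h4 := Subgroup.mem_centralizer_iff.mp hxb _ hrb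
      show QuotientGroup.mk' (Cfsg.pPrimeCore p G) (r * n * r⁻¹ * n⁻¹) = 1
      rw [map_mul, map_mul, map_mul, map_inv, map_inv, h4]
      group
    have h3 : r * n * r⁻¹ * n⁻¹ ∈ R ⊓ Cfsg.pPrimeCore p G := ⟨h1, h2⟩
    rw [inf_eq_bot_of_pgroup_coprime R _ hRp hKc, Subgroup.mem_bot] at h3
    calc r * n = (r * n * r⁻¹ * n⁻¹) * n * r := by group
      _ = n * r := by rw [h3, one_mul]
  exact hc P hnC

theorem isPGroup_zpowers_of_pow (a : G) (k : ℕ) (ha : a ^ (p ^ k) = 1) :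
    IsPGroup p (Subgroup.zpowers a) := by
  have hp : p.Prime := Fact.out
  have h1 : orderOf a ∣ p ^ k := orderOf_dvd_of_pow_eq_one ha
  obtain ⟨j, -, hj⟩ := (Nat.dvd_prime_pow hp).mp h1
  apply IsPGroup.of_card (n := j)
  rw [Nat.card_zpowers, hj]

/-- A `p`-element of a quotient lifts to a `p`-element. -/
theorem exists_pElement_lift {H : Type*} [Group H] (f : G →* H) (hf : Function.Surjective f)
    (b : H) (k : ℕ) (hb : b ^ (p ^ k) = 1) : ∃ a : G, (∃ j : ℕ, a ^ (p ^ j) = 1) ∧ f a = b := by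
  have : Finite H := Finite.of_surjective f hf
  have hbp : IsPGroup p (Subgroup.zpowers b) := isPGroup_zpowers_of_pow b k hb
  obtain ⟨Qb, hQb⟩ := hbp.exists_le_sylow
  obtain ⟨Q, rfl⟩ := Sylow.mapSurjective_surjective hf p Qb
  have hb' : b ∈ (Q : Subgroup G).map f := hQb (Subgroup.mem_zpowers b)
  obtain ⟨a, ha, rfl⟩ := hb'
  obtain ⟨j, hj⟩ := Q.isPGroup' ⟨a, ha⟩
  exact ⟨a, ⟨j, congrArg Subtype.val hj⟩, rfl⟩

/-- Step B: `p`-stability passes to the quotient by `O_{p'}(G)` (in the normal-subgroup form). -/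
theorem stable_quotient (hs : Cfsg.IsPStable p G)
    (Bb : Subgroup (G ⧸ Cfsg.pPrimeCore p G)) [hBn : Bb.Normal]
    (hBb : IsPGroup p Bb) (ab : G ⧸ Cfsg.pPrimeCore p G) (hab : ∃ k : ℕ, ab ^ (p ^ k) = 1)
    (hq : ⁅⁅Bb, Subgroup.zpowers ab⁆, Subgroup.zpowers ab⁆ = ⊥) :
    (QuotientGroup.mk ab : (G ⧸ Cfsg.pPrimeCore p G) ⧸
        Subgroup.centralizer (Bb : Set (G ⧸ Cfsg.pPrimeCore p G))) ∈
      Cfsg.pCore p ((G ⧸ Cfsg.pPrimeCore p G) ⧸
        Subgroup.centralizer (Bb : Set (G ⧸ Cfsg.pPrimeCore p G))) := by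
  have hKn : (Cfsg.pPrimeCore p G).Normal := (pPrimeCore_mem p).1
  have hKc : (Nat.card (Cfsg.pPrimeCore p G)).Coprime p := pPrimeCore_coprime p
  obtain ⟨k, hk⟩ := hab
  obtain ⟨a, ⟨j, haj⟩, rfl⟩ := exists_pElement_lift (QuotientGroup.mk' (Cfsg.pPrimeCore p G))
    (QuotientGroup.mk'_surjective _) ab k hk
  have hA : IsPGroup p (Subgroup.zpowers a) := isPGroup_zpowers_of_pow a j haj
  obtain ⟨T, hAT⟩ := hA.exists_le_sylow
  have haT : a ∈ (T : Subgroup G) := hAT (Subgroup.mem_zpowers a)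
  let π := QuotientGroup.mk' (Cfsg.pPrimeCore p G)
  have hπ : Function.Surjective π := QuotientGroup.mk'_surjective _
  let L : Subgroup G := Bb.comap π
  have hLn : L.Normal := hBn.comap π
  let P₁ : Subgroup G := (T : Subgroup G) ⊓ L
  have hP₁ : IsPGroup p P₁ := T.isPGroup'.to_le inf_le_left
  have hBle : Bb ≤ Cfsg.pCore p (G ⧸ Cfsg.pPrimeCore p G) := le_pCore hBn hBb
  have hmap : P₁.map π = Bb := by
    apply le_antisymm
    · rintro _ ⟨x, hx, rfl⟩
      exact hx.2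
    · intro b hb
      have h1 : b ∈ ((T.mapSurjective hπ : Sylow p _) : Subgroup _) :=
        pCore_le_sylow _ (hBle hb)
      obtain ⟨t, ht, rfl⟩ := h1
      exact ⟨t, ⟨ht, hb⟩, rfl⟩
  have hnormA : ∀ x ∈ Subgroup.zpowers a, ∀ y ∈ P₁, x * y * x⁻¹ ∈ P₁ := by
    intro x hx y hy
    exact ⟨(T : Subgroup G).mul_mem ((T : Subgroup G).mul_mem (hAT hx) hy.1)
      ((T : Subgroup G).inv_mem (hAT hx)), hLn.conj_mem y hy.2 x⟩
  have hP₁le : P₁ ≤ Cfsg.pPrimePCore p G := by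
    intro x hx
    show π x ∈ Cfsg.pCore p _
    exact hBle hx.2
  have hsup : Cfsg.pPrimeCore p G ⊔ P₁ = L := by
    rw [sup_comm]
    have := Subgroup.comap_map_eq π P₁
    rw [hmap, QuotientGroup.ker_mk'] at this
    exact this.symm
  have hnormal : (Cfsg.pPrimeCore p G ⊔ P₁).Normal := by rw [hsup]; exact hLn
  have hcomm1 : ⁅P₁, Subgroup.zpowers a⁆ ≤ P₁ := by
    rw [Subgroup.commutator_le]
    intro x hx y hy
    have h1 := hnormA y hy x⁻¹ (P₁.inv_mem hx)
    have : ⁅x, y⁆ = x * (y * x⁻¹ * y⁻¹) := by simp [commutatorElement_def, mul_assoc]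
    rw [this]; exact P₁.mul_mem hx h1
  have hquad : ⁅⁅P₁, Subgroup.zpowers a⁆, Subgroup.zpowers a⁆ = ⊥ := by
    have h1 : ⁅⁅P₁, Subgroup.zpowers a⁆, Subgroup.zpowers a⁆ ≤ P₁ :=
      le_trans (Subgroup.commutator_mono hcomm1 le_rfl) hcomm1
    have h2 : ⁅⁅P₁, Subgroup.zpowers a⁆, Subgroup.zpowers a⁆ ≤ Cfsg.pPrimeCore p G := by
      have h3 : (⁅⁅P₁, Subgroup.zpowers a⁆, Subgroup.zpowers a⁆).map π = ⊥ := by
        rw [Subgroup.map_commutator, Subgroup.map_commutator, hmap, MonoidHom.map_zpowers]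
        exact hq
      rw [Subgroup.map_eq_bot_iff, QuotientGroup.ker_mk'] at h3
      exact h3
    have h4 := le_inf h1 h2
    rw [inf_eq_bot_of_pgroup_coprime P₁ _ hP₁ hKc] at h4
    exact le_bot_iff.mp h4
  have key := hs.2.2 (Subgroup.zpowers a) P₁ hA hP₁ hnormA hP₁le hnormal hquad
  let Cb := Subgroup.centralizer (Bb : Set (G ⧸ Cfsg.pPrimeCore p G))
  let φ : ↥(Subgroup.normalizer (P₁ : Set G)) →* (G ⧸ Cfsg.pPrimeCore p G) ⧸ Cb :=
    (QuotientGroup.mk' Cb).comp (π.comp (Subgroup.normalizer (P₁ : Set G)).subtype)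
  have hker : (Subgroup.centralizer (P₁ : Set G)).subgroupOf (Subgroup.normalizer (P₁ : Set G))
      ≤ φ.ker := by
    intro n hn
    rw [MonoidHom.mem_ker]
    show QuotientGroup.mk' Cb (π n) = 1
    rw [QuotientGroup.mk'_apply, QuotientGroup.eq_one_iff]
    show π n ∈ Subgroup.centralizer (Bb : Set (G ⧸ Cfsg.pPrimeCore p G))
    rw [Subgroup.mem_centralizer_iff]
    intro b hb
    have hb' : b ∈ P₁.map π := by rw [hmap]; exact hb
    obtain ⟨x, hx, rfl⟩ := hb'
    have h1 : x * (n : G) = n * x := Subgroup.mem_centralizer_iff.mp hn x hx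
    show π x * π n = π n * π x
    rw [← map_mul, ← map_mul, h1]
  let ψ := QuotientGroup.lift
    ((Subgroup.centralizer (P₁ : Set G)).subgroupOf (Subgroup.normalizer (P₁ : Set G))) φ hker
  have hfr : Subgroup.normalizer (P₁ : Set G) ⊔ Cfsg.pPrimeCore p G = ⊤ := by
    apply frattini_core T (Cfsg.pPrimeCore p G) L
    · intro x hx
      show π x ∈ Bb
      have hx1 : π x = 1 := (QuotientGroup.eq_one_iff x).mpr hx
      rw [hx1]
      exact Bb.one_mem
    · intro x hx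
      obtain ⟨k, hk⟩ := hBb ⟨π x, hx⟩
      refine ⟨k, ?_⟩
      rw [← QuotientGroup.eq_one_iff]
      have h7 : π x ^ p ^ k = 1 := by
        have := congrArg Subtype.val hk
        simpa using this
      have h8 : π (x ^ p ^ k) = 1 := by rw [map_pow]; exact h7
      exact h8
  have hψs : Function.Surjective ψ := by
    intro y
    obtain ⟨gb, rfl⟩ := QuotientGroup.mk'_surjective Cb y
    obtain ⟨g, rfl⟩ := hπ gb
    have hg : g ∈ Subgroup.normalizer (P₁ : Set G) ⊔ Cfsg.pPrimeCore p G := by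
      rw [hfr]; trivial
    obtain ⟨n, hn, k, hk, rfl⟩ := Subgroup.mem_sup_of_normal_right.mp hg
    refine ⟨QuotientGroup.mk' _ ⟨n, hn⟩, ?_⟩
    show QuotientGroup.mk' Cb (π n) = QuotientGroup.mk' Cb (π (n * k))
    have hk1 : π k = 1 := (QuotientGroup.eq_one_iff k).mpr hk
    rw [map_mul, hk1, mul_one]
  have hpc : (Cfsg.pCore p (↥(Subgroup.normalizer (P₁ : Set G)) ⧸
      (Subgroup.centralizer (P₁ : Set G)).subgroupOf (Subgroup.normalizer (P₁ : Set G)))).map ψ
      ≤ Cfsg.pCore p _ :=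
    le_pCore ((pCore_normal' p _).map ψ hψs) ((pCore_isPGroup p).map ψ)
  have haN : a ∈ Subgroup.normalizer (P₁ : Set G) :=
    mem_normalizer_of_conj_mem' P₁ a (fun x hx => hnormA a (Subgroup.mem_zpowers a) x hx)
  have h5 : QuotientGroup.mk' ((Subgroup.centralizer (P₁ : Set G)).subgroupOf
      (Subgroup.normalizer (P₁ : Set G))) ⟨a, haN⟩ ∈ Cfsg.pCore p _ :=
    key ⟨⟨a, haN⟩, Subgroup.mem_subgroupOf.mpr (Subgroup.mem_zpowers a), rfl⟩
  exact hpc ⟨_, h5, rfl⟩

/-- Frattini argument for a Sylow subgroup (in the `IsSylowIn` form) of a normal subgroup. -/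
theorem frattini_isSylowIn {R M : Subgroup G} [M.Normal] (h : IsSylowIn p R M) :
    Subgroup.normalizer (R : Set G) ⊔ M = ⊤ := by
  let S : Sylow p M := (h.2.1.comap_subtype (K := M)).toSylow h.2.2
  have hS : (S : Subgroup M) = R.subgroupOf M := rfl
  have hmap : (S : Subgroup M).map M.subtype = R := by
    rw [hS, Subgroup.subgroupOf_map_subtype, inf_eq_left.mpr h.1]
  have := Sylow.normalizer_sup_eq_top S
  rw [hmap] at this
  exact this

/-- Glauberman's ZJ-theorem for `p`-constrained, `p`-stable groups: `G = O_{p'}(G) N_G(Z(J(P)))`. -/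
theorem zj_pconstrained (hp : p ≠ 2) (hc : Cfsg.IsPConstrained p G) (hs : Cfsg.IsPStable p G)
    (P : Sylow p G) :
    Cfsg.pPrimeCore p G ⊔
      Subgroup.normalizer (Cfsg.centerThompsonAOf (P : Subgroup G) : Set G) = ⊤ := by
  have hKn : (Cfsg.pPrimeCore p G).Normal := (pPrimeCore_mem p).1
  have hKc : (Nat.card (Cfsg.pPrimeCore p G)).Coprime p := pPrimeCore_coprime p
  have hpr : p.Prime := Fact.out
  let π := QuotientGroup.mk' (Cfsg.pPrimeCore p G)
  have hπ : Function.Surjective π := QuotientGroup.mk'_surjective _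
  let Pb : Sylow p (G ⧸ Cfsg.pPrimeCore p G) := P.mapSurjective hπ
  have hchar : (sInf (famA ((Pb : Subgroup (G ⧸ Cfsg.pPrimeCore p G))))).Characteristic :=
    Cfsg.Agent.Lib.Helper11.ZJ2.zj (isFam_famA hp) (centralizer_pCore_quotient_le hc)
      (fun B hB hBp a ha hq => stable_quotient hs B hBp a ha hq) Pb
  have hinj : (P : Subgroup G) ⊓ π.ker = ⊥ := by
    rw [QuotientGroup.ker_mk']
    exact inf_eq_bot_of_pgroup_coprime _ _ P.isPGroup' hKc
  have hmapZ : (sInf (famA (P : Subgroup G))).map π = sInf (famA ((P : Subgroup G).map π)) :=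
    sInf_famA_map π _ hinj
  have hZbn : ((sInf (famA (P : Subgroup G))).map π).Normal := by
    rw [hmapZ]
    have h0 : (sInf (famA ((Pb : Subgroup (G ⧸ Cfsg.pPrimeCore p G))))).Normal := inferInstance
    exact h0
  rw [centerThompsonAOf_eq]
  have hZP : sInf (famA (P : Subgroup G)) ≤ P := sInf_le_self (isFam_famA hp) _
  have hZp : IsPGroup p ↥(sInf (famA (P : Subgroup G))) := P.isPGroup'.to_le hZP
  have hZKn : (sInf (famA (P : Subgroup G)) ⊔ Cfsg.pPrimeCore p G).Normal := by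
    have h1 := Subgroup.comap_map_eq π (sInf (famA (P : Subgroup G)))
    rw [QuotientGroup.ker_mk'] at h1
    rw [← h1]
    exact hZbn.comap π
  have hsyl : IsSylowIn p (sInf (famA (P : Subgroup G)))
      (sInf (famA (P : Subgroup G)) ⊔ Cfsg.pPrimeCore p G) := by
    refine ⟨le_sup_left, hZp, ?_⟩
    rw [relIndex_sup_of_normal]
    intro hdvd
    have h2 : p ∣ Nat.card (Cfsg.pPrimeCore p G) := hdvd.trans (Subgroup.relIndex_dvd_card _ _)
    exact (Nat.Prime.coprime_iff_not_dvd hpr).mp hKc.symm h2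
  have hfr := frattini_isSylowIn hsyl
  rw [eq_top_iff] at hfr ⊢
  refine hfr.trans ?_
  rw [sup_comm (Cfsg.pPrimeCore p G)]
  exact sup_le le_sup_left (sup_le (Subgroup.le_normalizer.trans le_sup_left) le_sup_right)

end quot

end Cfsg.Agent.Lib.Helper11.ZJQuot
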