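import Mathlib
import Cfsg.Agent.Lib.Helper64.C2MStmt
import Cfsg.Agent.Lib.Helper44.NegPairs
import Cfsg.Agent.Lib.Helper44.QSpace

/-!
# S5990C piece SINGPAIRM (helper11, spare): a nonzero nondegenerate plus-type subspace of the
minus space contains a hyperbolic pair.
-/

set_option autoImplicit false

universe u

namespace Cfsg.Agent.Lib.Helper11.C2MSINGPAIRM

open Module QuadraticMap Submodule
open Cfsg.Agent.Lib.Helper44.QSpace Cfsg.Agent.Lib.Helper44.NegPairs

section abs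

variable {F : Type*} [Field F] {V : Type*} [AddCommGroup V] [Module F V]

/-- form-free core -/
theorem sing_pair (Qf : QuadraticForm F V) (A T : Submodule F V)
    (hA : ∀ w ∈ A, w ≠ 0 → ∃ x ∈ A, polar Qf w x ≠ 0)
    (hTA : T ≤ A) (hT : ∀ w ∈ T, Qf w = 0) (hTne : T ≠ ⊥) :
    ∃ e ∈ A, ∃ f ∈ A, Qf e = 0 ∧ Qf f = 0 ∧ polar Qf e f ≠ 0 := by
  obtain ⟨e, heT, he0⟩ := Submodule.exists_mem_ne_zero_of_ne_bot hTne
  have hQe : Qf e = 0 := hT e heT
  obtain ⟨v, hv, hne⟩ := hA e (hTA heT) he0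
  have hee : polar Qf e e = 0 := by rw [polar_self', hQe, mul_zero]
  refine ⟨e, hTA heT, v + (-(Qf v / polar Qf e v)) • e,
    A.add_mem hv (A.smul_mem _ (hTA heT)), hQe, ?_, ?_⟩
  · rw [q_add, q_smul, hQe, polar_smul_r, polar_comm Qf v e]
    field_simp
    ring
  · rw [polar_add_right, polar_smul_r, hee, mul_zero, add_zero]
    exact hne

end abs

theorem main : Cfsg.Agent.Lib.Helper64.C2MStmt.SingPairM.{u} := by
  intro F _ _ a₀ b₀ d A hA hP hne
  obtain ⟨T, hTA, hTts, hTd⟩ := hP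
  have hTne : T ≠ ⊥ := by
    rintro rfl
    apply hne
    have h0 : finrank F A = 0 := by
      have h1 : 2 * finrank F (⊥ : Submodule F _) = finrank F A := hTd
      rw [finrank_bot] at h1
      omega
    exact Submodule.finrank_eq_zero.mp h0
  exact sing_pair (minusQ (d - 1) F a₀ b₀) A T
    (fun w hw hw0 => (hA w hw hw0).2) hTA hTts hTne

end Cfsg.Agent.Lib.Helper11.C2MSINGPAIRM
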