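import Mathlib
import Cfsg.Agent.Lib.Helper45.EPStmt
import Cfsg.Agent.Lib.Helper44.TPStmt
import Cfsg.Agent.Lib.Helper44.NegPairs
import Cfsg.Agent.Lib.Helper44.QSpace

/-!
# S5988 piece SUBTYPE (helper11, second seat)

`main : TsIn → SubPerp → OrthSum → Cancel → SubTypeE` (the four hypotheses are landed all-`q`
pieces of S5973).  Plus part: induction, splitting off hyperbolic planes (a singular vector from
`TsIn`, its partner from nondegeneracy).  Elliptic part: a hyperbolic `(e-2)`-space `H`, and in its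
perp inside `U` (dimension `≥ 3`) a hyperbolic pair `u, v` and `w ⊥ u, v` with `Q w = c ≠ 0`; the
plane `⟨u + c v, w + b u⟩` carries the form `c (s² + b s t + t²)`, anisotropic when `b` is not of
the form `-(r + r⁻¹)` (such `b` exists by counting); `Cancel` shows `H ⊥ A` is not of plus type.
-/

set_option autoImplicit false

universe u

namespace Cfsg.Agent.Lib.Helper11.EPSUBTYPE

open Module QuadraticMap Submodule
open Cfsg.Agent.Lib.Helper44.QSpace Cfsg.Agent.Lib.Helper44.NegPairs
open Cfsg.Agent.Lib.Helper44.TPStmt (J NDeg TSub Plus TsIn SubPerp OrthSum Cancel)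
open Cfsg.Agent.Lib.Helper45.EPStmt

section abs

variable {F : Type*} [Field F] {V : Type*} [AddCommGroup V] [Module F V]

theorem finrank_pair {x y : V} (h : ∀ s t : F, s • x + t • y = 0 → s = 0 ∧ t = 0) :
    finrank F (span F ({x, y} : Set V)) = 2 := by
  have hli : LinearIndependent F ![x, y] := LinearIndependent.pair_iff.mpr h
  have h2 := finrank_span_eq_card hli
  rw [Matrix.range_cons_cons_empty] at h2
  rw [h2]
  simp

theorem q_comb (Qf : QuadraticForm F V) (s t : F) (x y : V) :
    Qf (s • x + t • y) = s * s * Qf x + t * t * Qf y + s * t * polar Qf x y := by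
  rw [q_add, q_smul, q_smul, polar_smul_l, polar_smul_r]
  ring

theorem pol_comb_r (Qf : QuadraticForm F V) (s t : F) (z x y : V) :
    polar Qf z (s • x + t • y) = s * polar Qf z x + t * polar Qf z y := by
  rw [polar_add_right, polar_smul_r, polar_smul_r]

theorem exists_b [Fintype F] :
    ∃ b : F, ∀ s t : F, s ^ 2 + b * s * t + t ^ 2 = 0 → s = 0 ∧ t = 0 := by
  classical
  have hns : ¬ Function.Surjective (fun r : Fˣ => -((r : F) + (r : F)⁻¹)) := by
    intro hsurj
    have h1 := Fintype.card_le_of_surjective _ hsurj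
    rw [Fintype.card_units] at h1
    have h2 := Fintype.card_pos (α := F)
    omega
  simp only [Function.Surjective, not_forall, not_exists] at hns
  obtain ⟨b, hb⟩ := hns
  refine ⟨b, fun s t h => ?_⟩
  by_cases ht : t = 0
  · subst ht
    have hs : s = 0 := by simpa using h
    exact ⟨hs, rfl⟩
  · exfalso
    have hs : s ≠ 0 := by
      rintro rfl
      have : t = 0 := by simpa using h
      exact ht this
    apply hb (Units.mk0 (s / t) (div_ne_zero hs ht))
    simp only [Units.val_mk0]
    rw [inv_div, neg_eq_iff_eq_neg, div_add_div _ _ ht hs, div_eq_iff (mul_ne_zero ht hs)]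
    linear_combination h

theorem hyp_plane (Qf : QuadraticForm F V) (u v : V) (hu : Qf u = 0)
    (huv : polar Qf u v = 1) :
    finrank F (span F ({u, v} : Set V)) = 2 ∧
    ∀ z ∈ span F ({u, v} : Set V), z ≠ 0 →
      ∃ x ∈ span F ({u, v} : Set V), polar Qf x z ≠ 0 := by
  have huu : polar Qf u u = 0 := by rw [polar_self', hu, mul_zero]
  have hvu : polar Qf v u = 1 := by rw [polar_comm]; exact huv
  have pu : ∀ s t : F, polar Qf u (s • u + t • v) = t := by
    intro s t
    rw [pol_comb_r, huu, huv]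
    ring
  have pv : ∀ s t : F, polar Qf v (s • u + t • v) = s + t * polar Qf v v := by
    intro s t
    rw [pol_comb_r, hvu]
    ring
  constructor
  · apply finrank_pair
    intro s t h
    have h1 := pu s t
    have h2 := pv s t
    rw [h, polar_zero_right] at h1 h2
    have ht : t = 0 := h1.symm
    subst ht
    refine ⟨?_, rfl⟩
    simpa using h2.symm
  · intro z hz hne
    obtain ⟨s, t, rfl⟩ := mem_span_pair.mp hz
    by_cases ht : t = 0
    · subst ht
      refine ⟨v, subset_span (by simp), ?_⟩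
      rw [pv]
      simp only [zero_mul, add_zero]
      rintro rfl
      apply hne
      simp
    · exact ⟨u, subset_span (by simp), by rw [pu]; exact ht⟩

theorem aniso_plane [Fintype F] (Qf : QuadraticForm F V) (u v w : V) (hu : Qf u = 0)
    (hv : Qf v = 0) (huv : polar Qf u v = 1) (huw : polar Qf u w = 0) (hvw : polar Qf v w = 0)
    (hw : Qf w ≠ 0) :
    ∃ x y : V, x ∈ span F ({u, v, w} : Set V) ∧ y ∈ span F ({u, v, w} : Set V) ∧
      (∀ s t : F, Qf (s • x + t • y) = 0 → s = 0 ∧ t = 0) ∧
      (∀ s t : F, polar Qf x (s • x + t • y) = 0 → polar Qf y (s • x + t • y) = 0 →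
        s = 0 ∧ t = 0) := by
  obtain ⟨b, hb⟩ := exists_b (F := F)
  have hu' : u ∈ span F ({u, v, w} : Set V) := subset_span (by simp)
  have hv' : v ∈ span F ({u, v, w} : Set V) := subset_span (by simp)
  have hw' : w ∈ span F ({u, v, w} : Set V) := subset_span (by simp)
  have hvu : polar Qf v u = 1 := by rw [polar_comm]; exact huv
  have hwu : polar Qf w u = 0 := by rw [polar_comm]; exact huw
  have hwv : polar Qf w v = 0 := by rw [polar_comm]; exact hvw
  have huu : polar Qf u u = 0 := by rw [polar_self', hu, mul_zero]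
  have hvv : polar Qf v v = 0 := by rw [polar_self', hv, mul_zero]
  have hQx : Qf (u + Qf w • v) = Qf w := by
    have h := q_comb Qf 1 (Qf w) u v
    rw [one_smul] at h
    rw [h, hu, hv, huv]
    ring
  have hQy : Qf (w + b • u) = Qf w := by
    have h := q_comb Qf 1 b w u
    rw [one_smul] at h
    rw [h, hu, hwu]
    ring
  have hxy : polar Qf (u + Qf w • v) (w + b • u) = Qf w * b := by
    simp only [polar_add_left, polar_add_right, polar_smul_left, polar_smul_right, smul_eq_mul,
      huw, huu, hvw, hvu]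
    ring
  have hyx : polar Qf (w + b • u) (u + Qf w • v) = Qf w * b := by
    rw [polar_comm]
    exact hxy
  have hxx : polar Qf (u + Qf w • v) (u + Qf w • v) = 2 * Qf w := by
    rw [polar_self', hQx]
  have hyy : polar Qf (w + b • u) (w + b • u) = 2 * Qf w := by
    rw [polar_self', hQy]
  refine ⟨u + Qf w • v, w + b • u, add_mem hu' (smul_mem _ _ hv'),
    add_mem hw' (smul_mem _ _ hu'), ?_, ?_⟩
  · intro s t h
    rw [q_comb, hQx, hQy, hxy] at h
    apply hb
    have h' : Qf w * (s ^ 2 + b * s * t + t ^ 2) = 0 := by linear_combination h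
    exact (mul_eq_zero.mp h').resolve_left hw
  · intro s t h1 h2
    rw [pol_comb_r, hxx, hxy] at h1
    rw [pol_comb_r, hyx, hyy] at h2
    have hne1 : (2 : F) - b ≠ 0 := by
      intro h0
      have := (hb 1 (-1) (by linear_combination h0)).1
      exact one_ne_zero this
    have hne2 : (2 : F) + b ≠ 0 := by
      intro h0
      have := (hb 1 1 (by linear_combination h0)).1
      exact one_ne_zero this
    have hs : Qf w * ((2 - b) * (2 + b)) * s = 0 := by linear_combination 2 * h1 - b * h2
    have ht : Qf w * ((2 - b) * (2 + b)) * t = 0 := by linear_combination 2 * h2 - b * h1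
    have hne : Qf w * ((2 - b) * (2 + b)) ≠ 0 := mul_ne_zero hw (mul_ne_zero hne1 hne2)
    exact ⟨(mul_eq_zero.mp hs).resolve_left hne, (mul_eq_zero.mp ht).resolve_left hne⟩

end abs

section conc

variable (F : Type u) [Field F] [Fintype F] (d : ℕ)

theorem ndeg_bot : NDeg d F ⊥ := by
  intro w hw hne
  exact absurd ((Submodule.mem_bot F).mp hw) hne

theorem ndeg_of (W : Submodule F (J d → F))
    (h : ∀ z ∈ W, z ≠ 0 → ∃ x ∈ W, polar (plusQ d F) x z ≠ 0) : NDeg d F W := by
  intro z hz hne
  obtain ⟨x, hx, hxz⟩ := h z hz hne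
  refine ⟨⟨x, hx, hxz⟩, ⟨x, hx, ?_⟩⟩
  rw [polar_comm]
  exact hxz

theorem exists_hyp (hTs : TsIn.{u}) (Y : Submodule F (J d → F)) (hY : NDeg d F Y)
    (h3 : 2 < finrank F Y) :
    ∃ u ∈ Y, ∃ v ∈ Y, u ≠ 0 ∧ plusQ d F u = 0 ∧ plusQ d F v = 0 ∧
      polar (plusQ d F) u v = 1 := by
  obtain ⟨T, hTY, hTts, hT1⟩ := hTs F d Y 1 hY (by omega)
  have hex : ∃ u ∈ T, u ≠ 0 := by
    by_contra hcon
    push Not at hcon
    have hbot : T = ⊥ := (Submodule.eq_bot_iff T).mpr hcon
    rw [hbot, finrank_bot] at hT1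
    omega
  obtain ⟨u, huT, hu0⟩ := hex
  have hQu : plusQ d F u = 0 := hTts u huT
  obtain ⟨-, v₀, hv₀, hne⟩ := hY u (hTY huT) hu0
  have hne' : polar (plusQ d F) u v₀ ≠ 0 := hne
  have h1 : polar (plusQ d F) u ((polar (plusQ d F) u v₀)⁻¹ • v₀) = 1 := by
    rw [polar_smul_r]
    exact inv_mul_cancel₀ hne'
  have hv₁Y : (polar (plusQ d F) u v₀)⁻¹ • v₀ ∈ Y := Y.smul_mem _ hv₀
  generalize (polar (plusQ d F) u v₀)⁻¹ • v₀ = v₁ at h1 hv₁Y
  have huu : polar (plusQ d F) u u = 0 := by rw [polar_self', hQu, mul_zero]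
  refine ⟨u, hTY huT, v₁ + (-(plusQ d F v₁)) • u, Y.add_mem hv₁Y (Y.smul_mem _ (hTY huT)),
    hu0, hQu, ?_, ?_⟩
  · have h := q_comb (plusQ d F) 1 (-(plusQ d F v₁)) v₁ u
    rw [one_smul] at h
    rw [h, hQu, polar_comm, h1]
    ring
  · rw [polar_add_right, polar_smul_r, huu, h1]
    ring

theorem exists_nonsing (Y : Submodule F (J d → F)) (hY : NDeg d F Y)
    (h : 0 < finrank F Y) : ∃ w ∈ Y, plusQ d F w ≠ 0 := by
  by_contra hcon
  push Not at hcon
  have hne : Y ≠ ⊥ := by
    rintro rfl
    simp at h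
  obtain ⟨z, hz, hz0⟩ := Submodule.exists_mem_ne_zero_of_ne_bot hne
  obtain ⟨⟨x, hx, hxz⟩, -⟩ := hY z hz hz0
  apply hxz
  show polar (plusQ d F) x z = 0
  unfold QuadraticMap.polar
  rw [hcon _ (Y.add_mem hx hz), hcon x hx, hcon z hz]
  ring

theorem plus_part (hTs : TsIn.{u}) (hSP : SubPerp.{u}) (hOS : OrthSum.{u}) :
    ∀ k : ℕ, ∀ U : Submodule F (J d → F), NDeg d F U → 2 * k < finrank F U →
      ∃ W : Submodule F (J d → F), W ≤ U ∧ finrank F W = 2 * k ∧ NDeg d F W ∧ Plus d F W := by
  intro k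
  induction k with
  | zero =>
    intro U hU h
    refine ⟨⊥, bot_le, by simp, ndeg_bot F d, ⊥, le_rfl, ?_, by simp⟩
    intro w hw
    rw [(Submodule.mem_bot F).mp hw]
    exact map_zero (plusQ d F)
  | succ k ih =>
    intro U hU h
    obtain ⟨u, hu, v, hv, hu0, hQu, hQv, huv⟩ := exists_hyp F d hTs U hU (by omega)
    obtain ⟨hH2, hHnd0⟩ := hyp_plane (plusQ d F) u v hQu huv
    have hHnd : NDeg d F (span F {u, v}) := ndeg_of F d _ hHnd0
    have hHU : span F {u, v} ≤ U := by
      rw [span_le]
      rintro x (rfl | rfl)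
      exacts [hu, hv]
    obtain ⟨Y', hY'U, hY'nd, hinf, horth, hdim, -⟩ := hSP F d U _ hU hHnd hHU
    have hY'dim : 2 * k < finrank F Y' := by
      have h' : finrank F (span F ({u, v} : Set (J d → F))) = 2 := hH2
      have h'' : finrank F (span F ({u, v} : Set (J d → F))) + finrank F Y' = finrank F U := hdim
      omega
    obtain ⟨W', hW'Y, hW'k, hW'nd, T', hT'W, hT'ts, hT'k⟩ := ih Y' hY'nd hY'dim
    have horth' : ∀ a ∈ span F ({u, v} : Set (J d → F)), ∀ b ∈ W',
        polar (Cfsg.quadFormPlus d F) a b = 0 :=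
      fun a ha b hb => horth a ha b (hW'Y hb)
    obtain ⟨hnd, hinf', hfr⟩ := hOS F d _ W' hHnd hW'nd horth'
    have hfr' : finrank F ↥(span F ({u, v} : Set (J d → F)) ⊔ W') = 2 + 2 * k := by
      rw [hfr, hH2, hW'k]
    refine ⟨span F {u, v} ⊔ W', sup_le hHU (hW'Y.trans hY'U), ?_, hnd, span F {u} ⊔ T', ?_, ?_, ?_⟩
    · rw [hfr']
      ring
    · apply sup_le_sup _ hT'W
      apply span_mono
      simp
    · intro w hw
      obtain ⟨a, ha, b, hb, rfl⟩ := Submodule.mem_sup.mp hw
      obtain ⟨c, rfl⟩ := Submodule.mem_span_singleton.mp ha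
      have e1 : plusQ d F (c • u + b) =
          plusQ d F (c • u) + plusQ d F b + polar (plusQ d F) (c • u) b := q_add _ _ _
      have e2 : polar (plusQ d F) (c • u) b = 0 :=
        horth' (c • u) (smul_mem _ _ (subset_span (by simp))) b (hT'W hb)
      have e3 : plusQ d F b = 0 := hT'ts b hb
      show plusQ d F (c • u + b) = 0
      rw [e1, e2, e3, q_smul, hQu]
      ring
    · have hdisj : span F ({u} : Set (J d → F)) ⊓ T' = ⊥ := by
        rw [eq_bot_iff, ← hinf']
        exact inf_le_inf (span_mono (by simp)) hT'W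
      have h1 : finrank F (span F ({u} : Set (J d → F))) = 1 := finrank_span_singleton hu0
      have h2 := Submodule.finrank_sup_add_finrank_inf_eq (span F ({u} : Set (J d → F))) T'
      rw [hdisj, finrank_bot] at h2
      have h3 : 2 * finrank F T' = finrank F W' := hT'k
      rw [hfr']
      omega

end conc

theorem main (hTs : TsIn.{u}) (hSP : SubPerp.{u}) (hOS : OrthSum.{u}) (hC : Cancel.{u}) :
    SubTypeE.{u} := by
  intro F _ _ d e U hU hev he
  obtain ⟨k, rfl⟩ := hev
  have he' : 2 * k < finrank F U := by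
    have : k + k < finrank F U := he
    omega
  constructor
  · obtain ⟨W, hWU, hWk, hWnd, hWp⟩ := plus_part F d hTs hSP hOS k U hU he'
    exact ⟨W, hWU, by rw [hWk]; ring, hWnd, hWp⟩
  · intro h2
    have hk1 : 2 * (k - 1) < finrank F U := by omega
    obtain ⟨H, hHU, hHk, hHnd, hHp⟩ := plus_part F d hTs hSP hOS (k - 1) U hU hk1
    obtain ⟨Y', hY'U, hY'nd, hinf, horth, hdim, -⟩ := hSP F d U H hU hHnd hHU
    have hY3 : 2 < finrank F Y' := by
      have h' : finrank F H + finrank F Y' = finrank F U := hdim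
      omega
    obtain ⟨u, hu, v, hv, hu0, hQu, hQv, huv⟩ := exists_hyp F d hTs Y' hY'nd hY3
    obtain ⟨hP2, hPnd0⟩ := hyp_plane (plusQ d F) u v hQu huv
    have hPnd : NDeg d F (span F {u, v}) := ndeg_of F d _ hPnd0
    have hPY : span F {u, v} ≤ Y' := by
      rw [span_le]
      rintro x (rfl | rfl)
      exacts [hu, hv]
    obtain ⟨Y'', hY''Y, hY''nd, hinf2, horth2, hdim2, -⟩ := hSP F d Y' _ hY'nd hPnd hPY
    have hY1 : 0 < finrank F Y'' := by
      have h' : finrank F (span F ({u, v} : Set (J d → F))) = 2 := hP2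
      have h'' : finrank F (span F ({u, v} : Set (J d → F))) + finrank F Y'' = finrank F Y' :=
        hdim2
      omega
    obtain ⟨w, hw, hQw⟩ := exists_nonsing F d Y'' hY''nd hY1
    have huw : polar (plusQ d F) u w = 0 := horth2 u (subset_span (by simp)) w hw
    have hvw : polar (plusQ d F) v w = 0 := horth2 v (subset_span (by simp)) w hw
    obtain ⟨x, y, hx, hy, han, hnd⟩ := aniso_plane (plusQ d F) u v w hQu hQv huv huw hvw hQw
    have hspan : span F ({u, v, w} : Set (J d → F)) ≤ Y' := by
      rw [span_le]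
      rintro z (rfl | rfl | rfl)
      exacts [hu, hv, hY''Y hw]
    have hAY : span F ({x, y} : Set (J d → F)) ≤ Y' := by
      rw [span_le]
      rintro z (rfl | rfl)
      exacts [hspan hx, hspan hy]
    have hA2 : finrank F (span F ({x, y} : Set (J d → F))) = 2 := by
      apply finrank_pair
      intro s t h
      apply han
      rw [h]
      exact map_zero _
    have hAnd : NDeg d F (span F ({x, y} : Set (J d → F))) := by
      apply ndeg_of
      intro z hz hne
      obtain ⟨s, t, rfl⟩ := mem_span_pair.mp hz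
      by_contra hcon
      push Not at hcon
      have h1 := hcon x (subset_span (by simp))
      have h2 := hcon y (subset_span (by simp))
      obtain ⟨rfl, rfl⟩ := hnd s t h1 h2
      apply hne
      simp
    have horthA : ∀ a ∈ H, ∀ b ∈ span F ({x, y} : Set (J d → F)),
        polar (Cfsg.quadFormPlus d F) a b = 0 :=
      fun a ha b hb => horth a ha b (hAY hb)
    obtain ⟨hndW, hinfW, hfrW⟩ := hOS F d H _ hHnd hAnd horthA
    refine ⟨H ⊔ span F ({x, y} : Set (J d → F)), sup_le hHU (hAY.trans hY'U), ?_, hndW, ?_⟩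
    · have h' : finrank F ↥(H ⊔ span F ({x, y} : Set (J d → F))) =
          finrank F H + finrank F (span F ({x, y} : Set (J d → F))) := hfrW
      show finrank F ↥(H ⊔ span F ({x, y} : Set (J d → F))) = k + k
      rw [h', hHk, hA2]
      omega
    · intro hplus
      obtain ⟨T, hTA, hTts, hT⟩ := hC F d H _ hHnd hAnd horthA hplus hHp
      have hT1 : finrank F T = 1 := by
        have : 2 * finrank F T = finrank F (span F ({x, y} : Set (J d → F))) := hT
        omega
      have hex : ∃ z ∈ T, z ≠ 0 := by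
        by_contra hcon
        push Not at hcon
        have hbot : T = ⊥ := (Submodule.eq_bot_iff T).mpr hcon
        rw [hbot, finrank_bot] at hT1
        omega
      obtain ⟨z, hzT, hz0⟩ := hex
      obtain ⟨s, t, rfl⟩ := mem_span_pair.mp (hTA hzT)
      obtain ⟨rfl, rfl⟩ := han s t (hTts _ hzT)
      apply hz0
      simp

end Cfsg.Agent.Lib.Helper11.EPSUBTYPE
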