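import Mathlib
import Cfsg.Agent.Lib.Helper11.EPSUBTYPE
import Cfsg.Agent.Lib.Helper11.TPCANCEL

/-!
# Generic core of SUBTYPE (helper11): nondegenerate subspaces of plus type and of non-plus type
inside a nondegenerate subspace, for an abstract quadratic form over a finite field, given
abstract `TsIn` (a singular vector in every nondegenerate subspace of dimension `≥ 3`), `SubPerp`
and `OrthSum`.  Used for the plus form (S5988) and the minus form (S5990).
-/

set_option autoImplicit false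

universe u

namespace Cfsg.Agent.Lib.Helper11.SubTypeGen

open Module QuadraticMap Submodule
open Cfsg.Agent.Lib.Helper44.QSpace
open Cfsg.Agent.Lib.Helper11.EPSUBTYPE (finrank_pair q_comb pol_comb_r exists_b hyp_plane aniso_plane)

variable {F : Type*} [Field F] [Fintype F] {V : Type*} [AddCommGroup V] [Module F V]
  [FiniteDimensional F V]

/-- the polar form of `Qf` is nondegenerate on `W` -/
def ND (Qf : QuadraticForm F V) (W : Submodule F V) : Prop :=
  ∀ w ∈ W, w ≠ 0 → (∃ x ∈ W, polar Qf x w ≠ 0) ∧ (∃ x ∈ W, polar Qf w x ≠ 0)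

/-- `W` contains a totally singular subspace of half its dimension -/
def PL (Qf : QuadraticForm F V) (W : Submodule F V) : Prop :=
  ∃ T : Submodule F V, T ≤ W ∧ (∀ w ∈ T, Qf w = 0) ∧ 2 * finrank F T = finrank F W

variable (Qf : QuadraticForm F V)

omit [Fintype F] [FiniteDimensional F V] in
theorem nd_bot : ND Qf ⊥ := by
  intro w hw hne
  exact absurd ((Submodule.mem_bot F).mp hw) hne

omit [Fintype F] [FiniteDimensional F V] in
theorem nd_of (W : Submodule F V)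
    (h : ∀ z ∈ W, z ≠ 0 → ∃ x ∈ W, polar Qf x z ≠ 0) : ND Qf W := by
  intro z hz hne
  obtain ⟨x, hx, hxz⟩ := h z hz hne
  refine ⟨⟨x, hx, hxz⟩, ⟨x, hx, ?_⟩⟩
  rw [polar_comm]
  exact hxz

/-- abstract `TsIn` with `j = 1` -/
def HTs : Prop :=
  ∀ Y : Submodule F V, ND Qf Y → 2 < finrank F Y →
    ∃ T : Submodule F V, T ≤ Y ∧ (∀ w ∈ T, Qf w = 0) ∧ finrank F T = 1

/-- abstract `SubPerp` -/
def HSP : Prop :=
  ∀ Y B : Submodule F V, ND Qf Y → ND Qf B → B ≤ Y →
    ∃ Y' : Submodule F V, Y' ≤ Y ∧ ND Qf Y' ∧ (∀ b ∈ B, ∀ y ∈ Y', polar Qf b y = 0) ∧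
      finrank F B + finrank F Y' = finrank F Y

/-- abstract `OrthSum` -/
def HOS : Prop :=
  ∀ A B : Submodule F V, ND Qf A → ND Qf B → (∀ u ∈ A, ∀ v ∈ B, polar Qf u v = 0) →
    ND Qf (A ⊔ B) ∧ A ⊓ B = ⊥ ∧ finrank F ↥(A ⊔ B) = finrank F A + finrank F B

omit [Fintype F] [FiniteDimensional F V] in
theorem exists_hyp (hTs : HTs Qf) (Y : Submodule F V) (hY : ND Qf Y)
    (h3 : 2 < finrank F Y) :
    ∃ u ∈ Y, ∃ v ∈ Y, u ≠ 0 ∧ Qf u = 0 ∧ Qf v = 0 ∧ polar Qf u v = 1 := by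
  obtain ⟨T, hTY, hTts, hT1⟩ := hTs Y hY h3
  have hex : ∃ u ∈ T, u ≠ 0 := by
    by_contra hcon
    push Not at hcon
    have hbot : T = ⊥ := (Submodule.eq_bot_iff T).mpr hcon
    rw [hbot, finrank_bot] at hT1
    omega
  obtain ⟨u, huT, hu0⟩ := hex
  have hQu : Qf u = 0 := hTts u huT
  obtain ⟨-, v₀, hv₀, hne⟩ := hY u (hTY huT) hu0
  have hne' : polar Qf u v₀ ≠ 0 := hne
  have h1 : polar Qf u ((polar Qf u v₀)⁻¹ • v₀) = 1 := by
    rw [polar_smul_r]
    exact inv_mul_cancel₀ hne'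
  have hv₁Y : (polar Qf u v₀)⁻¹ • v₀ ∈ Y := Y.smul_mem _ hv₀
  generalize (polar Qf u v₀)⁻¹ • v₀ = v₁ at h1 hv₁Y
  have huu : polar Qf u u = 0 := by rw [polar_self', hQu, mul_zero]
  refine ⟨u, hTY huT, v₁ + (-(Qf v₁)) • u, Y.add_mem hv₁Y (Y.smul_mem _ (hTY huT)),
    hu0, hQu, ?_, ?_⟩
  · have h := q_comb Qf 1 (-(Qf v₁)) v₁ u
    rw [one_smul] at h
    rw [h, hQu, polar_comm, h1]
    ring
  · rw [polar_add_right, polar_smul_r, huu, h1]
    ring

omit [Fintype F] [FiniteDimensional F V] in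
theorem exists_nonsing (Y : Submodule F V) (hY : ND Qf Y)
    (h : 0 < finrank F Y) : ∃ w ∈ Y, Qf w ≠ 0 := by
  by_contra hcon
  push Not at hcon
  have hne : Y ≠ ⊥ := by
    rintro rfl
    simp at h
  obtain ⟨z, hz, hz0⟩ := Submodule.exists_mem_ne_zero_of_ne_bot hne
  obtain ⟨⟨x, hx, hxz⟩, -⟩ := hY z hz hz0
  apply hxz
  unfold QuadraticMap.polar
  rw [hcon _ (Y.add_mem hx hz), hcon x hx, hcon z hz]
  ring

omit [Fintype F] in
theorem plus_part (hTs : HTs Qf) (hSP : HSP Qf) (hOS : HOS Qf) :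
    ∀ k : ℕ, ∀ U : Submodule F V, ND Qf U → 2 * k < finrank F U →
      ∃ W : Submodule F V, W ≤ U ∧ finrank F W = 2 * k ∧ ND Qf W ∧ PL Qf W := by
  intro k
  induction k with
  | zero =>
    intro U hU h
    refine ⟨⊥, bot_le, by simp, nd_bot Qf, ⊥, le_rfl, ?_, by simp⟩
    intro w hw
    rw [(Submodule.mem_bot F).mp hw]
    exact map_zero Qf
  | succ k ih =>
    intro U hU h
    obtain ⟨u, hu, v, hv, hu0, hQu, hQv, huv⟩ := exists_hyp Qf hTs U hU (by omega)
    obtain ⟨hH2, hHnd0⟩ := hyp_plane Qf u v hQu huv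
    have hHnd : ND Qf (span F {u, v}) := nd_of Qf _ hHnd0
    have hHU : span F {u, v} ≤ U := by
      rw [span_le]
      rintro x (rfl | rfl)
      exacts [hu, hv]
    obtain ⟨Y', hY'U, hY'nd, horth, hdim⟩ := hSP U _ hU hHnd hHU
    have hY'dim : 2 * k < finrank F Y' := by omega
    obtain ⟨W', hW'Y, hW'k, hW'nd, T', hT'W, hT'ts, hT'k⟩ := ih Y' hY'nd hY'dim
    have horth' : ∀ a ∈ span F ({u, v} : Set V), ∀ b ∈ W', polar Qf a b = 0 :=
      fun a ha b hb => horth a ha b (hW'Y hb)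
    obtain ⟨hnd, hinf', hfr⟩ := hOS _ W' hHnd hW'nd horth'
    have hfr' : finrank F ↥(span F ({u, v} : Set V) ⊔ W') = 2 + 2 * k := by
      rw [hfr, hH2, hW'k]
    refine ⟨span F {u, v} ⊔ W', sup_le hHU (hW'Y.trans hY'U), ?_, hnd, span F {u} ⊔ T', ?_, ?_, ?_⟩
    · rw [hfr']
      ring
    · apply sup_le_sup _ hT'W
      apply span_mono
      simp
    · intro w hw
      obtain ⟨a, ha, b, hb, rfl⟩ := Submodule.mem_sup.mp hw
      obtain ⟨c, rfl⟩ := Submodule.mem_span_singleton.mp ha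
      have e2 : polar Qf (c • u) b = 0 :=
        horth' (c • u) (smul_mem _ _ (subset_span (by simp))) b (hT'W hb)
      have e3 : Qf b = 0 := hT'ts b hb
      rw [q_add, e2, e3, q_smul, hQu]
      ring
    · have hdisj : span F ({u} : Set V) ⊓ T' = ⊥ := by
        rw [eq_bot_iff, ← hinf']
        exact inf_le_inf (span_mono (by simp)) hT'W
      have h1 : finrank F (span F ({u} : Set V)) = 1 := finrank_span_singleton hu0
      have h2 := Submodule.finrank_sup_add_finrank_inf_eq (span F ({u} : Set V)) T'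
      rw [hdisj, finrank_bot] at h2
      have h3 : 2 * finrank F T' = finrank F W' := hT'k
      rw [hfr']
      omega

/-- Witt cancellation in `ND` / `PL` form -/
theorem cancel (A B : Submodule F V) (hA : ND Qf A) (hB : ND Qf B)
    (hAB : ∀ u ∈ A, ∀ v ∈ B, polar Qf u v = 0) (hP : PL Qf (A ⊔ B)) (hPA : PL Qf A) :
    PL Qf B := by
  obtain ⟨U, hU, hUts, hUd⟩ := hP
  obtain ⟨TA, hTA, hTAts, hTAd⟩ := hPA
  exact Cfsg.Agent.Lib.Helper11.TPCANCEL.cancel_gen Qf A B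
    (fun a ha h => by
      by_contra hne
      obtain ⟨⟨x, hx, hx'⟩, -⟩ := hA a ha hne
      exact hx' (h x hx))
    (fun b hb h => by
      by_contra hne
      obtain ⟨⟨x, hx, hx'⟩, -⟩ := hB b hb hne
      exact hx' (h x hx))
    hAB U hU hUts hUd TA hTA hTAts hTAd

/-- the non-plus part -/
theorem minus_part (hTs : HTs Qf) (hSP : HSP Qf) (hOS : HOS Qf) (k : ℕ) (hk : 1 ≤ k)
    (U : Submodule F V) (hU : ND Qf U) (he' : 2 * k < finrank F U) :
    ∃ W : Submodule F V, W ≤ U ∧ finrank F W = 2 * k ∧ ND Qf W ∧ ¬ PL Qf W := by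
  have hk1 : 2 * (k - 1) < finrank F U := by omega
  obtain ⟨H, hHU, hHk, hHnd, hHp⟩ := plus_part Qf hTs hSP hOS (k - 1) U hU hk1
  obtain ⟨Y', hY'U, hY'nd, horth, hdim⟩ := hSP U H hU hHnd hHU
  have hY3 : 2 < finrank F Y' := by omega
  obtain ⟨u, hu, v, hv, hu0, hQu, hQv, huv⟩ := exists_hyp Qf hTs Y' hY'nd hY3
  obtain ⟨hP2, hPnd0⟩ := hyp_plane Qf u v hQu huv
  have hPnd : ND Qf (span F {u, v}) := nd_of Qf _ hPnd0
  have hPY : span F {u, v} ≤ Y' := by
    rw [span_le]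
    rintro x (rfl | rfl)
    exacts [hu, hv]
  obtain ⟨Y'', hY''Y, hY''nd, horth2, hdim2⟩ := hSP Y' _ hY'nd hPnd hPY
  have hY1 : 0 < finrank F Y'' := by omega
  obtain ⟨w, hw, hQw⟩ := exists_nonsing Qf Y'' hY''nd hY1
  have huw : polar Qf u w = 0 := horth2 u (subset_span (by simp)) w hw
  have hvw : polar Qf v w = 0 := horth2 v (subset_span (by simp)) w hw
  obtain ⟨x, y, hx, hy, han, hnd⟩ := aniso_plane Qf u v w hQu hQv huv huw hvw hQw
  have hspan : span F ({u, v, w} : Set V) ≤ Y' := by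
    rw [span_le]
    rintro z (rfl | rfl | rfl)
    exacts [hu, hv, hY''Y hw]
  have hAY : span F ({x, y} : Set V) ≤ Y' := by
    rw [span_le]
    rintro z (rfl | rfl)
    exacts [hspan hx, hspan hy]
  have hA2 : finrank F (span F ({x, y} : Set V)) = 2 := by
    apply finrank_pair
    intro s t h
    apply han
    rw [h]
    exact map_zero _
  have hAnd : ND Qf (span F ({x, y} : Set V)) := by
    apply nd_of
    intro z hz hne
    obtain ⟨s, t, rfl⟩ := mem_span_pair.mp hz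
    by_contra hcon
    push Not at hcon
    have h1 := hcon x (subset_span (by simp))
    have h2 := hcon y (subset_span (by simp))
    obtain ⟨rfl, rfl⟩ := hnd s t h1 h2
    apply hne
    simp
  have horthA : ∀ a ∈ H, ∀ b ∈ span F ({x, y} : Set V), polar Qf a b = 0 :=
    fun a ha b hb => horth a ha b (hAY hb)
  obtain ⟨hndW, hinfW, hfrW⟩ := hOS H _ hHnd hAnd horthA
  refine ⟨H ⊔ span F ({x, y} : Set V), sup_le hHU (hAY.trans hY'U), ?_, hndW, ?_⟩
  · rw [hfrW, hHk, hA2]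
    omega
  · intro hplus
    obtain ⟨T, hTA, hTts, hT⟩ := cancel Qf H _ hHnd hAnd horthA hplus hHp
    have hT1 : finrank F T = 1 := by omega
    have hex : ∃ z ∈ T, z ≠ 0 := by
      by_contra hcon
      push Not at hcon
      have hbot : T = ⊥ := (Submodule.eq_bot_iff T).mpr hcon
      rw [hbot, finrank_bot] at hT1
      omega
    obtain ⟨z, hzT, hz0⟩ := hex
    obtain ⟨s, t, rfl⟩ := mem_span_pair.mp (hTA hzT)
    obtain ⟨rfl, rfl⟩ := han s t (hTts _ hzT)
    apply hz0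
    simp

end Cfsg.Agent.Lib.Helper11.SubTypeGen
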