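import Mathlib
import Cfsg.Agent.Lib.Helper41.TMStmt
import Cfsg.Agent.Lib.Helper44.NegPairs
import Cfsg.Agent.Lib.Helper11.SubTypeGen

/-!
# SUBTYPE and CANCEL for the standard minus form (helper11), in the vocabulary of
`Helper41.TMStmt` (for S5990): instances of `Helper11.SubTypeGen` / `Helper11.TPCANCEL.cancel_gen`.
-/

set_option autoImplicit false

universe u

namespace Cfsg.Agent.Lib.Helper11.EMGen

open Module QuadraticMap Submodule
open Cfsg.Agent.Lib.Helper44.NegPairs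
open Cfsg.Agent.Lib.Helper45.OMiStmt (M Aniso NDegM)
open Cfsg.Agent.Lib.Helper41.TMTwoStmt (TSubM PlusM)
open Cfsg.Agent.Lib.Helper11.SubTypeGen

/-- Witt cancellation of a plus-type summand for the minus form -/
theorem minus_cancel (F : Type u) [Field F] [Fintype F] (a₀ b₀ : F) (d : ℕ)
    (A B : Submodule F (M d → F)) (hA : NDegM d F a₀ b₀ A) (hB : NDegM d F a₀ b₀ B)
    (hAB : ∀ u ∈ A, ∀ v ∈ B, QuadraticMap.polar (Cfsg.quadFormMinus (d - 1) F a₀ b₀) u v = 0)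
    (hP : PlusM d F a₀ b₀ (A ⊔ B)) (hPA : PlusM d F a₀ b₀ A) : PlusM d F a₀ b₀ B :=
  cancel (minusQ (d - 1) F a₀ b₀) A B hA hB hAB hP hPA

/-- SUBTYPE for the minus form -/
theorem minus_subtype (hTs : Cfsg.Agent.Lib.Helper41.TMStmt.TsIn.{u})
    (hSP : Cfsg.Agent.Lib.Helper41.TMStmt.SubPerp.{u})
    (hOS : Cfsg.Agent.Lib.Helper41.TMStmt.OrthSum.{u})
    (F : Type u) [Field F] [Fintype F] (a₀ b₀ : F) (hab : Aniso a₀ b₀) (d k : ℕ)
    (U : Submodule F (M d → F)) (hU : NDegM d F a₀ b₀ U) (hk : 2 * k < finrank F U) :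
    (∃ W : Submodule F (M d → F), W ≤ U ∧ finrank F W = 2 * k ∧ NDegM d F a₀ b₀ W ∧
      PlusM d F a₀ b₀ W) ∧
    (1 ≤ k → ∃ W : Submodule F (M d → F), W ≤ U ∧ finrank F W = 2 * k ∧ NDegM d F a₀ b₀ W ∧
      ¬ PlusM d F a₀ b₀ W) := by
  have h1 : HTs (minusQ (d - 1) F a₀ b₀) := by
    intro Y hY h3
    exact hTs F a₀ b₀ hab d Y 1 hY (by omega)
  have h2 : HSP (minusQ (d - 1) F a₀ b₀) := by
    intro Y B hY hB hBY
    obtain ⟨Y', hY'Y, hY'nd, -, horth, hdim, -⟩ := hSP F a₀ b₀ hab d Y B hY hB hBY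
    exact ⟨Y', hY'Y, hY'nd, horth, hdim⟩
  have h3 : HOS (minusQ (d - 1) F a₀ b₀) := by
    intro A B hA hB hAB
    exact hOS F a₀ b₀ hab d A B hA hB hAB
  constructor
  · exact plus_part (minusQ (d - 1) F a₀ b₀) h1 h2 h3 k U hU hk
  · intro hk1
    exact minus_part (minusQ (d - 1) F a₀ b₀) h1 h2 h3 k hk1 U hU hk

end Cfsg.Agent.Lib.Helper11.EMGen
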