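import Mathlib
import Cfsg.Agent.Lib.Helper41.EMStmt
import Cfsg.Agent.Lib.Helper11.EMGen

/-!
# S5990 piece CANCEL (helper11, instant spare): Witt cancellation for the minus form,
an instance of the generic `Helper11.TPCANCEL.cancel_gen` (via `Helper11.EMGen.minus_cancel`).
-/

set_option autoImplicit false

universe u

namespace Cfsg.Agent.Lib.Helper11.EMCANCEL

theorem main : Cfsg.Agent.Lib.Helper41.EMStmt.CancelM.{u} := by
  intro F _ _ a₀ b₀ _ d A B hA hB hAB hP hPA
  exact Cfsg.Agent.Lib.Helper11.EMGen.minus_cancel F a₀ b₀ d A B hA hB hAB hP hPA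

end Cfsg.Agent.Lib.Helper11.EMCANCEL
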