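import Mathlib
import Cfsg.Prelude.Def_FusionSystem
import Cfsg.Agent.Lib.Helper11.FusWeak
import Cfsg.Agent.S5096
import Cfsg.Agent.S5098
import Cfsg.Agent.H84.FusModel
import Cfsg.Agent.H85.Realized
import Cfsg.Agent.Lib.Helper87.Model
import Cfsg.Agent.Lib.Helper87.FSBasic

/-!
# Weak closure of central elements in saturated fusion systems: the generic core

`W` is a characteristic functor on finite `p`-groups containing the centre.  If in every model
`G` of a normalizer system `N_F(X)` (`X` fully normalized and centric) the normalizer of the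
image of `W(N_S(X))` detects non-centrality of the image of `z`, and the maps of the system that
preserve `W(S)` fix `z`, then every map of the system fixes `z`.
-/

set_option autoImplicit false

namespace Cfsg.Agent.Lib.Helper11.FusWeak

open Cfsg Cfsg.FusionSystem

universe u

variable {Ω : Type u} [Group Ω] {S : Subgroup Ω}

/-- the functor `W` on subgroups of the ambient group -/
def WS (W : ∀ (Q : Type u) [Group Q], Subgroup Q) (T : Subgroup Ω) : Subgroup Ω :=
  (W ↥T).map T.subtype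

theorem WS_le (W : ∀ (Q : Type u) [Group Q], Subgroup Q) (T : Subgroup Ω) : WS W T ≤ T :=
  Subgroup.map_subtype_le _

theorem coe_mem_WS_iff (W : ∀ (Q : Type u) [Group Q], Subgroup Q) (T : Subgroup Ω) (t : T) :
    (t : Ω) ∈ WS W T ↔ t ∈ W ↥T := by
  constructor
  · rintro ⟨y, hy, hyt⟩
    have : y = t := Subtype.ext hyt
    rw [← this]
    exact hy
  · intro h
    exact ⟨t, h, rfl⟩

section functor

variable (W : ∀ (Q : Type u) [Group Q], Subgroup Q) {p : ℕ}
  (hW2 : ∀ (Q R : Type u) [Group Q] [Group R] [Finite Q], IsPGroup p Q →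
    ∀ φ : Q ≃* R, (W Q).map φ.toMonoidHom = W R)
  (hWZ : ∀ (Q : Type u) [Group Q] [Finite Q], IsPGroup p Q → Subgroup.center Q ≤ W Q)

include hWZ in
/-- a central element of `T` lies in `W(T)` -/
theorem mem_WS_of_central {T : Subgroup Ω} [Finite T] (hT : IsPGroup p T) {z : Ω} (hz : z ∈ T)
    (hzc : ∀ t ∈ T, t * z = z * t) : z ∈ WS W T := by
  have h1 : (⟨z, hz⟩ : T) ∈ Subgroup.center T := by
    rw [Subgroup.mem_center_iff]
    intro g
    exact Subtype.ext (hzc g g.2)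
  exact (coe_mem_WS_iff W T ⟨z, hz⟩).mpr (hWZ T hT h1)

include hW2 in
/-- `W` of the image under an injective homomorphism -/
theorem WS_range {T : Subgroup Ω} [Finite T] (hT : IsPGroup p T) (φ : T →* Ω)
    (hinj : Function.Injective φ) : WS W φ.range = (W ↥T).map φ := by
  have h1 := hW2 T φ.range hT (MonoidHom.ofInjective hinj)
  unfold WS
  rw [← h1, Subgroup.map_map]
  rfl

include hW2 in
/-- an injective endomorphism of `T` preserves `W(T)` -/
theorem WS_map_mem {T : Subgroup Ω} [Finite T] (hT : IsPGroup p T) (φ : T →* Ω)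
    (hinj : Function.Injective φ) (hφT : ∀ t : T, φ t ∈ T) (w : T) (hw : (w : Ω) ∈ WS W T) :
    φ w ∈ WS W T := by
  have hr : φ.range = T := by
    have hinj' : Function.Injective (φ.codRestrict T hφT) :=
      fun a b hab => hinj (congrArg Subtype.val hab)
    have hsurj := Finite.injective_iff_surjective.mp hinj'
    ext y
    constructor
    · rintro ⟨x, rfl⟩
      exact hφT x
    · intro hy
      obtain ⟨x, hx⟩ := hsurj ⟨y, hy⟩
      exact ⟨x, congrArg Subtype.val hx⟩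
  have h1 := WS_range W hW2 hT φ hinj
  rw [hr] at h1
  rw [h1]
  exact ⟨w, (coe_mem_WS_iff W T w).mp hw, rfl⟩

include hW2 in
/-- the normalizer of `T` normalizes `W(T)` -/
theorem normalizer_le_normalizer_WS {T : Subgroup Ω} [Finite T] (hT : IsPGroup p T) :
    Subgroup.normalizer (T : Set Ω) ≤ Subgroup.normalizer (WS W T : Set Ω) := by
  have key : ∀ g : Ω, g ∈ Subgroup.normalizer (T : Set Ω) →
      ∀ t ∈ WS W T, g * t * g⁻¹ ∈ WS W T := by
    intro g hg t ht
    have htT : t ∈ T := WS_le W T ht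
    have hinj : Function.Injective (conjHom T g) := by
      intro a b hab
      have h1 : g * (a : Ω) * g⁻¹ = g * (b : Ω) * g⁻¹ := hab
      exact Subtype.ext (mul_left_cancel (mul_right_cancel h1))
    have hmem : ∀ x : T, conjHom T g x ∈ T := fun x =>
      ((Subgroup.mem_normalizer_iff.mp hg) x).mp x.2
    exact WS_map_mem W hW2 hT (conjHom T g) hinj hmem ⟨t, htT⟩ ht
  intro g hg
  refine Cfsg.Agent.H85.mem_normalizer_of_forall (key g hg) ?_
  intro t ht
  have := key g⁻¹ (Subgroup.inv_mem _ hg) t ht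
  rwa [inv_inv] at this

end functor

theorem WS_congr (W : ∀ (Q : Type u) [Group Q], Subgroup Q) {T T' : Subgroup Ω} (h : T = T') :
    WS W T = WS W T' := by
  subst h
  rfl

/-- **Generic weak closure theorem for saturated fusion systems.** -/
theorem core [Finite S] {p : ℕ} [Fact p.Prime]
    (hS : IsPGroup p S) (F : FusionSystem S) (hF : F.IsSaturated p)
    (W : ∀ (Q : Type u) [Group Q], Subgroup Q)
    (hW2 : ∀ (Q R : Type u) [Group Q] [Group R] [Finite Q], IsPGroup p Q →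
      ∀ φ : Q ≃* R, (W Q).map φ.toMonoidHom = W R)
    (hWZ : ∀ (Q : Type u) [Group Q] [Finite Q], IsPGroup p Q → Subgroup.center Q ≤ W Q)
    (z : Ω) (hzS : z ∈ S) (hzc : ∀ s ∈ S, s * z = z * s)
    (hG : ∀ (X : Subgroup Ω), F.IsFullyNormalized X → F.IsCentric X →
      ∀ (E : FusionSystem (normalizerIn S X)), F.IsNormalizerSystem X E →
      ∀ (G : Type u) [Group G] (ι : ↥(normalizerIn S X) →* G), E.IsModel p G ι →
      ∀ (hz : z ∈ normalizerIn S X), ι ⟨z, hz⟩ ∈ pCore p G →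
      (∀ g ∈ Subgroup.normalizer (((W ↥(normalizerIn S X)).map ι : Subgroup G) : Set G),
        g * ι ⟨z, hz⟩ = ι ⟨z, hz⟩ * g) →
      ∀ g : G, g * ι ⟨z, hz⟩ = ι ⟨z, hz⟩ * g)
    (hN : ∀ (P : Subgroup Ω) (φ : P →* Ω), φ ∈ F.Hom P → WS W S ≤ P →
      (∀ x : P, (x : Ω) ∈ WS W S → φ x ∈ WS W S) → ∀ hz : z ∈ P, φ ⟨z, hz⟩ = z) :
    ∀ (P : Subgroup Ω) (φ : P →* Ω), φ ∈ F.Hom P → ∀ hz : z ∈ P, φ ⟨z, hz⟩ = z := by
  by_contra hcon
  push Not at hcon
  obtain ⟨P0, φ0, hφ0, hz0, hne0⟩ := hcon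
  -- active subgroups exist
  have hex : ∃ Y, Active F z Y := by
    by_contra hnone
    push Not at hnone
    have h1 := fix_of_no_active hS F hF z hzS hzc 0 (fun Y hY => absurd hY (hnone Y)) P0 φ0 hφ0
      (Nat.zero_le _) ⟨z, hz0⟩
    exact hne0 (h1.mpr rfl)
  obtain ⟨X, hXact, hXmax⟩ := exists_max F z hex
  obtain ⟨θ0, hθ0, hθ0X, hzX, hneX⟩ := id hXact
  have hXS : X ≤ S := hXact.le
  have hXT : X ≤ normalizerIn S X := Cfsg.Agent.H84.le_normalizerIn S hXS
  have hzT : z ∈ normalizerIn S X := hXT hzX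
  have hTS : normalizerIn S X ≤ S := inf_le_left
  have hTfin : Finite ↥(normalizerIn S X) := Cfsg.Agent.H85.finite_of_le hTS
  have hTp : IsPGroup p ↥(normalizerIn S X) := hS.to_inf_left
  have hXfin : Finite X := Cfsg.Agent.H85.finite_of_le hXS
  -- `S` is not active
  have hSna : ¬ Active F z S := by
    rintro ⟨φ, hφ, hφS, hzS', hne⟩
    exact hne (hN S φ hφ (WS_le W S)
      (fun x hx => WS_map_mem W hW2 hS φ (F.injective_of_mem hφ) hφS x hx) hzS')
  -- no active subgroup of order at least `|N_S(X)|`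
  have hno : ∀ Y, Active F z Y → Nat.card Y < Nat.card (normalizerIn S X) := by
    intro Y hY
    by_contra hge
    push Not at hge
    have hYS := hY.le
    have hYN : Y ≤ normalizerIn S Y := Cfsg.Agent.H84.le_normalizerIn S hYS
    have hfinN : Finite ↥(normalizerIn S Y) := Cfsg.Agent.H85.finite_of_le inf_le_left
    have h1 : Nat.card Y ≤ Nat.card (normalizerIn S Y) := Subgroup.card_le_of_le hYN
    have h2 : ¬ Nat.card (normalizerIn S X) < Nat.card (normalizerIn S Y) := fun h =>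
      absurd (hXmax Y hY) (not_le.mpr (msr_lt_of_normalizer hXS h))
    by_cases hYeq : Y = S
    · exact hSna (hYeq ▸ hY)
    · have := Cfsg.Agent.H85.card_lt_card_normalizerIn hS hYS hYeq
      omega
  have hfix := fix_of_no_active hS F hF z hzS hzc (Nat.card (normalizerIn S X)) hno
  -- `X` is fully normalized
  have hXfn : F.IsFullyNormalized X := by
    refine ⟨hXS, fun Q hQ => ?_⟩
    obtain ⟨X', hQX', hX'fn⟩ :=
      Cfsg.Agent.S5077.exists_fullyNormalized F (Cfsg.Agent.H85.IsConj_le_right F hQ)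
    have hXX' : F.IsConj X X' := Cfsg.Agent.H85.isConj_trans F hQ hQX'
    obtain ⟨ξ, hξ, hξX, hξN⟩ :=
      Cfsg.Agent.H85.exists_hom_normalizer_of_fullyNormalized hS F hF hX'fn hXX'
    have hξz : ξ ⟨z, hzT⟩ = z := (hfix _ ξ hξ le_rfl ⟨z, hzT⟩).mpr rfl
    have hcard : Nat.card X = Nat.card X' :=
      Cfsg.Agent.Lib.Helper88.FSBase.isConj_card F hXX'
    obtain ⟨θ', hθ', hθ'X, hz', hne'⟩ :=
      transport F hXT hξ hξX hX'fn.1 hcard.ge hθ0 hθ0X hzX hξz hneX
    have hact' : Active F z X' := ⟨θ', hθ', hθ'X, hz', hne'⟩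
    have h1 := hXmax X' hact'
    have h2 : Nat.card (normalizerIn S Q) ≤ Nat.card (normalizerIn S X') :=
      hX'fn.2 Q (Cfsg.Agent.H85.isConj_symm F hQX')
    by_contra hlt
    push Not at hlt
    exact absurd h1 (not_le.mpr (msr_lt_of_normalizer hXS (lt_of_lt_of_le hlt h2)))
  -- `X` is receptive and centric
  have hXfc := Cfsg.Agent.H84.fullyCentralized_of_fn hS F hF hXfn
  have hXrec := Cfsg.Agent.H84.receptive_of_fc hS F hF hXfc
  have hCX : centralizerIn S X ≤ X := by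
    have hact2 := active_sup_centralizer F hXrec hθ0 hθ0X hzX hneX
    have h1 := hXmax _ hact2
    have hfin2 : Finite ↥(normalizerIn S (X ⊔ centralizerIn S X)) :=
      Cfsg.Agent.H85.finite_of_le inf_le_left
    have hN12 : Nat.card (normalizerIn S X) ≤
        Nat.card (normalizerIn S (X ⊔ centralizerIn S X)) :=
      Subgroup.card_le_of_le (normalizerIn_le_sup_centralizerIn S X)
    have h2 : Nat.card (X ⊔ centralizerIn S X : Subgroup Ω) ≤ Nat.card X := by
      by_contra hlt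
      push Not at hlt
      exact absurd h1 (not_le.mpr (msr_lt_of_card hN12 hlt))
    have hfin3 : Finite ↥(X ⊔ centralizerIn S X) := Cfsg.Agent.H85.finite_of_le hact2.le
    have h3 : X = X ⊔ centralizerIn S X := Subgroup.eq_of_le_of_card_ge le_sup_left h2
    calc centralizerIn S X ≤ X ⊔ centralizerIn S X := le_sup_right
      _ = X := h3.symm
  have hXcen : F.IsCentric X := Cfsg.Agent.H85.centric_of_receptive F hXrec hCX
  -- the normalizer system and its model
  obtain ⟨E, hE⟩ := Cfsg.Agent.S5096.result F X hXS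
  have hEsat : E.IsSaturated p := Cfsg.Agent.S5098.result p hS F hF X hXfn E hE
  have hEN : E.IsNormal X := Cfsg.Agent.H84.normalizerSystem_isNormal F hXS E hE
  have hCT : centralizerIn (normalizerIn S X) X ≤ X := fun c hc => hCX ⟨hc.1.1, hc.2⟩
  obtain ⟨G, instG, ι, hM, hXn, -⟩ :=
    Cfsg.Agent.Lib.Helper87.Model.exists_model hTp E hEsat hEN hCT
  obtain ⟨hGfin, hreal, -, -⟩ := id hM
  have hinj := hreal.1
  -- the image of `z` lies in `O_p(G)`
  have hxO : ι ⟨z, hzT⟩ ∈ pCore p G := by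
    have hp : IsPGroup p ↥((X.subgroupOf (normalizerIn S X)).map ι) :=
      (hTp.to_subgroup (X.subgroupOf (normalizerIn S X))).map ι
    exact Cfsg.Agent.H85.le_pCore hXn hp ⟨⟨z, hzT⟩, Subgroup.mem_subgroupOf.mpr hzX, rfl⟩
  -- the image of `z` is not central in `G`
  have hr0 : θ0.range = X := Cfsg.Agent.Lib.Helper88.FSBase.range_eq_of_finite F hθ0 hθ0X
  have hθ0E : θ0 ∈ E.Hom X := by
    have h1 := Cfsg.Agent.H84.normalizerSystem_aut_mem F hXS E hE _
      (Cfsg.Agent.Lib.Helper87.FSBasic.autOfMap_mem F hθ0 hr0)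
    exact Cfsg.Agent.H85.hom_congr E h1 (fun x => rfl)
  obtain ⟨g0, hg0⟩ := Cfsg.Agent.H85.exists_of_mem_realized E ι hreal hθ0E
  have hnc : ¬ ∀ g : G, g * ι ⟨z, hzT⟩ = ι ⟨z, hzT⟩ * g := by
    intro hall
    have h1 : ι ⟨θ0 ⟨z, hzX⟩, hXT (hθ0X _)⟩ = g0 * ι ⟨z, hzT⟩ * g0⁻¹ := hg0 ⟨z, hzX⟩
    have h2 : g0 * ι ⟨z, hzT⟩ * g0⁻¹ = ι ⟨z, hzT⟩ := by rw [hall g0]; group
    exact hneX (congrArg Subtype.val (hinj (h1.trans h2)))
  have hmove : ∃ n ∈ Subgroup.normalizer (((W ↥(normalizerIn S X)).map ι : Subgroup G) : Set G),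
      n * ι ⟨z, hzT⟩ ≠ ι ⟨z, hzT⟩ * n := by
    by_contra hno'
    push Not at hno'
    exact hnc (hG X hXfn hXcen E hE G ι hM hzT hxO hno')
  obtain ⟨n, hnN, hnz⟩ := hmove
  -- the subgroup `U = X W(T)` and the automorphism induced by `n`
  obtain ⟨U, hUdef⟩ : ∃ U : Subgroup Ω, U = X ⊔ WS W (normalizerIn S X) := ⟨_, rfl⟩
  have hXU : X ≤ U := hUdef ▸ le_sup_left
  have hWU : WS W (normalizerIn S X) ≤ U := hUdef ▸ le_sup_right
  have hUT : U ≤ normalizerIn S X := hUdef ▸ sup_le hXT (WS_le W _)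
  -- conjugation by `n` on the image of `W(T)`
  have hconjW : ∀ w : ↥(normalizerIn S X), w ∈ W ↥(normalizerIn S X) →
      ∃ w' : ↥(normalizerIn S X), w' ∈ W ↥(normalizerIn S X) ∧ ι w' = n * ι w * n⁻¹ := by
    intro w hw
    have h1 : ι w ∈ (W ↥(normalizerIn S X)).map ι := ⟨w, hw, rfl⟩
    have h2 := ((Subgroup.mem_normalizer_iff.mp hnN) (ι w)).mp h1
    obtain ⟨w', hw', hw'e⟩ := h2
    exact ⟨w', hw', hw'e⟩
  have hconjU : ∀ u : Ω, ∀ hu : u ∈ U,
      n * ι ⟨u, hUT hu⟩ * n⁻¹ ∈ (U.subgroupOf (normalizerIn S X)).map ι := by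
    have hle : U ≤ ((((U.subgroupOf (normalizerIn S X)).map ι).comap
        (MulAut.conj n).toMonoidHom).comap ι).map (normalizerIn S X).subtype := by
      rw [hUdef]
      apply sup_le
      · intro x hx
        refine ⟨⟨x, hXT hx⟩, ?_, rfl⟩
        have h1 : n * ι ⟨x, hXT hx⟩ * n⁻¹ ∈ (X.subgroupOf (normalizerIn S X)).map ι :=
          hXn.conj_mem _ ⟨⟨x, hXT hx⟩, Subgroup.mem_subgroupOf.mpr hx, rfl⟩ n
        obtain ⟨t, ht, hte⟩ := h1
        refine ⟨t, ?_, hte⟩
        rw [← hUdef]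
        exact Subgroup.mem_subgroupOf.mpr (hXU (Subgroup.mem_subgroupOf.mp ht))
      · rintro _ ⟨w, hw, rfl⟩
        refine ⟨w, ?_, rfl⟩
        obtain ⟨w', hw', hw'e⟩ := hconjW w hw
        refine ⟨w', ?_, hw'e⟩
        rw [← hUdef]
        exact Subgroup.mem_subgroupOf.mpr (hWU ((coe_mem_WS_iff W _ w').mpr hw'))
    intro u hu
    obtain ⟨t, ht, hte⟩ := hle hu
    have e : t = ⟨u, hUT hu⟩ := Subtype.ext hte
    rw [← e]
    exact ht
  have hconjR : ∀ x : U, n * ι ⟨x, hUT x.2⟩ * n⁻¹ ∈ ι.range := by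
    intro x
    obtain ⟨t, -, hte⟩ := hconjU x x.2
    exact ⟨t, hte⟩
  obtain ⟨θ, hθdef⟩ : ∃ θ : U →* Ω, θ = Cfsg.Agent.H85.pullConj ι hinj hUT n hconjR := ⟨_, rfl⟩
  have hθS : ∀ x : U, θ x ∈ normalizerIn S X := fun x => by
    rw [hθdef]; exact Cfsg.Agent.H85.pullConj_mem_S ι hinj hUT n hconjR x
  have hθι : ∀ x : U, ι ⟨θ x, hθS x⟩ = n * ι ⟨x, hUT x.2⟩ * n⁻¹ := fun x => by
    subst hθdef
    exact Cfsg.Agent.H85.ι_pullConj ι hinj hUT n hconjR x
  have hθE : θ ∈ E.Hom U := by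
    rw [hθdef]; exact Cfsg.Agent.H85.pullConj_mem E ι hreal hUT n hconjR
  have hθF : θ ∈ F.Hom U := by
    have h1 := hθE
    rw [hE U] at h1
    exact h1.1
  have hθU : ∀ x : U, θ x ∈ U := by
    intro x
    obtain ⟨t, ht, hte⟩ := hconjU x x.2
    have h1 : ι t = ι ⟨θ x, hθS x⟩ := hte.trans (hθι x).symm
    have h2 := hinj h1
    have h3 : (t : Ω) = θ x := congrArg Subtype.val h2
    rw [← h3]
    exact Subgroup.mem_subgroupOf.mp ht
  have hθW : ∀ x : U, (x : Ω) ∈ WS W (normalizerIn S X) → θ x ∈ WS W (normalizerIn S X) := by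
    intro x hx
    have hxw : (⟨(x : Ω), hUT x.2⟩ : ↥(normalizerIn S X)) ∈ W ↥(normalizerIn S X) :=
      (coe_mem_WS_iff W (normalizerIn S X) ⟨(x : Ω), hUT x.2⟩).mp hx
    obtain ⟨w', hw', hw'e⟩ := hconjW _ hxw
    have h1 : ι w' = ι ⟨θ x, hθS x⟩ := hw'e.trans (hθι x).symm
    have h2 := hinj h1
    have h3 : (w' : Ω) = θ x := congrArg Subtype.val h2
    rw [← h3]
    exact (coe_mem_WS_iff W _ w').mpr hw'
  have hzU : z ∈ U := hXU hzX
  have hθz : θ ⟨z, hzU⟩ ≠ z := by
    intro h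
    apply hnz
    have h1 : ι ⟨θ ⟨z, hzU⟩, hθS _⟩ = n * ι ⟨z, hzT⟩ * n⁻¹ := hθι ⟨z, hzU⟩
    have h2 : (⟨θ ⟨z, hzU⟩, hθS _⟩ : ↥(normalizerIn S X)) = ⟨z, hzT⟩ := Subtype.ext h
    rw [h2] at h1
    calc n * ι ⟨z, hzT⟩ = n * ι ⟨z, hzT⟩ * n⁻¹ * n := by group
      _ = ι ⟨z, hzT⟩ * n := by rw [← h1]
  by_cases hTeq : normalizerIn S X = S
  · -- `N_S(X) = S`: contradiction with the hypothesis on `W(S)`
    have hWeq : WS W (normalizerIn S X) = WS W S := WS_congr W hTeq
    rw [hWeq] at hWU hθW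
    exact hθz (hN U θ hθF hWU hθW hzU)
  · -- `N_S(X) < S`: climb
    obtain ⟨V, hVdef⟩ : ∃ V : Subgroup Ω, V = WS W (normalizerIn S X) := ⟨_, rfl⟩
    rw [← hVdef] at hWU hθW
    have hVT : V ≤ normalizerIn S X := hVdef ▸ WS_le W _
    have hVS : V ≤ S := hVT.trans hTS
    have hlt1 : Nat.card (normalizerIn S X) < Nat.card (normalizerIn S (normalizerIn S X)) :=
      Cfsg.Agent.H85.card_lt_card_normalizerIn hS hTS hTeq
    have hNN : normalizerIn S (normalizerIn S X) ≤ normalizerIn S V := by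
      intro g hg
      refine ⟨hg.1, ?_⟩
      have := normalizer_le_normalizer_WS W hW2 hTp hg.2
      rw [← hVdef] at this
      exact this
    have hfinNV : Finite ↥(normalizerIn S V) := Cfsg.Agent.H85.finite_of_le inf_le_left
    have hlt2 : Nat.card (normalizerIn S X) < Nat.card (normalizerIn S V) :=
      lt_of_lt_of_le hlt1 (Subgroup.card_le_of_le hNN)
    have hzV : z ∈ V := by
      rw [hVdef]
      exact mem_WS_of_central W hWZ hTp hzT (fun t ht => hzc t (hTS ht))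
    have hθV : θ.comp (Subgroup.inclusion hWU) ∈ F.Hom V :=
      Cfsg.Agent.H85.restrict_mem F hθF hWU
    have hθVV : ∀ v : V, (θ.comp (Subgroup.inclusion hWU)) v ∈ V := fun v => hθW _ v.2
    have hθVz : (θ.comp (Subgroup.inclusion hWU)) ⟨z, hzV⟩ ≠ z := hθz
    obtain ⟨V1, hVV1, hV1fn⟩ := Cfsg.Agent.S5077.exists_fullyNormalized F hVS
    obtain ⟨ξ, hξ, hξV, hξN⟩ :=
      Cfsg.Agent.H85.exists_hom_normalizer_of_fullyNormalized hS F hF hV1fn hVV1
    have hVN : V ≤ normalizerIn S V := Cfsg.Agent.H84.le_normalizerIn S hVS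
    have hξz : ξ ⟨z, hVN hzV⟩ = z := (hfix _ ξ hξ hlt2.le ⟨z, hVN hzV⟩).mpr rfl
    have hcard : Nat.card V = Nat.card V1 := Cfsg.Agent.Lib.Helper88.FSBase.isConj_card F hVV1
    obtain ⟨θ1, hθ1, hθ1V, hz1, hne1⟩ :=
      transport F hVN hξ hξV hV1fn.1 hcard.ge hθV hθVV hzV hξz hθVz
    have hV1fc := Cfsg.Agent.H84.fullyCentralized_of_fn hS F hF hV1fn
    have hV1rec := Cfsg.Agent.H84.receptive_of_fc hS F hF hV1fc
    have hact3 := active_sup_centralizer F hV1rec hθ1 hθ1V hz1 hne1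
    have hfinN1 : Finite ↥(normalizerIn S V1) := Cfsg.Agent.H85.finite_of_le inf_le_left
    have hc1 : Nat.card (normalizerIn S V) ≤ Nat.card (normalizerIn S V1) :=
      Nat.card_le_card_of_injective (ξ.codRestrict (normalizerIn S V1) hξN)
        (fun a b hab => F.injective_of_mem hξ (congrArg Subtype.val hab))
    have hfinN2 : Finite ↥(normalizerIn S (V1 ⊔ centralizerIn S V1)) :=
      Cfsg.Agent.H85.finite_of_le inf_le_left
    have hc2 : Nat.card (normalizerIn S V1) ≤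
        Nat.card (normalizerIn S (V1 ⊔ centralizerIn S V1)) :=
      Subgroup.card_le_of_le (normalizerIn_le_sup_centralizerIn S V1)
    have hlt3 : Nat.card (normalizerIn S X) <
        Nat.card (normalizerIn S (V1 ⊔ centralizerIn S V1)) := by omega
    exact absurd (hXmax _ hact3) (not_le.mpr (msr_lt_of_normalizer hXS hlt3))

end Cfsg.Agent.Lib.Helper11.FusWeak
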