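import Cfsg.Agent.Lib.Helper26.J3Stmt
import Cfsg.Agent.Lib.Helper11.J3ZF1

set_option autoImplicit false

namespace Cfsg.Agent.Lib.Helper11.J3ECONJ

open Cfsg.Agent.Lib.Helper26.J3Stmt

universe u

set_option maxRecDepth 100000 in
/-- elements of order 3 of `SL(2,3)` are conjugate up to inversion. -/
theorem sl_conj : ∀ a : SL, a * a * a = 1 → a ≠ 1 → ∀ b : SL, b * b * b = 1 → b ≠ 1 →
    ∃ g : SL, g * a = b * g ∨ g * a = b * b * g := by decide

theorem main : Cfsg.Agent.Lib.Helper26.J3Stmt.ECONJ.{u} := by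
  intro X _ hX d hdR hd3
  obtain ⟨hZ3, hZR, hZcomm, hZchar⟩ := Cfsg.Agent.Lib.Helper11.J3ZF1.main X hX
  obtain ⟨hfin, hES, hcard, hexp, ⟨e⟩, h2, ⟨E0, hE0c, hE0exp, hE0card⟩⟩ := hX
  have := hfin
  have h27 : Nat.card (R X) = 27 := hcard
  -- the projection
  let φ : X →* SL := e.toMonoidHom.comp (QuotientGroup.mk' (R X))
  have hφ1 : ∀ x : X, φ x = 1 ↔ x ∈ R X := by
    intro x
    show e (QuotientGroup.mk x) = 1 ↔ x ∈ R X
    rw [MulEquiv.map_eq_one_iff, QuotientGroup.eq_one_iff]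
  have hφs : Function.Surjective φ := by
    intro g
    obtain ⟨q, hq⟩ := e.surjective g
    obtain ⟨x, hx⟩ := QuotientGroup.mk_surjective q
    exact ⟨x, by show e (QuotientGroup.mk x) = g; rw [hx, hq]⟩
  have hE0comm : ∀ a ∈ E0, ∀ b ∈ E0, a * b = b * a := by
    intro a ha b hb
    have := hE0c.is_comm.comm (⟨a, ha⟩ : E0) ⟨b, hb⟩
    exact congrArg Subtype.val this
  -- an element of E0 outside R
  have hex : ∃ e0 ∈ E0, e0 ∉ R X := by
    by_contra hcon
    push_neg at hcon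
    have hle : E0 ≤ R X := hcon
    have heq : E0 = R X := by
      apply Subgroup.eq_of_le_of_card_ge hle
      rw [h27, hE0card]
    have h1 : R X ≤ Zc X := fun r hr => hZchar r hr
      (fun s hs => hE0comm r (heq ▸ hr) s (heq ▸ hs))
    have h2 := Subgroup.card_le_of_le h1
    rw [hZ3, h27] at h2
    omega
  obtain ⟨e0, he0, he0R⟩ := hex
  have ha3 : φ e0 * φ e0 * φ e0 = 1 := by
    rw [← map_mul, ← map_mul, hφ1]
    have : e0 * e0 * e0 = e0 ^ 3 := by rw [pow_succ, pow_two]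
    rw [this, hE0exp e0 he0]
    exact one_mem _
  have ha1 : φ e0 ≠ 1 := fun h => he0R ((hφ1 e0).mp h)
  have hb3 : φ d * φ d * φ d = 1 := by
    rw [← map_mul, ← map_mul, hφ1]
    have : d * d * d = d ^ 3 := by rw [pow_succ, pow_two]
    rw [this]
    exact hd3
  have hb1 : φ d ≠ 1 := fun h => hdR ((hφ1 d).mp h)
  obtain ⟨g, hg⟩ := sl_conj (φ e0) ha3 ha1 (φ d) hb3 hb1
  obtain ⟨x, hx⟩ := hφs g
  have hcE : x * e0 * x⁻¹ ∈ E0.map (MulAut.conj x).toMonoidHom := ⟨e0, he0, rfl⟩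
  refine ⟨E0.map (MulAut.conj x).toMonoidHom, inferInstance, ?_, ?_, ?_⟩
  · rintro _ ⟨a, ha, rfl⟩
    show (MulAut.conj x a) ^ 3 = 1
    rw [← map_pow, hE0exp a ha, map_one]
  · rw [Subgroup.card_map_of_injective (MulAut.conj x).injective]
    exact hE0card
  · rcases hg with hg | hg
    · refine ⟨x * e0 * x⁻¹ * d⁻¹, ?_, Or.inl ?_⟩
      · rw [← hφ1]
        simp only [map_mul, map_inv, hx]
        rw [hg]
        group
      · have : x * e0 * x⁻¹ * d⁻¹ * d = x * e0 * x⁻¹ := by group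
        rw [this]
        exact hcE
    · refine ⟨x * e0 * x⁻¹ * d, ?_, Or.inr ?_⟩
      · rw [← hφ1]
        simp only [map_mul, map_inv, hx]
        rw [hg]
        have : φ d * φ d * g * g⁻¹ * φ d = φ d * φ d * φ d := by group
        rw [this, hb3]
      · have : x * e0 * x⁻¹ * d * d⁻¹ = x * e0 * x⁻¹ := by group
        rw [this]
        exact hcE

end Cfsg.Agent.Lib.Helper11.J3ECONJ
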