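import Mathlib
import Cfsg.Agent.Lib.Helper56.PEStmt

set_option autoImplicit false

namespace Cfsg.Agent.Lib.Helper11.PECORE3

open Equiv Equiv.Perm Cfsg.Agent.Lib.Helper56.PEStmt

theorem main (hK2 : K2) (hK3 : K3) (hK45 : K45) (hK5F : K5F) (hK59 : K59) : Core3 := by
  intro β _ _ p hp hp2 c hc hsupp a hcard μ₁ hne hall hsum
  classical
  have hp3 : 3 ≤ p := by
    have := hp.two_le
    omega
  obtain ⟨S, hS, hmax0⟩ := Multiset.exists_max_image (fun q : ℕ => q) hne
  have hmax : ∀ z ∈ μ₁, z ≤ S := hmax0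
  obtain ⟨i, hi1, hia, hSi⟩ := hall S hS
  have hμ : S ::ₘ μ₁.erase S = μ₁ := Multiset.cons_erase hS
  have hpS : p ∣ S := by rw [hSi]; exact dvd_pow_self p (by omega)
  have hSdvd : S ∣ Fintype.card β := by rw [hcard, hSi]; exact pow_dvd_pow p (by omega)
  have hSle : S * p ≤ Fintype.card β := by
    rw [hcard, hSi, ← pow_succ]; exact Nat.pow_le_pow_right hp.pos (by omega)
  have h3S : 3 * S ≤ Fintype.card β := by
    have : S * 3 ≤ S * p := Nat.mul_le_mul_left S hp3
    omega
  by_cases hS5 : 5 ≤ S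
  · by_cases hν : μ₁.erase S = 0
    · have hμ1 : μ₁ = {S} := by rw [← hμ, hν]; rfl
      have hlt : S < Fintype.card β := by omega
      obtain ⟨t, ht, hgood⟩ := hK2 p hp c hc hsupp S hS5 hpS hSdvd hlt
      exact ⟨t, by rw [ht, hμ1], hgood⟩
    · obtain ⟨q, hq⟩ := Multiset.exists_mem_of_ne_zero hν
      have hν' : q ::ₘ (μ₁.erase S).erase q = μ₁.erase S := Multiset.cons_erase hq
      have hqμ : q ∈ μ₁ := Multiset.mem_of_mem_erase hq
      obtain ⟨j, hj1, hja, hqj⟩ := hall q hqμ
      have hqS : q ≤ S := hmax q hqμ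
      have hq3 : 3 ≤ q := by
        rw [hqj]
        calc 3 ≤ p := hp3
          _ = p ^ 1 := (pow_one p).symm
          _ ≤ p ^ j := Nat.pow_le_pow_right hp.pos hj1
      have hqdvd : q ∣ S := by
        rw [hqj, hSi]
        apply pow_dvd_pow
        by_contra hcon
        push_neg at hcon
        have hlt : p ^ i < p ^ j := Nat.pow_lt_pow_right hp.one_lt hcon
        rw [hqj, hSi] at hqS
        omega
      have h2 : ∀ x ∈ (μ₁.erase S).erase q, 2 ≤ x := by
        intro x hx
        have hxμ : x ∈ μ₁ := Multiset.mem_of_mem_erase (Multiset.mem_of_mem_erase hx)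
        obtain ⟨k, hk1, -, hxk⟩ := hall x hxμ
        rw [hxk]
        calc 2 ≤ p := hp.two_le
          _ = p ^ 1 := (pow_one p).symm
          _ ≤ p ^ k := Nat.pow_le_pow_right hp.pos hk1
      have e1 : μ₁.sum = S + (μ₁.erase S).sum := by
        conv_lhs => rw [← hμ]
        rw [Multiset.sum_cons]
      have e2 : (μ₁.erase S).sum = q + ((μ₁.erase S).erase q).sum := by
        conv_lhs => rw [← hν']
        rw [Multiset.sum_cons]
      have hsum' : S + q + ((μ₁.erase S).erase q).sum ≤ Fintype.card β := by omega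
      obtain ⟨t, ht, hgood⟩ := hK3 p hp c hc hsupp S q _ hS5 hpS hSdvd h3S hq3 hqdvd h2 hsum'
      refine ⟨t, ?_, hgood⟩
      rw [ht, hν', hμ]
  · have hpS_le : p ≤ S := Nat.le_of_dvd (by rw [hSi]; exact pow_pos hp.pos i) hpS
    have hp_lt : p < 5 := by omega
    have hp_eq : p = 3 := by
      interval_cases p
      · rfl
      · exact absurd hp (by norm_num)
    subst hp_eq
    have hq3 : ∀ q ∈ μ₁, q = 3 := by
      intro q hq
      obtain ⟨j, hj1, -, hqj⟩ := hall q hq
      have hqS := hmax q hq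
      have hj : j = 1 := by
        by_contra hj
        have hj2 : 2 ≤ j := by omega
        have h9 : 3 ^ 2 ≤ 3 ^ j := Nat.pow_le_pow_right (by norm_num) hj2
        rw [hqj] at hqS
        omega
      rw [hqj, hj]; norm_num
    obtain ⟨k, hk⟩ : ∃ k, Multiset.card μ₁ = k := ⟨_, rfl⟩
    have hrep : μ₁ = Multiset.replicate k 3 := Multiset.eq_replicate.mpr ⟨hk, hq3⟩
    have hk1 : 1 ≤ k := by
      rw [← hk]; exact Multiset.card_pos.mpr hne
    have hsum3 : 3 * k ≤ Fintype.card β := by
      have e : μ₁.sum = 3 * k := by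
        rw [hrep, Multiset.sum_replicate, smul_eq_mul, mul_comm]
      omega
    have ha1 : 1 ≤ a := by omega
    have h9 : 9 ≤ Fintype.card β := by
      rw [hcard]
      calc 9 = 3 ^ 2 := by norm_num
        _ ≤ 3 ^ (a + 1) := Nat.pow_le_pow_right (by norm_num) (by omega)
    have h3dvd : 3 ∣ Fintype.card β := by rw [hcard]; exact dvd_pow_self 3 (by omega)
    by_cases hcase : 3 * k + 3 ≤ Fintype.card β
    · obtain ⟨k', rfl⟩ : ∃ k', k = k' + 1 := ⟨k - 1, by omega⟩
      obtain ⟨t, ht, hgood⟩ := hK45 c hc hsupp h3dvd h9 (Multiset.replicate k' 3)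
        (by intro x hx; rw [Multiset.eq_of_mem_replicate hx]; norm_num)
        (by rw [Multiset.sum_replicate, smul_eq_mul]; omega)
      refine ⟨t, ?_, hgood⟩
      rw [ht, hrep, Multiset.replicate_succ]
    · have h3k : 3 * k = Fintype.card β := by
        obtain ⟨d, hd⟩ := h3dvd
        omega
      by_cases h9' : Fintype.card β = 9
      · have hk3 : k = 3 := by omega
        obtain ⟨t, ht, hgood⟩ := hK59 c hc hsupp h9'
        refine ⟨t, ?_, hgood⟩
        rw [ht, hrep, hk3]
        rfl
      · have h27 : 27 ≤ Fintype.card β := by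
          have ha2 : 2 ≤ a := by
            by_contra hcon
            have ha' : a = 1 := by omega
            rw [ha'] at hcard
            norm_num at hcard
            exact h9' hcard
          rw [hcard]
          calc 27 = 3 ^ 3 := by norm_num
            _ ≤ 3 ^ (a + 1) := Nat.pow_le_pow_right (by norm_num) (by omega)
        obtain ⟨k', rfl⟩ : ∃ k', k = k' + 3 := ⟨k - 3, by omega⟩
        obtain ⟨t, ht, hgood⟩ := hK5F c hc hsupp h3dvd h27 (Multiset.replicate k' 3)
          (by intro x hx; rw [Multiset.eq_of_mem_replicate hx]; norm_num)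
          (by rw [Multiset.sum_replicate, smul_eq_mul]; omega)
        refine ⟨t, ?_, hgood⟩
        rw [ht, hrep, Multiset.replicate_succ, Multiset.replicate_succ, Multiset.replicate_succ]

end Cfsg.Agent.Lib.Helper11.PECORE3
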