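import Mathlib
import Cfsg.Agent.Lib.Helper56.PEStmt

set_option autoImplicit false

namespace Cfsg.Agent.Lib.Helper11.PERNS

open Equiv Equiv.Perm Cfsg.Agent.Lib.Helper56.PEStmt

/-- pairs `(π, h)` with `π ∘ ι = ι ∘ h` -/
def compat {α β : Type} (ι : β → α) : Subgroup (Perm α × Perm β) where
  carrier := {x | ∀ b, x.1 (ι b) = ι (x.2 b)}
  mul_mem' := by
    intro x y hx hy b
    show x.1 (y.1 (ι b)) = ι (x.2 (y.2 b))
    rw [hy b, hx (y.2 b)]
  one_mem' := by
    intro b
    rfl
  inv_mem' := by
    intro x hx b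
    show x.1⁻¹ (ι b) = ι (x.2⁻¹ b)
    rw [Perm.inv_eq_iff_eq]
    have := hx (x.2⁻¹ b)
    rw [this]
    congr 1
    show b = x.2 (x.2⁻¹ b)
    rw [← Perm.mul_apply, mul_inv_cancel, Perm.one_apply]

theorem main : Cfsg.Agent.Lib.Helper56.PEStmt.RNS := by
  intro α β ι hι f g A B hA hB hns H hAH hBH hsolv
  apply hns
  -- `T = closure {(A, f), (B, g)}`
  have hTle : Subgroup.closure ({(A, f), (B, g)} : Set (Perm α × Perm β)) ≤ compat ι := by
    rw [Subgroup.closure_le]
    intro x hx
    rcases hx with rfl | rfl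
    · exact hA
    · exact hB
  have hfst : (Subgroup.closure ({(A, f), (B, g)} : Set (Perm α × Perm β))).map
      (MonoidHom.fst (Perm α) (Perm β)) = Subgroup.closure ({A, B} : Set (Perm α)) := by
    rw [MonoidHom.map_closure, Set.image_pair]
    rfl
  have hsnd : (Subgroup.closure ({(A, f), (B, g)} : Set (Perm α × Perm β))).map
      (MonoidHom.snd (Perm α) (Perm β)) = Subgroup.closure ({f, g} : Set (Perm β)) := by
    rw [MonoidHom.map_closure, Set.image_pair]
    rfl
  have hABH : Subgroup.closure ({A, B} : Set (Perm α)) ≤ H := by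
    rw [Subgroup.closure_le]
    intro x hx
    rcases hx with rfl | rfl
    · exact hAH
    · exact hBH
  -- `T` embeds in `H`
  have hmem : ∀ x : ↥(Subgroup.closure ({(A, f), (B, g)} : Set (Perm α × Perm β))),
      (x : Perm α × Perm β).1 ∈ H := by
    intro x
    apply hABH
    rw [← hfst]
    exact ⟨x.1, x.2, rfl⟩
  let ψ : ↥(Subgroup.closure ({(A, f), (B, g)} : Set (Perm α × Perm β))) →* ↥H :=
    { toFun := fun x => ⟨(x : Perm α × Perm β).1, hmem x⟩
      map_one' := rfl
      map_mul' := fun _ _ => rfl }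
  have hψ : Function.Injective ψ := by
    intro x y hxy
    have h1 : (x : Perm α × Perm β).1 = (y : Perm α × Perm β).1 := congrArg Subtype.val hxy
    have hx := hTle x.2
    have hy := hTle y.2
    have h2 : (x : Perm α × Perm β).2 = (y : Perm α × Perm β).2 := by
      ext b
      apply hι
      rw [← hx b, ← hy b, h1]
    apply Subtype.ext
    exact Prod.ext h1 h2
  have hT : Group.IsSolvable ↥(Subgroup.closure ({(A, f), (B, g)} : Set (Perm α × Perm β))) :=
    Group.isSolvable_of_isSolvable_injective hψ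
  -- the second projection maps `T` onto `closure {f, g}`
  have hmem2 : ∀ x : ↥(Subgroup.closure ({(A, f), (B, g)} : Set (Perm α × Perm β))),
      (x : Perm α × Perm β).2 ∈ Subgroup.closure ({f, g} : Set (Perm β)) := by
    intro x
    rw [← hsnd]
    exact ⟨x.1, x.2, rfl⟩
  let χ : ↥(Subgroup.closure ({(A, f), (B, g)} : Set (Perm α × Perm β))) →*
      ↥(Subgroup.closure ({f, g} : Set (Perm β))) :=
    { toFun := fun x => ⟨(x : Perm α × Perm β).2, hmem2 x⟩
      map_one' := rfl
      map_mul' := fun _ _ => rfl }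
  have hχ : Function.Surjective χ := by
    rintro ⟨y, hy⟩
    rw [← hsnd] at hy
    obtain ⟨x, hx, rfl⟩ := hy
    exact ⟨⟨x, hx⟩, rfl⟩
  exact Group.isSolvable_of_surjective hχ

end Cfsg.Agent.Lib.Helper11.PERNS
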