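import Mathlib
import Cfsg.Prelude.Def_FusionSystem
import Cfsg.Agent.Lib.Helper85.PPStmt

set_option autoImplicit false

/-! Piece [RS] of S5113 (helper85 call): rigidity of `Q < T` from the telescoping. -/

namespace Cfsg.Agent.Lib.Helper11.PPRS

open Cfsg Cfsg.FusionSystem Cfsg.Agent.Lib.Helper85.PPStmt

universe u v

theorem main (hTel : Tel.{u, v}) (hLU : LDegUniq.{u, v}) (hLR : LDegRes.{u, v})
    (hSS : StarSubtype.{u}) : RigidStep.{u, v} := by
  intro Ω _ S _ p _ hS F hsat A _ δ T hDD Q hFN hQT hlt hC hbig u hu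
  have hQS : Q ≤ S := hQT.trans hDD.le
  -- the conjugate `P'' = u Q u⁻¹`
  let P'' : Subgroup Ω := Q.map (MulAut.conj (u : Ω)).toMonoidHom
  have hmemP'' : ∀ y : Ω, y ∈ P'' ↔ (u : Ω)⁻¹ * y * (u : Ω) ∈ Q := by
    intro y
    constructor
    · rintro ⟨x, hx, rfl⟩
      have : (u : Ω)⁻¹ * ((MulAut.conj (u : Ω)).toMonoidHom x) * (u : Ω) = x := by
        simp [MulAut.conj_apply, mul_assoc]
      rw [this]; exact hx
    · intro hy
      refine ⟨(u : Ω)⁻¹ * y * (u : Ω), hy, ?_⟩
      simp [MulAut.conj_apply, mul_assoc]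
  have hcard : Nat.card P'' = Nat.card Q := by
    have : Nat.card (Q.map (MulAut.conj (u : Ω)).toMonoidHom) = Nat.card Q :=
      Subgroup.card_map_of_injective (MulAut.conj (u : Ω)).injective
    exact this
  have hNS' : normalizerIn T Q ≤ S := inf_le_left.trans hDD.le
  have hNS'' : normalizerIn T P'' ≤ S := inf_le_left.trans hDD.le
  have hsub : ∀ P : Subgroup Ω, P ≤ S → P.subtype ∈ F.Hom P := by
    intro P hP
    have h1 := F.conj_mem (P := P) (g := 1) hP (one_mem S)
    have h2 : conjHom P (1 : Ω) = P.subtype := by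
      ext x
      simp [conjHom]
    rw [h2] at h1
    exact h1
  have hconj_apply : ∀ (P : Subgroup Ω) (g : Ω) (x : P), conjHom P g x = g * (x : Ω) * g⁻¹ := by
    intro P g x
    simp [conjHom, MulAut.conj_apply]
  have hres := hTel Ω S p hS F hsat A δ T hDD Q hFN hQT hlt hbig Q (conjHom Q (u : Ω)) hu
    Q P'' le_rfl hQT
    (by
      intro x _
      rw [hmemP'', hconj_apply]
      have : (u : Ω)⁻¹ * ((u : Ω) * (x : Ω) * (u : Ω)⁻¹) * (u : Ω) = x := by group
      rw [this]; exact x.2)
    rfl hcard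
    (normalizerIn T Q).subtype (conjHom (normalizerIn T P'') ((u⁻¹ : S) : Ω)) 1 u⁻¹
    (hsub _ hNS') (F.conj_mem hNS'' (u⁻¹ : S).2)
    ⟨(normalizerIn T Q).subtype, hSS Ω S F p _ hNS', by intro x; simp⟩
    ⟨(normalizerIn T P'').subtype, hSS Ω S F p _ hNS'', by
      intro x
      rw [hconj_apply]
      rfl⟩
    (by intro x hx; exact hx)
    (by
      intro x hx
      rw [hconj_apply]
      have := (hmemP'' _).1 hx
      simpa using this)
    1
    (by
      intro x _ hxN hq hx''
      rw [hconj_apply]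
      simp only [MulAut.one_apply, Subgroup.subtype_apply, hconj_apply]
      simp only [Subgroup.coe_inv, inv_inv]
      group)
  have hres1 : LDeg F p δ Q (1 : MulAut Q) 1 := by
    have := hLR Ω S F p A δ Q hQS 1 (one_mem _)
    simpa using this
  have heq := hLU Ω S p hS F hsat A δ T hDD Q hFN hC 1 _ _ hres hres1
  rw [map_one, inv_one, mul_one, map_inv, inv_eq_one] at heq
  exact heq

end Cfsg.Agent.Lib.Helper11.PPRS
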