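import Mathlib
import Cfsg.Prelude.Def_FusionSystem
import Cfsg.Agent.Lib.Helper85.PPStmt

set_option autoImplicit false

/-! Piece [RT] of S5113 (helper85 call): `T` itself is rigid when `C_S(T) ≤ T`. -/

namespace Cfsg.Agent.Lib.Helper11.PPRT

open Cfsg Cfsg.FusionSystem Cfsg.Agent.Lib.Helper85.PPStmt

universe u v

theorem main (hSR : StarRes.{u}) (hLK : LocalKer.{u, v}) (hDI : DegInv.{u, v}) :
    RigidTop.{u, v} := by
  intro Ω _ S _ p _ hS F hsat A _ δ T hDD hC
  intro u hu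
  -- `T` is invariant under all maps whose source contains `T`
  have hinv : ∀ (R : Subgroup Ω) (φ : R →* Ω), φ ∈ F.Hom R → T ≤ R →
      ∀ x : R, (x : Ω) ∈ T → φ x ∈ T := by
    intro R φ hφ _ x hx
    have h1 := hDI Ω S p hS F hsat A δ T hDD R φ hφ x
    have h2 : δ ⟨x, (F.le_of_mem hφ).1 x.2⟩ = 1 := (hDD.ker _).2 hx
    rw [h2] at h1
    exact (hDD.ker _).1 h1
  obtain ⟨n, hn, hnx⟩ := hSR Ω S S F F p le_rfl (fun P => subset_rfl) T hDD.le hinv T
    (conjHom T (u : Ω)) hu le_rfl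
  -- `T` is normal in `S`
  have hTn : ∀ s : S, ∀ t : Ω, t ∈ T → (s : Ω) * t * (s : Ω)⁻¹ ∈ T := by
    intro s t ht
    have hts : t ∈ S := hDD.le ht
    have h1 : δ (s * ⟨t, hts⟩ * s⁻¹) = 1 := by
      rw [map_mul, map_mul, (hDD.ker ⟨t, hts⟩).2 ht, mul_one, map_inv, mul_inv_cancel]
    exact (hDD.ker _).1 h1
  have hNT : normalizerIn S T = S := by
    apply le_antisymm inf_le_left
    intro s hs
    refine ⟨hs, ?_⟩
    show s ∈ Subgroup.normalizer (T : Set Ω)
    rw [Subgroup.mem_normalizer_iff]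
    intro t
    constructor
    · intro ht
      exact hTn ⟨s, hs⟩ t ht
    · intro ht
      have := hTn ⟨s, hs⟩⁻¹ _ ht
      simpa [mul_assoc] using this
  have hFN : F.IsFullyNormalized T := by
    refine ⟨hDD.le, ?_⟩
    intro Q _
    rw [hNT]
    exact Nat.card_le_card_of_injective (Subgroup.inclusion (inf_le_left : normalizerIn S Q ≤ S))
      (Subgroup.inclusion_injective _)
  refine hLK Ω S p hS F hsat A δ T hDD T hFN hC u n hn ?_
  intro x
  rw [← hnx x x.2]
  rfl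

end Cfsg.Agent.Lib.Helper11.PPRT
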