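import Cfsg.Agent.Lib.Helper11.QdDatum
import Mathlib

set_option autoImplicit false
set_option linter.unusedSectionVars false
set_option linter.unusedVariables false

namespace Cfsg.Agent.Lib.Helper11.QdCentric

open Cfsg.Agent.Lib.Helper11.QdDatum

universe u

variable {p : ℕ} [Fact p.Prime]

/-- A datum together with a `p`-centric subgroup `T ⊇ V₀` normalized by the acting group. -/
structure CDatum {X : Type*} [Group X] (V₀ V₁ T : Subgroup X) {A : Type*} [Group A]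
    (f : A →* X) (π : A →* Matrix.SpecialLinearGroup (Fin 2) (ZMod p))
    (j : (Fin 2 → ZMod p) → X) : Prop where
  d : Datum V₀ V₁ f π j
  hT : IsPGroup p T
  hVT : V₀ ≤ T
  nfT : ∀ a, f a ∈ Subgroup.normalizer (T : Set X)
  cen : ∀ x ∈ Subgroup.centralizer (T : Set X), (∃ k : ℕ, x ^ p ^ k = 1) → x ∈ T

/-- The kernel of the action of `N(V₀) ∩ N(V₁)` on `V₀/V₁`. -/
def ckernel {X : Type*} [Group X] (V₀ V₁ : Subgroup X) :
    Subgroup ↥(Subgroup.normalizer (V₀ : Set X) ⊓ Subgroup.normalizer (V₁ : Set X)) where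
  carrier := {h | ∀ w ∈ V₀, (h : X) * w * (h : X)⁻¹ * w⁻¹ ∈ V₁}
  one_mem' := by
    intro w hw
    simp [V₁.one_mem]
  mul_mem' := by
    intro a b ha hb w hw
    have h1 := hb w hw
    have h2 := ha w hw
    have h3 : (a : X) * ((b : X) * w * (b : X)⁻¹ * w⁻¹) * (a : X)⁻¹ ∈ V₁ :=
      (Subgroup.mem_normalizer_iff.1 a.2.2 _).1 h1
    have h4 := V₁.mul_mem h3 h2
    have e : ((a * b : ↥(Subgroup.normalizer (V₀ : Set X) ⊓ Subgroup.normalizer (V₁ : Set X))) : X)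
        * w * ((a * b : ↥(Subgroup.normalizer (V₀ : Set X) ⊓
          Subgroup.normalizer (V₁ : Set X))) : X)⁻¹ * w⁻¹ =
        (a : X) * ((b : X) * w * (b : X)⁻¹ * w⁻¹) * (a : X)⁻¹ * ((a : X) * w * (a : X)⁻¹ * w⁻¹) := by
      rw [Subgroup.coe_mul]
      group
    rw [e]
    exact h4
  inv_mem' := by
    intro a ha w hw
    have h1 := V₁.inv_mem (ha w hw)
    have h2 : (a : X)⁻¹ * ((a : X) * w * (a : X)⁻¹ * w⁻¹)⁻¹ * ((a : X)⁻¹)⁻¹ ∈ V₁ :=
      (Subgroup.mem_normalizer_iff.1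
        ((Subgroup.normalizer (V₁ : Set X)).inv_mem a.2.2) _).1 h1
    have e : ((a⁻¹ : ↥(Subgroup.normalizer (V₀ : Set X) ⊓ Subgroup.normalizer (V₁ : Set X))) : X)
        * w * ((a⁻¹ : ↥(Subgroup.normalizer (V₀ : Set X) ⊓
          Subgroup.normalizer (V₁ : Set X))) : X)⁻¹ * w⁻¹ =
        (a : X)⁻¹ * ((a : X) * w * (a : X)⁻¹ * w⁻¹)⁻¹ * ((a : X)⁻¹)⁻¹ := by
      rw [Subgroup.coe_inv]
      group
    rw [e]
    exact h2

instance ckernel_normal {X : Type*} [Group X] (V₀ V₁ : Subgroup X) : (ckernel V₀ V₁).Normal := ⟨by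
  intro c hc g w hw
  have hw' : (g : X)⁻¹ * w * ((g : X)⁻¹)⁻¹ ∈ V₀ :=
    (Subgroup.mem_normalizer_iff.1 ((Subgroup.normalizer (V₀ : Set X)).inv_mem g.2.1) _).1 hw
  have h1 := hc _ hw'
  have h2 := (Subgroup.mem_normalizer_iff.1 g.2.2 _).1 h1
  have e : ((g * c * g⁻¹ : ↥(Subgroup.normalizer (V₀ : Set X) ⊓
        Subgroup.normalizer (V₁ : Set X))) : X) * w *
      ((g * c * g⁻¹ : ↥(Subgroup.normalizer (V₀ : Set X) ⊓
        Subgroup.normalizer (V₁ : Set X))) : X)⁻¹ * w⁻¹ =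
      (g : X) * ((c : X) * ((g : X)⁻¹ * w * ((g : X)⁻¹)⁻¹) * (c : X)⁻¹ *
        ((g : X)⁻¹ * w * ((g : X)⁻¹)⁻¹)⁻¹) * (g : X)⁻¹ := by
    rw [Subgroup.coe_mul, Subgroup.coe_mul, Subgroup.coe_inv]
    group
  rw [e]
  exact h2⟩

theorem isPGroup_zpowers {Y : Type*} [Group Y] (x : Y) (k : ℕ) (hx : x ^ p ^ k = 1) :
    IsPGroup p ↥(Subgroup.zpowers x) := by
  rintro ⟨y, hy⟩
  obtain ⟨n, rfl⟩ := Subgroup.mem_zpowers_iff.1 hy
  refine ⟨k, Subtype.ext ?_⟩
  show (x ^ n) ^ p ^ k = 1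
  rw [← zpow_natCast, ← zpow_mul, mul_comm, zpow_mul, zpow_natCast, hx, one_zpow]

/-- Passing to a `p`-centric subgroup by a Frattini argument. -/
theorem exists_centric {X : Type u} [Group X] [Finite X] {V₀ V₁ : Subgroup X} {A : Type u}
    [Group A] [Finite A] {f : A →* X} {π : A →* Matrix.SpecialLinearGroup (Fin 2) (ZMod p)}
    {j : (Fin 2 → ZMod p) → X} (hV₀ : IsPGroup p V₀) (h : Datum V₀ V₁ f π j) :
    ∃ (T : Subgroup X) (A' : Type u) (_ : Group A') (_ : Finite A') (f' : A' →* X)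
      (π' : A' →* Matrix.SpecialLinearGroup (Fin 2) (ZMod p)), CDatum V₀ V₁ T f' π' j := by
  let H : Subgroup X := Subgroup.normalizer (V₀ : Set X) ⊓ Subgroup.normalizer (V₁ : Set X)
  let Cs : Subgroup ↥H := ckernel V₀ V₁
  have hV₀H : V₀ ≤ H := le_inf Subgroup.le_normalizer h.le_normalizer
  let V₀c : Subgroup ↥Cs := (V₀.subgroupOf H).subgroupOf Cs
  have hV₀c : IsPGroup p V₀c := (hV₀.comap_subtype).comap_subtype
  obtain ⟨P₀, hP₀⟩ := hV₀c.exists_le_sylow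
  let TH : Subgroup ↥H := (P₀ : Subgroup ↥Cs).map Cs.subtype
  let T : Subgroup X := TH.map H.subtype
  have hfr : Subgroup.normalizer (TH : Set ↥H) ⊔ Cs = ⊤ := Sylow.normalizer_sup_eq_top P₀
  let NT : Subgroup ↥H := Subgroup.normalizer (TH : Set ↥H)
  let fH : A →* ↥H := f.codRestrict H (fun a => ⟨h.nf₀ a, h.nf₁ a⟩)
  let φ₁ : A × ↥NT →* ↥H ⧸ Cs := (QuotientGroup.mk' Cs).comp (fH.comp (MonoidHom.fst A ↥NT))
  let φ₂ : A × ↥NT →* ↥H ⧸ Cs :=
    (QuotientGroup.mk' Cs).comp (NT.subtype.comp (MonoidHom.snd A ↥NT))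
  let A' : Subgroup (A × ↥NT) := MonoidHom.eqLocus φ₁ φ₂
  let f' : ↥A' →* X := H.subtype.comp (NT.subtype.comp ((MonoidHom.snd A ↥NT).comp A'.subtype))
  let π' : ↥A' →* Matrix.SpecialLinearGroup (Fin 2) (ZMod p) :=
    π.comp ((MonoidHom.fst A ↥NT).comp A'.subtype)
  refine ⟨T, ↥A', inferInstance, inferInstance, f', π', ?_⟩
  have hkey : ∀ x : ↥A', ∃ c : ↥H, c ∈ Cs ∧
      ((x : A × ↥NT).2 : ↥H) = fH (x : A × ↥NT).1 * c := by
    intro x
    have hx : φ₁ x.1 = φ₂ x.1 := x.2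
    refine ⟨(fH x.1.1)⁻¹ * (x.1.2 : ↥H), ?_, by group⟩
    exact QuotientGroup.eq.1 hx
  have hVT : V₀ ≤ T := by
    intro x hx
    have hxCs : (⟨x, hV₀H hx⟩ : ↥H) ∈ Cs := fun w hw => h.comm x hx w hw
    have hmem : (⟨⟨x, hV₀H hx⟩, hxCs⟩ : ↥Cs) ∈ V₀c := hx
    exact ⟨⟨x, hV₀H hx⟩, ⟨⟨⟨x, hV₀H hx⟩, hxCs⟩, hP₀ hmem, rfl⟩, rfl⟩
  refine ⟨?_, (P₀.2.map _).map _, hVT, ?_, ?_⟩
  · exact
    { le := h.le
      comm := h.comm
      nf₀ := fun x => (x.1.2 : ↥H).2.1
      nf₁ := fun x => (x.1.2 : ↥H).2.2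
      jmem := h.jmem
      jadd := h.jadd
      jinj := h.jinj
      jact := by
        intro x u
        obtain ⟨c, hc, hn⟩ := hkey x
        have e1 : f' x = f x.1.1 * (c : X) := congrArg Subtype.val hn
        have h1 : (c : X) * j u * (c : X)⁻¹ * (j u)⁻¹ ∈ V₁ := hc (j u) (h.jmem u)
        have h2 : f x.1.1 * ((c : X) * j u * (c : X)⁻¹ * (j u)⁻¹) * (f x.1.1)⁻¹ ∈ V₁ :=
          (Subgroup.mem_normalizer_iff.1 (h.nf₁ x.1.1) _).1 h1
        have h3 := h.jact x.1.1 u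
        have h4 := V₁.mul_mem h2 h3
        have e2 : f' x * j u * (f' x)⁻¹ * (j (Matrix.mulVec (π' x).1 u))⁻¹ =
            f x.1.1 * ((c : X) * j u * (c : X)⁻¹ * (j u)⁻¹) * (f x.1.1)⁻¹ *
              (f x.1.1 * j u * (f x.1.1)⁻¹ * (j (Matrix.mulVec (π x.1.1).1 u))⁻¹) := by
          rw [e1]
          show _ * (j (Matrix.mulVec (π x.1.1).1 u))⁻¹ = _
          group
        rw [e2]
        exact h4
      surj := by
        intro B
        obtain ⟨a, rfl⟩ := h.surj B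
        have hmem : fH a ∈ Subgroup.normalizer (TH : Set ↥H) ⊔ Cs := by
          rw [hfr]
          exact Subgroup.mem_top _
        obtain ⟨n, hn, c, hc, hnc⟩ := Subgroup.mem_sup_of_normal_right.1 hmem
        have hA' : ((a, ⟨n, hn⟩) : A × ↥NT) ∈ A' := by
          show (QuotientGroup.mk (fH a) : ↥H ⧸ Cs) = QuotientGroup.mk n
          rw [← hnc]
          exact QuotientGroup.mk_mul_of_mem n hc
        exact ⟨⟨(a, ⟨n, hn⟩), hA'⟩, rfl⟩ }
  · intro x
    exact Subgroup.le_normalizer_map H.subtype (Subgroup.mem_map_of_mem _ x.1.2.2)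
  · rintro x hx ⟨k, hk⟩
    have hxV₀ : x ∈ Subgroup.centralizer (V₀ : Set X) := Subgroup.centralizer_le hVT hx
    have hxV₁ : x ∈ Subgroup.centralizer (V₁ : Set X) :=
      Subgroup.centralizer_le (fun y hy => h.le hy) hxV₀
    have hxH : x ∈ H :=
      ⟨Subgroup.centralizer_le_normalizer _ hxV₀, Subgroup.centralizer_le_normalizer _ hxV₁⟩
    have hxCs : (⟨x, hxH⟩ : ↥H) ∈ Cs := by
      intro w hw
      have hc := Subgroup.mem_centralizer_iff.1 hxV₀ w hw
      have : x * w * x⁻¹ * w⁻¹ = 1 := by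
        rw [← hc]
        group
      show x * w * x⁻¹ * w⁻¹ ∈ V₁
      rw [this]
      exact V₁.one_mem
    let xc : ↥Cs := ⟨⟨x, hxH⟩, hxCs⟩
    have hxc : xc ^ p ^ k = 1 := by
      apply Subtype.ext
      apply Subtype.ext
      exact hk
    have hZ : IsPGroup p ↥(Subgroup.zpowers xc) := isPGroup_zpowers xc k hxc
    have hcen : xc ∈ Subgroup.centralizer ((P₀ : Subgroup ↥Cs) : Set ↥Cs) := by
      rw [Subgroup.mem_centralizer_iff]
      intro m hm
      have hmT : ((m : ↥H) : X) ∈ T := ⟨(m : ↥H), ⟨m, hm, rfl⟩, rfl⟩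
      have hc := Subgroup.mem_centralizer_iff.1 hx _ hmT
      apply Subtype.ext
      apply Subtype.ext
      exact hc
    have hZN : Subgroup.zpowers xc ≤ Subgroup.normalizer ((P₀ : Subgroup ↥Cs) : Set ↥Cs) :=
      (Subgroup.zpowers_le.2 hcen).trans (Subgroup.centralizer_le_normalizer _)
    have hZP : Subgroup.zpowers xc ≤ (P₀ : Subgroup ↥Cs) := by
      have h1 := hZ.inf_normalizer_sylow P₀
      rw [show Subgroup.zpowers xc ⊓ Subgroup.normalizer (P₀ : Set ↥Cs) = Subgroup.zpowers xc from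
        inf_eq_left.2 hZN] at h1
      exact inf_eq_left.1 h1.symm
    have hxP : xc ∈ (P₀ : Subgroup ↥Cs) := hZP (Subgroup.mem_zpowers xc)
    exact ⟨⟨x, hxH⟩, ⟨xc, hxP, rfl⟩, rfl⟩

/-- Transport of a centric datum along an isomorphism. -/
theorem CDatum.map_equiv {X Y : Type*} [Group X] [Group Y] {V₀ V₁ T : Subgroup X} {A : Type*}
    [Group A] {f : A →* X} {π : A →* Matrix.SpecialLinearGroup (Fin 2) (ZMod p)}
    {j : (Fin 2 → ZMod p) → X} (h : CDatum V₀ V₁ T f π j) (e : X ≃* Y) :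
    CDatum (V₀.map e.toMonoidHom) (V₁.map e.toMonoidHom) (T.map e.toMonoidHom)
      (e.toMonoidHom.comp f) π (fun u => e.toMonoidHom (j u)) where
  d := h.d.map e.toMonoidHom (fun v _ hv => (MulEquiv.map_eq_one_iff e).1 hv)
  hT := h.hT.map _
  hVT := Subgroup.map_mono h.hVT
  nfT a := Subgroup.le_normalizer_map _ (Subgroup.mem_map_of_mem _ (h.nfT a))
  cen := by
    rintro x hx ⟨k, hk⟩
    have h1 : e.symm x ∈ Subgroup.centralizer (T : Set X) := by
      rw [Subgroup.mem_centralizer_iff]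
      intro t ht
      have h2 := Subgroup.mem_centralizer_iff.1 hx (e t) (Subgroup.mem_map_of_mem _ ht)
      apply e.injective
      simpa using h2
    have h2 : (e.symm x) ^ p ^ k = 1 := by
      rw [← map_pow, hk, map_one]
    exact ⟨e.symm x, h.cen _ h1 ⟨k, h2⟩, by simp⟩

/-- Conjugating a `p`-subgroup into a Sylow subgroup `P` so that `N_P` is Sylow in the
normalizer. -/
theorem exists_conj {G : Type u} [Group G] [Finite G] (P : Sylow p G) (T : Subgroup G)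
    (hT : IsPGroup p T) :
    ∃ g : G, T.map (MulAut.conj g).toMonoidHom ≤ P ∧
      ∃ R : Sylow p ↥(Subgroup.normalizer ((T.map (MulAut.conj g).toMonoidHom : Subgroup G) : Set G)),
        (R : Subgroup ↥(Subgroup.normalizer
            ((T.map (MulAut.conj g).toMonoidHom : Subgroup G) : Set G))) =
          ((P : Subgroup G) ⊓ Subgroup.normalizer
            ((T.map (MulAut.conj g).toMonoidHom : Subgroup G) : Set G)).subgroupOf _ := by
  let N : Subgroup G := Subgroup.normalizer (T : Set G)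
  have hTN : T ≤ N := Subgroup.le_normalizer
  obtain ⟨R₁, hR₁⟩ := (hT.comap_subtype : IsPGroup p (T.subgroupOf N)).exists_le_sylow
  let R₁' : Subgroup G := (R₁ : Subgroup ↥N).map N.subtype
  obtain ⟨Q, hQ⟩ := (R₁.2.map N.subtype).exists_le_sylow
  obtain ⟨g, hg⟩ := MulAction.exists_smul_eq G Q P
  let c : G →* G := (MulAut.conj g).toMonoidHom
  have hc : Function.Injective c := (MulAut.conj g).injective
  have hcQ : ∀ x ∈ (Q : Subgroup G), c x ∈ (P : Subgroup G) := by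
    intro x hx
    rw [← hg, Sylow.coe_subgroup_smul]
    exact Subgroup.smul_mem_pointwise_smul x (MulAut.conj g) _ hx
  have hTR : T ≤ R₁' := by
    intro x hx
    exact ⟨⟨x, hTN hx⟩, hR₁ (show (⟨x, hTN hx⟩ : ↥N) ∈ T.subgroupOf N from hx), rfl⟩
  have hT'P : T.map c ≤ P := by
    rintro _ ⟨x, hx, rfl⟩
    exact hcQ x (hQ (hTR hx))
  let N' : Subgroup G := Subgroup.normalizer ((T.map c : Subgroup G) : Set G)
  have hNN' : N.map c = N' :=
    Subgroup.map_normalizer_eq_of_bijective T (MulAut.conj g).bijective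
  let pN : Subgroup ↥N' := ((P : Subgroup G) ⊓ N').subgroupOf N'
  have hpN : IsPGroup p pN := (P.2.to_le inf_le_left).comap_subtype
  obtain ⟨R, hR⟩ := hpN.exists_le_sylow
  refine ⟨g, hT'P, R, ?_⟩
  symm
  apply Subgroup.eq_of_le_of_card_ge hR
  have h1 : Nat.card (R : Subgroup ↥N') = p ^ (Nat.card ↥N').factorization p :=
    Sylow.card_eq_multiplicity R
  have h2 : Nat.card (R₁ : Subgroup ↥N) = p ^ (Nat.card ↥N).factorization p :=
    Sylow.card_eq_multiplicity R₁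
  have h3 : Nat.card ↥N' = Nat.card ↥N := by
    rw [← hNN']
    exact Subgroup.card_map_of_injective hc
  have h4 : Nat.card ↥(R₁'.map c) = Nat.card (R₁ : Subgroup ↥N) := by
    rw [Subgroup.card_map_of_injective hc]
    exact Subgroup.card_map_of_injective N.subtype_injective
  have h5 : R₁'.map c ≤ (P : Subgroup G) ⊓ N' := by
    rintro _ ⟨x, hx, rfl⟩
    refine ⟨hcQ x (hQ hx), ?_⟩
    rw [← hNN']
    obtain ⟨y, hy, rfl⟩ := hx
    exact Subgroup.mem_map_of_mem c y.2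
  have h6 : Nat.card pN = Nat.card ↥((P : Subgroup G) ⊓ N') :=
    Nat.card_congr (Subgroup.subgroupOfEquivOfLe inf_le_right).toEquiv
  rw [h1, h3, ← h2, ← h4, h6]
  exact Subgroup.card_le_of_le h5

end Cfsg.Agent.Lib.Helper11.QdCentric
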