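import Cfsg.Agent.Lib.Helper11.QdCentric
import Cfsg.Prelude.Def_FusionReduction
import Mathlib

set_option autoImplicit false
set_option linter.unusedSectionVars false
set_option linter.unusedVariables false

namespace Cfsg.Agent.Lib.Helper11.QdModel

open Cfsg.Agent.Lib.Helper11.QdDatum Cfsg.Agent.Lib.Helper11.QdCentric

universe u

variable {p : ℕ} [Fact p.Prime]

/-- Burnside: for a `p`-centric `T`, the `p'`-elements of `C_G(T)` form a complement to `Z(T)`. -/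
theorem exists_complement {G : Type*} [Group G] [Finite G] (T : Subgroup G) (hT : IsPGroup p T)
    (cen : ∀ x ∈ Subgroup.centralizer (T : Set G), (∃ k : ℕ, x ^ p ^ k = 1) → x ∈ T) :
    ∃ K : Subgroup G, (∀ x, x ∈ K ↔ x ∈ Subgroup.centralizer (T : Set G) ∧ ¬ p ∣ orderOf x) ∧
      (∀ c ∈ Subgroup.centralizer (T : Set G), ∃ z ∈ T, ∃ k ∈ K, c = z * k) := by
  let Cz : Subgroup G := Subgroup.centralizer (T : Set G)
  let Zs : Sylow p ↥Cz :=
    { toSubgroup := T.subgroupOf Cz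
      isPGroup' := hT.comap_subtype
      is_maximal' := by
        intro Q hQ hle
        refine le_antisymm ?_ hle
        intro q hq
        obtain ⟨k, hk⟩ := hQ ⟨q, hq⟩
        have hk' : (q : G) ^ p ^ k = 1 := by
          have := congrArg (fun x : ↥Q => ((x : ↥Cz) : G)) hk
          simpa using this
        exact cen q q.2 ⟨k, hk'⟩ }
  have hP : Subgroup.normalizer ((Zs : Subgroup ↥Cz) : Set ↥Cz) ≤
      Subgroup.centralizer ((Zs : Subgroup ↥Cz) : Set ↥Cz) := by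
    intro c _
    rw [Subgroup.mem_centralizer_iff]
    intro z hz
    apply Subtype.ext
    exact Subgroup.mem_centralizer_iff.1 c.2 (z : G) hz
  let τ : ↥Cz →* ↥(Zs : Subgroup ↥Cz) := MonoidHom.transferSylow Zs hP
  let KC : Subgroup ↥Cz := τ.ker
  have hcompl : Subgroup.IsComplement' KC (Zs : Subgroup ↥Cz) :=
    MonoidHom.ker_transferSylow_isComplement' Zs hP
  have hnd : ¬ p ∣ Nat.card ↥KC := MonoidHom.not_dvd_card_ker_transferSylow Zs hP
  refine ⟨KC.map Cz.subtype, ?_, ?_⟩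
  · intro x
    constructor
    · rintro ⟨c, hc, rfl⟩
      refine ⟨c.2, fun hdvd => hnd ?_⟩
      have h1 : orderOf (⟨c, hc⟩ : ↥KC) ∣ Nat.card ↥KC := orderOf_dvd_natCard _
      have h2 : orderOf (⟨c, hc⟩ : ↥KC) = orderOf (c : G) :=
        (orderOf_injective KC.subtype KC.subtype_injective ⟨c, hc⟩).symm.trans
          (orderOf_injective Cz.subtype Cz.subtype_injective c).symm
      rw [h2] at h1
      exact hdvd.trans h1
    · rintro ⟨hx, hnd'⟩
      refine ⟨⟨x, hx⟩, ?_, rfl⟩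
      show (⟨x, hx⟩ : ↥Cz) ∈ τ.ker
      rw [MonoidHom.mem_ker]
      obtain ⟨n, hn⟩ := (IsPGroup.iff_orderOf.1 Zs.2) (τ ⟨x, hx⟩)
      have h1 : orderOf (τ ⟨x, hx⟩) ∣ orderOf (⟨x, hx⟩ : ↥Cz) := orderOf_map_dvd τ _
      have h2 : orderOf (⟨x, hx⟩ : ↥Cz) = orderOf x :=
        (orderOf_injective Cz.subtype Cz.subtype_injective ⟨x, hx⟩).symm
      rw [hn, h2] at h1
      cases n with
      | zero =>
        rw [pow_zero] at hn
        exact orderOf_eq_one_iff.1 hn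
      | succ n => exact absurd ((dvd_pow_self p (Nat.succ_ne_zero n)).trans h1) hnd'
  · intro c hc
    have htop : (Zs : Subgroup ↥Cz) ⊔ KC = ⊤ := by
      rw [sup_comm]
      exact hcompl.sup_eq_top
    have hmem : (⟨c, hc⟩ : ↥Cz) ∈ (Zs : Subgroup ↥Cz) ⊔ KC := by
      rw [htop]
      exact Subgroup.mem_top _
    obtain ⟨z, hz, k, hk, hzk⟩ := Subgroup.mem_sup_of_normal_right.1 hmem
    exact ⟨z, hz, k, ⟨k, hk, rfl⟩, (congrArg Subtype.val hzk).symm⟩

/-- Sylow conjugacy modulo a normal `p'`-subgroup. -/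
theorem conj_into {Y : Type*} [Group Y] [Finite Y] (K : Subgroup Y) [K.Normal]
    (hK : ∀ k ∈ K, (∃ n : ℕ, k ^ p ^ n = 1) → k = 1) (B₁ B₂ : Subgroup Y)
    (h₁ : IsPGroup p B₁) (h₂ : IsPGroup p B₂) (h : B₁ ≤ B₂ ⊔ K) :
    ∃ k ∈ K, ∀ y ∈ B₁, k * y * k⁻¹ ∈ B₂ := by
  let E : Subgroup Y := B₂ ⊔ K
  have hB₂E : B₂ ≤ E := le_sup_left
  obtain ⟨RE, hRE⟩ := (h₂.comap_subtype : IsPGroup p (B₂.subgroupOf E)).exists_le_sylow
  have hRE' : ∀ r : ↥E, r ∈ RE → (r : Y) ∈ B₂ := by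
    intro r hr
    obtain ⟨b, hb, k, hk, hbk⟩ := Subgroup.mem_sup_of_normal_right.1 r.2
    have hbE : (⟨b, hB₂E hb⟩ : ↥E) ∈ RE := hRE hb
    have hkE : k ∈ E := (le_sup_right : K ≤ E) hk
    have hkR : (⟨k, hkE⟩ : ↥E) ∈ RE := by
      have : (⟨k, hkE⟩ : ↥E) = (⟨b, hB₂E hb⟩ : ↥E)⁻¹ * r := by
        apply Subtype.ext
        show k = b⁻¹ * (r : Y)
        rw [← hbk]
        group
      rw [this]
      exact (RE : Subgroup ↥E).mul_mem ((RE : Subgroup ↥E).inv_mem hbE) hr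
    obtain ⟨n, hn⟩ := RE.2 ⟨⟨k, hkE⟩, hkR⟩
    have hk1 : k = 1 := by
      apply hK k hk ⟨n, ?_⟩
      have := congrArg (fun x : ↥(RE : Subgroup ↥E) => ((x : ↥E) : Y)) hn
      simpa using this
    rw [← hbk, hk1, mul_one]
    exact hb
  obtain ⟨R₁, hR₁⟩ := (h₁.comap_subtype : IsPGroup p (B₁.subgroupOf E)).exists_le_sylow
  obtain ⟨e, he⟩ := MulAction.exists_smul_eq ↥E R₁ RE
  obtain ⟨b, hb, k, hk, hbk⟩ := Subgroup.mem_sup_of_normal_right.1 e.2
  refine ⟨k, hk, ?_⟩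
  intro y hy
  have hyE : y ∈ E := h hy
  have hyR : (⟨y, hyE⟩ : ↥E) ∈ R₁ := hR₁ hy
  have h3 : e * ⟨y, hyE⟩ * e⁻¹ ∈ (RE : Subgroup ↥E) := by
    rw [← he, Sylow.coe_subgroup_smul]
    exact Subgroup.smul_mem_pointwise_smul _ (MulAut.conj e) _ hyR
  have h4 := hRE' _ h3
  have h5 : k * y * k⁻¹ = b⁻¹ * ((e : Y) * y * (e : Y)⁻¹) * b := by
    rw [← hbk]
    group
  rw [h5]
  exact B₂.mul_mem (B₂.mul_mem (B₂.inv_mem hb) h4) hb

theorem card_le_of_sylow {G : Type*} [Group G] [Finite G] {H : Subgroup G} (R : Sylow p ↥H)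
    (B : Subgroup G) (hB : IsPGroup p B) (hBH : B ≤ H) :
    Nat.card B ≤ Nat.card (R : Subgroup ↥H) := by
  obtain ⟨R', hR'⟩ := (hB.comap_subtype : IsPGroup p (B.subgroupOf H)).exists_le_sylow
  have h1 : Nat.card (B.subgroupOf H) = Nat.card B :=
    Nat.card_congr (Subgroup.subgroupOfEquivOfLe hBH).toEquiv
  have h2 : Nat.card (R' : Subgroup ↥H) = Nat.card (R : Subgroup ↥H) := by
    rw [Sylow.card_eq_multiplicity, Sylow.card_eq_multiplicity]
  rw [← h1, ← h2]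
  exact Subgroup.card_le_of_le hR'

/-- Restriction of a datum to a subgroup containing everything. -/
theorem restrict {X : Type*} [Group X] {V₀ V₁ : Subgroup X} {A : Type*} [Group A]
    {f : A →* X} {π : A →* Matrix.SpecialLinearGroup (Fin 2) (ZMod p)}
    {j : (Fin 2 → ZMod p) → X} (h : Datum V₀ V₁ f π j) (H : Subgroup X) (hV : V₀ ≤ H)
    (hf : ∀ a, f a ∈ H) :
    Datum (V₀.subgroupOf H) (V₁.subgroupOf H) (f.codRestrict H hf) π
      (fun u => (⟨j u, hV (h.jmem u)⟩ : ↥H)) where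
  le := fun x hx => h.le hx
  comm := fun x hx y hy => h.comm x hx y hy
  nf₀ a := Subgroup.mem_normalizer_iff.2 (fun y => Subgroup.mem_normalizer_iff.1 (h.nf₀ a) (y : X))
  nf₁ a := Subgroup.mem_normalizer_iff.2 (fun y => Subgroup.mem_normalizer_iff.1 (h.nf₁ a) (y : X))
  jmem u := h.jmem u
  jadd u v := h.jadd u v
  jinj u hu := h.jinj u hu
  jact a u := h.jact a u
  surj := h.surj

/-- The normalizer system of `T` in the fusion system of `G` is the fusion system of `N_G(T)`. -/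
theorem isNormalizerSystem {G : Type u} [Group G] (P T : Subgroup G) (hTP : T ≤ P) :
    (Cfsg.groupFusionSystem P).IsNormalizerSystem T
      (Cfsg.fusionSystemOfSubgroup (Subgroup.normalizer (T : Set G))
        (Cfsg.FusionSystem.normalizerIn P T) inf_le_right) := by
  intro P'
  ext φ
  constructor
  · rintro ⟨hP', hφ, g, hg, hφg⟩
    have hsup : P' ⊔ T ≤ P := sup_le (hP'.trans inf_le_left) hTP
    have hcomap : P' ⊔ T ≤ P.comap (MulAut.conj g).toMonoidHom := by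
      refine sup_le (fun x hx => ?_) (fun t ht => ?_)
      · have h1 := hφg ⟨x, hx⟩
        have h2 := (hφ ⟨x, hx⟩).1
        rw [h1] at h2
        exact h2
      · exact hTP ((Subgroup.mem_normalizer_iff.1 hg t).1 ht)
    refine ⟨⟨hP'.trans inf_le_left, fun x => (hφ x).1, g, hφg⟩, hP', hφ,
      Cfsg.conjHom (P' ⊔ T) g, ⟨hsup, fun x => hcomap x.2, g, fun x => rfl⟩, ?_, ?_⟩
    · intro x
      exact (hφg x).symm
    · ext y
      constructor
      · rintro ⟨t, ht, rfl⟩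
        exact (Subgroup.mem_normalizer_iff.1 hg t).1 ht
      · intro hy
        have h1 : g⁻¹ * y * g ∈ T := by
          apply (Subgroup.mem_normalizer_iff.1 hg _).2
          have : g * (g⁻¹ * y * g) * g⁻¹ = y := by group
          rw [this]
          exact hy
        refine ⟨⟨g⁻¹ * y * g, Subgroup.mem_sup_right h1⟩, h1, ?_⟩
        show g * (g⁻¹ * y * g) * g⁻¹ = y
        group
  · rintro ⟨hF, hP', hφ, ψ, ⟨hψle, hψP, g, hψg⟩, hext, hmap⟩
    have hgN : g ∈ Subgroup.normalizer (T : Set G) := by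
      rw [Subgroup.mem_normalizer_iff]
      intro t
      constructor
      · intro ht
        have h1 : ψ ⟨t, Subgroup.mem_sup_right ht⟩ ∈ (T.subgroupOf (P' ⊔ T)).map ψ :=
          Subgroup.mem_map_of_mem ψ (show (⟨t, Subgroup.mem_sup_right ht⟩ : ↥(P' ⊔ T)) ∈
            T.subgroupOf (P' ⊔ T) from ht)
        rw [hmap, hψg] at h1
        exact h1
      · intro ht
        rw [← hmap] at ht
        obtain ⟨t', ht', hteq⟩ := ht
        rw [hψg] at hteq
        have : (t' : G) = t := by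
          have h2 := mul_left_cancel (mul_right_cancel hteq)
          exact h2
        rw [← this]
        exact ht'
    refine ⟨hP', hφ, g, hgN, fun x => ?_⟩
    rw [← hext x, hψg]
    rfl

/-- A subgroup whose `N_P` is Sylow in its normalizer is fully normalized. -/
theorem isFullyNormalized {G : Type u} [Group G] [Finite G] (P : Sylow p G) (T : Subgroup G)
    (hTP : T ≤ P) (R : Sylow p ↥(Subgroup.normalizer (T : Set G)))
    (hR : (R : Subgroup ↥(Subgroup.normalizer (T : Set G))) =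
      ((P : Subgroup G) ⊓ Subgroup.normalizer (T : Set G)).subgroupOf
        (Subgroup.normalizer (T : Set G))) :
    (Cfsg.groupFusionSystem (P : Subgroup G)).IsFullyNormalized T := by
  refine ⟨hTP, ?_⟩
  rintro Q' ⟨φ, ⟨_, hφP, g, hφg⟩, rfl⟩
  let c : G →* G := (MulAut.conj g).toMonoidHom
  let c' : G →* G := (MulAut.conj g⁻¹).toMonoidHom
  have hc' : Function.Injective c' := (MulAut.conj g⁻¹).injective
  have hrange : φ.range = T.map c := by
    ext y
    constructor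
    · rintro ⟨t, rfl⟩
      exact ⟨t, t.2, (hφg t).symm⟩
    · rintro ⟨t, ht, rfl⟩
      exact ⟨⟨t, ht⟩, hφg ⟨t, ht⟩⟩
  let B : Subgroup G := Cfsg.FusionSystem.normalizerIn (P : Subgroup G) φ.range
  let B₁ : Subgroup G := B.map c'
  have hB₁N : B₁ ≤ Subgroup.normalizer (T : Set G) := by
    rintro _ ⟨b, hb, rfl⟩
    have h1 : b ∈ Subgroup.normalizer ((T.map c : Subgroup G) : Set G) := by
      rw [← hrange]
      exact hb.2
    have h2 := Subgroup.le_normalizer_map c' (Subgroup.mem_map_of_mem c' h1)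
    have h3 : (T.map c).map c' = T := by
      rw [Subgroup.map_map]
      have : c'.comp c = MonoidHom.id G := by
        ext x
        show g⁻¹ * (g * x * g⁻¹) * g⁻¹⁻¹ = x
        group
      rw [this, Subgroup.map_id]
    rw [h3] at h2
    exact h2
  have hpB : IsPGroup p B := P.2.to_le inf_le_left
  have hpB₁ : IsPGroup p B₁ := hpB.map c'
  have h1 : Nat.card B₁ = Nat.card B := Subgroup.card_map_of_injective hc'
  have h2 := card_le_of_sylow R B₁ hpB₁ hB₁N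
  have h3 : Nat.card (R : Subgroup ↥(Subgroup.normalizer (T : Set G))) =
      Nat.card ↥(Cfsg.FusionSystem.normalizerIn (P : Subgroup G) T) := by
    rw [hR]
    exact Nat.card_congr (Subgroup.subgroupOfEquivOfLe inf_le_right).toEquiv
  rw [← h3, ← h1]
  exact h2

/-- A `p`-centric subgroup is centric in the fusion system. -/
theorem isCentric {G : Type u} [Group G] (P : Sylow p G) (T : Subgroup G) (hTP : T ≤ P)
    (cen : ∀ x ∈ Subgroup.centralizer (T : Set G), (∃ k : ℕ, x ^ p ^ k = 1) → x ∈ T) :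
    (Cfsg.groupFusionSystem (P : Subgroup G)).IsCentric T := by
  refine ⟨hTP, ?_⟩
  rintro Q' ⟨φ, ⟨_, hφP, g, hφg⟩, rfl⟩ x ⟨hxP, hxC⟩
  obtain ⟨k, hk⟩ := P.2 ⟨x, hxP⟩
  have hk' : x ^ p ^ k = 1 := by simpa using congrArg Subtype.val hk
  have hyC : g⁻¹ * x * g⁻¹⁻¹ ∈ Subgroup.centralizer (T : Set G) := by
    rw [Subgroup.mem_centralizer_iff]
    intro t ht
    have h1 := Subgroup.mem_centralizer_iff.1 hxC (φ ⟨t, ht⟩) ⟨⟨t, ht⟩, rfl⟩
    rw [hφg] at h1
    have h2 : t * (g⁻¹ * x * g⁻¹⁻¹) = g⁻¹ * (g * t * g⁻¹ * x) * g := by group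
    have h3 : g⁻¹ * x * g⁻¹⁻¹ * t = g⁻¹ * (x * (g * t * g⁻¹)) * g := by group
    rw [h2, h3]
    exact congrArg (fun z => g⁻¹ * z * g) h1
  have hyp : (g⁻¹ * x * g⁻¹⁻¹) ^ p ^ k = 1 := by
    rw [conj_pow, hk']
    group
  have hyT : g⁻¹ * x * g⁻¹⁻¹ ∈ T := cen _ hyC ⟨k, hyp⟩
  refine ⟨⟨_, hyT⟩, ?_⟩
  rw [hφg]
  show g * (g⁻¹ * x * g⁻¹⁻¹) * g⁻¹ = x
  group

/-- `N_G(T)/K` is a model of the normalizer system, for `T` a `p`-centric subgroup with `N_P(T)`
Sylow in `N_G(T)` and `K` the `p'`-part of `C_G(T)`. -/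
theorem isModel {G : Type u} [Group G] [Finite G] (P : Sylow p G) (T : Subgroup G)
    (hT : IsPGroup p T) (hTP : T ≤ P)
    (R : Sylow p ↥(Subgroup.normalizer (T : Set G)))
    (hR : (R : Subgroup ↥(Subgroup.normalizer (T : Set G))) =
      ((P : Subgroup G) ⊓ Subgroup.normalizer (T : Set G)).subgroupOf
        (Subgroup.normalizer (T : Set G)))
    (K : Subgroup G) [hKn : (K.subgroupOf (Subgroup.normalizer (T : Set G))).Normal]
    (hK2 : ∀ k ∈ K, (∃ n : ℕ, k ^ p ^ n = 1) → k = 1)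
    (hKc : ∀ c ∈ Subgroup.centralizer (T : Set G), ∃ z ∈ T, ∃ k ∈ K, c = z * k) :
    (Cfsg.fusionSystemOfSubgroup (Subgroup.normalizer (T : Set G))
      (Cfsg.FusionSystem.normalizerIn (P : Subgroup G) T) inf_le_right).IsModel p
      (↥(Subgroup.normalizer (T : Set G)) ⧸ K.subgroupOf (Subgroup.normalizer (T : Set G)))
      ((QuotientGroup.mk' (K.subgroupOf (Subgroup.normalizer (T : Set G)))).comp
        (Subgroup.inclusion (inf_le_right :
          Cfsg.FusionSystem.normalizerIn (P : Subgroup G) T ≤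
            Subgroup.normalizer (T : Set G)))) := by
  let NT : Subgroup G := Subgroup.normalizer (T : Set G)
  let S₀ : Subgroup G := Cfsg.FusionSystem.normalizerIn (P : Subgroup G) T
  let K' : Subgroup ↥NT := K.subgroupOf NT
  let ι : ↥S₀ →* ↥NT ⧸ K' :=
    (QuotientGroup.mk' K').comp (Subgroup.inclusion (inf_le_right : S₀ ≤ NT))
  have hS₀P : S₀ ≤ P := inf_le_left
  have hpel : ∀ x ∈ (P : Subgroup G), ∃ n : ℕ, x ^ p ^ n = 1 := by
    intro x hx
    obtain ⟨n, hn⟩ := P.2 ⟨x, hx⟩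
    exact ⟨n, by simpa using congrArg Subtype.val hn⟩
  have hK2' : ∀ k : ↥NT, k ∈ K' → (∃ n : ℕ, k ^ p ^ n = 1) → k = 1 := by
    rintro k hk ⟨n, hn⟩
    apply Subtype.ext
    exact hK2 k hk ⟨n, by simpa using congrArg Subtype.val hn⟩
  have hinj : Function.Injective ι := by
    rw [injective_iff_map_eq_one]
    intro x hx
    have hx' : (Subgroup.inclusion (inf_le_right : S₀ ≤ NT) x) ∈ K' :=
      (QuotientGroup.eq_one_iff _).1 hx
    have h1 : (x : G) = 1 := hK2 x hx' (hpel x (hS₀P x.2))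
    exact Subtype.ext h1
  refine ⟨inferInstance, ⟨hinj, ?_⟩, ?_, ?_⟩
  · -- realization
    intro P' hP' φ hφ
    constructor
    · rintro ⟨_, _, g, hg, hφg⟩
      refine ⟨QuotientGroup.mk (⟨g, hg⟩ : ↥NT), fun x => ?_⟩
      show (QuotientGroup.mk (⟨φ x, (hφ x).2⟩ : ↥NT) : ↥NT ⧸ K') =
        QuotientGroup.mk ((⟨g, hg⟩ : ↥NT) * ⟨x, (hP' x.2).2⟩ * (⟨g, hg⟩ : ↥NT)⁻¹)
      congr 1
      exact Subtype.ext (hφg x)
    · rintro ⟨gq, hgq⟩
      obtain ⟨g, rfl⟩ := QuotientGroup.mk_surjective gq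
      let B₁ : Subgroup ↥NT := (P'.subgroupOf NT).map (MulAut.conj g).toMonoidHom
      let B₂ : Subgroup ↥NT := (φ.range).subgroupOf NT
      have hP'P : P' ≤ P := hP'.trans hS₀P
      have h₁ : IsPGroup p B₁ := ((P.2.to_le hP'P).comap_subtype).map _
      have hφr : φ.range ≤ P := by
        rintro _ ⟨x, rfl⟩
        exact hS₀P (hφ x)
      have h₂ : IsPGroup p B₂ := (P.2.to_le hφr).comap_subtype
      have hcong : ∀ x : P', (⟨φ x, (hφ x).2⟩ : ↥NT)⁻¹ * (g * ⟨x, (hP' x.2).2⟩ * g⁻¹) ∈ K' := by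
        intro x
        have h := hgq x
        have h' : (QuotientGroup.mk (⟨φ x, (hφ x).2⟩ : ↥NT) : ↥NT ⧸ K') =
            QuotientGroup.mk (g * ⟨x, (hP' x.2).2⟩ * g⁻¹) := h
        exact QuotientGroup.eq.1 h'
      have hle : B₁ ≤ B₂ ⊔ K' := by
        rintro _ ⟨y, hy, rfl⟩
        have hc := hcong ⟨y, hy⟩
        have e : (MulAut.conj g).toMonoidHom y =
            (⟨φ ⟨y, hy⟩, (hφ _).2⟩ : ↥NT) * ((⟨φ ⟨y, hy⟩, (hφ _).2⟩ : ↥NT)⁻¹ * (g * y * g⁻¹)) := by
          rw [mul_inv_cancel_left]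
          rfl
        rw [e]
        exact Subgroup.mul_mem_sup (show (⟨φ ⟨y, hy⟩, (hφ _).2⟩ : ↥NT) ∈ B₂ from ⟨⟨y, hy⟩, rfl⟩) hc
      obtain ⟨k, hk, hkB⟩ := conj_into K' hK2' B₁ B₂ h₁ h₂ hle
      refine ⟨hP', hφ, ((k * g : ↥NT) : G), (k * g).2, fun x => ?_⟩
      let xN : ↥NT := ⟨x, (hP' x.2).2⟩
      let w : ↥NT := k * (g * xN * g⁻¹) * k⁻¹
      let φN : ↥NT := ⟨φ x, (hφ x).2⟩
      have h3 : w ∈ B₂ := hkB _ ⟨xN, x.2, rfl⟩
      have hφB : φN ∈ B₂ := ⟨x, rfl⟩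
      have hd1 : w⁻¹ * φN ∈ B₂ := B₂.mul_mem (B₂.inv_mem h3) hφB
      have hd2 : w⁻¹ * φN ∈ K' := by
        have hc : φN⁻¹ * (g * xN * g⁻¹) ∈ K' := hcong x
        have e : w⁻¹ * φN = k * (φN⁻¹ * (g * xN * g⁻¹))⁻¹ * (φN⁻¹ * k⁻¹ * φN⁻¹⁻¹) := by
          show (k * (g * xN * g⁻¹) * k⁻¹)⁻¹ * φN = _
          group
        rw [e]
        exact K'.mul_mem (K'.mul_mem hk (K'.inv_mem hc)) (hKn.conj_mem _ (K'.inv_mem hk) _)
      obtain ⟨n, hn⟩ := h₂ ⟨w⁻¹ * φN, hd1⟩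
      have hd : w⁻¹ * φN = 1 :=
        hK2' _ hd2 ⟨n, by simpa using congrArg Subtype.val hn⟩
      have hφw : φN = w := by
        rw [inv_mul_eq_one] at hd
        exact hd.symm
      have h4 : φ x = ((w : ↥NT) : G) := congrArg Subtype.val hφw
      rw [h4]
      show (k : G) * ((g : G) * (x : G) * (g : G)⁻¹) * (k : G)⁻¹ =
        ((k : G) * (g : G)) * (x : G) * ((k : G) * (g : G))⁻¹
      group
  · -- Sylow
    refine ⟨R.mapSurjective (QuotientGroup.mk'_surjective K'), ?_⟩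
    rw [Sylow.coe_mapSurjective, hR]
    ext y
    constructor
    · rintro ⟨x, hx, rfl⟩
      exact ⟨⟨x, hx⟩, rfl⟩
    · rintro ⟨x, rfl⟩
      exact ⟨Subgroup.inclusion inf_le_right x, x.2, rfl⟩
  · -- centralizer of the p-core
    let Tq : Subgroup (↥NT ⧸ K') := (T.subgroupOf NT).map (QuotientGroup.mk' K')
    have hTn : (T.subgroupOf NT).Normal := Subgroup.normal_in_normalizer
    have hTqn : Tq.Normal := Subgroup.Normal.map hTn _ (QuotientGroup.mk'_surjective K')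
    have hTqp : IsPGroup p Tq := (hT.comap_subtype).map _
    have hTq : Tq ≤ Cfsg.pCore p (↥NT ⧸ K') := le_sSup ⟨hTqn, hTqp⟩
    intro yq hyq
    apply hTq
    have hyq' : yq ∈ Subgroup.centralizer (Tq : Set (↥NT ⧸ K')) :=
      Subgroup.centralizer_le hTq hyq
    obtain ⟨y, rfl⟩ := QuotientGroup.mk_surjective yq
    have hyC : (y : G) ∈ Subgroup.centralizer (T : Set G) := by
      rw [Subgroup.mem_centralizer_iff]
      intro t ht
      have htN : t ∈ NT := Subgroup.le_normalizer ht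
      have hc := Subgroup.mem_centralizer_iff.1 hyq' (QuotientGroup.mk (⟨t, htN⟩ : ↥NT))
        ⟨⟨t, htN⟩, ht, rfl⟩
      have hc' : ((⟨t, htN⟩ : ↥NT) * y)⁻¹ * (y * ⟨t, htN⟩) ∈ K' := QuotientGroup.eq.1 hc
      have hT1 : ((((⟨t, htN⟩ : ↥NT) * y)⁻¹ * (y * ⟨t, htN⟩) : ↥NT) : G) ∈ T := by
        have h5 : (y : G)⁻¹ * t⁻¹ * ((y : G)⁻¹)⁻¹ ∈ T :=
          (Subgroup.mem_normalizer_iff.1 (NT.inv_mem y.2) _).1 (T.inv_mem ht)
        have e : ((((⟨t, htN⟩ : ↥NT) * y)⁻¹ * (y * ⟨t, htN⟩) : ↥NT) : G) =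
            (y : G)⁻¹ * t⁻¹ * ((y : G)⁻¹)⁻¹ * t := by
          show (t * (y : G))⁻¹ * ((y : G) * t) = _
          group
        rw [e]
        exact T.mul_mem h5 ht
      obtain ⟨n, hn⟩ := hT ⟨_, hT1⟩
      have h1 := hK2 _ hc' ⟨n, by simpa using congrArg Subtype.val hn⟩
      have h2 : ((⟨t, htN⟩ : ↥NT) * y) = y * ⟨t, htN⟩ := by
        have h1' : ((⟨t, htN⟩ : ↥NT) * y)⁻¹ * (y * ⟨t, htN⟩) = 1 := Subtype.ext h1
        rw [inv_mul_eq_one] at h1'
        exact h1'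
      exact congrArg Subtype.val h2
    obtain ⟨z, hz, k, hk, hzk⟩ := hKc _ hyC
    have hzN : z ∈ NT := Subgroup.le_normalizer hz
    refine ⟨⟨z, hzN⟩, hz, ?_⟩
    show (QuotientGroup.mk (⟨z, hzN⟩ : ↥NT) : ↥NT ⧸ K') = QuotientGroup.mk y
    rw [QuotientGroup.eq]
    show (((⟨z, hzN⟩ : ↥NT)⁻¹ * y : ↥NT) : G) ∈ K
    have e : (((⟨z, hzN⟩ : ↥NT)⁻¹ * y : ↥NT) : G) = k := by
      show z⁻¹ * (y : G) = k
      rw [hzk]
      group
    rw [e]
    exact hk

/-- A centric datum inside `P` (with `N_P(T)` Sylow in `N_G(T)`) contradicts section-freeness. -/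
theorem not_sectionFree {G : Type u} [Group G] [Finite G] (hp : p ≠ 2) (P : Sylow p G)
    {V₀ V₁ T : Subgroup G} {A : Type u} [Group A] [Finite A] {f : A →* G}
    {π : A →* Matrix.SpecialLinearGroup (Fin 2) (ZMod p)} {j : (Fin 2 → ZMod p) → G}
    (h : CDatum V₀ V₁ T f π j) (hTP : T ≤ P)
    (R : Sylow p ↥(Subgroup.normalizer (T : Set G)))
    (hR : (R : Subgroup ↥(Subgroup.normalizer (T : Set G))) =
      ((P : Subgroup G) ⊓ Subgroup.normalizer (T : Set G)).subgroupOf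
        (Subgroup.normalizer (T : Set G))) :
    ¬ (Cfsg.groupFusionSystem (P : Subgroup G)).IsSectionFree p ↥(Cfsg.qd p) := by
  intro hfree
  obtain ⟨K, hK, hKc⟩ := exists_complement T h.hT h.cen
  have hK2 : ∀ k ∈ K, (∃ n : ℕ, k ^ p ^ n = 1) → k = 1 := by
    rintro k hk ⟨n, hn⟩
    have h1 := ((hK k).1 hk).2
    have h2 : orderOf k ∣ p ^ n := orderOf_dvd_of_pow_eq_one hn
    obtain ⟨i, -, hi⟩ := (Nat.dvd_prime_pow (Fact.out : p.Prime)).1 h2
    cases i with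
    | zero =>
      rw [pow_zero] at hi
      exact orderOf_eq_one_iff.1 hi
    | succ i =>
      exfalso
      apply h1
      rw [hi]
      exact dvd_pow_self p (Nat.succ_ne_zero i)
  haveI hKn : (K.subgroupOf (Subgroup.normalizer (T : Set G))).Normal := by
    constructor
    intro k hk n
    have hk' : (k : G) ∈ K := hk
    obtain ⟨hkC, hko⟩ := (hK _).1 hk'
    show (n : G) * (k : G) * (n : G)⁻¹ ∈ K
    rw [hK]
    constructor
    · rw [Subgroup.mem_centralizer_iff]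
      intro t ht
      have ht' : (n : G)⁻¹ * t * ((n : G)⁻¹)⁻¹ ∈ T :=
        (Subgroup.mem_normalizer_iff.1
          ((Subgroup.normalizer (T : Set G)).inv_mem n.2) _).1 ht
      have h1 := Subgroup.mem_centralizer_iff.1 hkC _ ht'
      have h2 : t * ((n : G) * (k : G) * (n : G)⁻¹) =
          (n : G) * ((n : G)⁻¹ * t * ((n : G)⁻¹)⁻¹ * (k : G)) * (n : G)⁻¹ := by group
      have h3 : (n : G) * (k : G) * (n : G)⁻¹ * t =
          (n : G) * ((k : G) * ((n : G)⁻¹ * t * ((n : G)⁻¹)⁻¹)) * (n : G)⁻¹ := by group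
      rw [h2, h3, h1]
    · have h1 : orderOf ((n : G) * (k : G) * (n : G)⁻¹) = orderOf (k : G) :=
        orderOf_injective (MulAut.conj (n : G)).toMonoidHom (MulAut.conj (n : G)).injective (k : G)
      rw [h1]
      exact hko
  have hmodel := isModel P T h.hT hTP R hR K hK2 hKc
  refine hfree T (isFullyNormalized P T hTP R hR) (isCentric P T hTP h.cen) _
    (isNormalizerSystem (P : Subgroup G) T hTP) _ _ hmodel ?_
  have hres := restrict h.d (Subgroup.normalizer (T : Set G))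
    (h.hVT.trans Subgroup.le_normalizer) h.nfT
  have hmap := hres.map (QuotientGroup.mk' (K.subgroupOf (Subgroup.normalizer (T : Set G)))) (by
    intro v hv hv1
    have hvK : (v : G) ∈ K := (QuotientGroup.eq_one_iff v).1 hv1
    have hvV : (v : G) ∈ V₀ := hv
    obtain ⟨n, hn⟩ := (h.hT.to_le h.hVT) ⟨v, hvV⟩
    have := hK2 _ hvK ⟨n, by simpa using congrArg Subtype.val hn⟩
    exact Subtype.ext this)
  exact hmap.involves hp

/-- Forward direction: a section `Qd(p)` of `G` contradicts section-freeness of the fusion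
system. -/
theorem not_sectionFree_of_involves {G : Type u} [Group G] [Finite G] (hp : p ≠ 2)
    (P : Sylow p G) (hinv : Cfsg.Involves ↥(Cfsg.qd p) G) :
    ¬ (Cfsg.groupFusionSystem (P : Subgroup G)).IsSectionFree p ↥(Cfsg.qd p) := by
  obtain ⟨V₀, V₁, A, _, _, f, π, j, hV₀, hD⟩ := exists_datum hinv
  obtain ⟨T, A', _, _, f', π', hC⟩ := exists_centric hV₀ hD
  obtain ⟨g, hgP, R, hR⟩ := exists_conj P T hC.hT
  exact not_sectionFree hp P (hC.map_equiv (MulAut.conj g)) hgP R hR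

end Cfsg.Agent.Lib.Helper11.QdModel
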