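import Cfsg.Agent.Lib.Helper11.QdModel
import Mathlib

set_option autoImplicit false
set_option linter.unusedSectionVars false
set_option linter.unusedVariables false

namespace Cfsg.Agent.Lib.Helper11.QdTransfer

open Cfsg.Agent.Lib.Helper11.QdDatum Cfsg.Agent.Lib.Helper11.QdCentric

universe u

variable {p : ℕ} [Fact p.Prime]

theorem mem_normalizer_of_conj {Y : Type*} [Group Y] (W : Subgroup Y) (g : Y)
    (h1 : ∀ w ∈ W, g * w * g⁻¹ ∈ W) (h2 : ∀ w ∈ W, g⁻¹ * w * g⁻¹⁻¹ ∈ W) :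
    g ∈ Subgroup.normalizer (W : Set Y) := by
  rw [Subgroup.mem_normalizer_iff]
  intro w
  refine ⟨h1 w, fun hw => ?_⟩
  have h3 := h2 _ hw
  have e : g⁻¹ * (g * w * g⁻¹) * g⁻¹⁻¹ = w := by group
  rw [e] at h3
  exact h3

/-- Transfer of a datum from a model of the normalizer system to the group. -/
theorem transfer {G : Type u} [Group G] [Finite G] (hp : p ≠ 2) (P : Sylow p G) (Q : Subgroup G)
    (N : Cfsg.FusionSystem (Cfsg.FusionSystem.normalizerIn (P : Subgroup G) Q))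
    (hN : (Cfsg.groupFusionSystem (P : Subgroup G)).IsNormalizerSystem Q N)
    {L : Type u} [Group L] (ι : ↥(Cfsg.FusionSystem.normalizerIn (P : Subgroup G) Q) →* L)
    (hinj : Function.Injective ι)
    (hreal : ∀ (P' : Subgroup G) (hP' : P' ≤ Cfsg.FusionSystem.normalizerIn (P : Subgroup G) Q)
      (φ : P' →* G) (hφ : ∀ x : P', φ x ∈ Cfsg.FusionSystem.normalizerIn (P : Subgroup G) Q),
      φ ∈ N.Hom P' ↔ ∃ g : L, ∀ x : P', ι ⟨φ x, hφ x⟩ = g * ι ⟨x, hP' x.2⟩ * g⁻¹)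
    {V₀ V₁ : Subgroup L} {A : Type u} [Group A] [Finite A] {f : A →* L}
    {π : A →* Matrix.SpecialLinearGroup (Fin 2) (ZMod p)} {j : (Fin 2 → ZMod p) → L}
    (hD : Datum V₀ V₁ f π j) (hV₀ : V₀ ≤ ι.range) : Cfsg.Involves ↥(Cfsg.qd p) G := by
  let S₀ : Subgroup G := Cfsg.FusionSystem.normalizerIn (P : Subgroup G) Q
  let W₀ : Subgroup G := (V₀.comap ι).map S₀.subtype
  let W₁ : Subgroup G := (V₁.comap ι).map S₀.subtype
  have hW₀S : W₀ ≤ S₀ := Subgroup.map_subtype_le _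
  let AG : Subgroup (A × G) :=
    { carrier := {x | ∀ s : ↥S₀, ι s ∈ V₀ →
        ∃ y : ↥S₀, (y : G) = x.2 * s * x.2⁻¹ ∧ ι y = f x.1 * ι s * (f x.1)⁻¹}
      one_mem' := fun s hs => ⟨s, by simp, by simp⟩
      mul_mem' := by
        intro x x' hx hx' s hs
        obtain ⟨y', hy', hιy'⟩ := hx' s hs
        have hy'V : ι y' ∈ V₀ := by
          rw [hιy']
          exact (Subgroup.mem_normalizer_iff.1 (hD.nf₀ x'.1) _).1 hs
        obtain ⟨y, hy, hιy⟩ := hx y' hy'V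
        refine ⟨y, ?_, ?_⟩
        · rw [hy, hy']
          show x.2 * (x'.2 * s * x'.2⁻¹) * x.2⁻¹ = x.2 * x'.2 * s * (x.2 * x'.2)⁻¹
          group
        · rw [hιy, hιy']
          show f x.1 * (f x'.1 * ι s * (f x'.1)⁻¹) * (f x.1)⁻¹ =
            f (x.1 * x'.1) * ι s * (f (x.1 * x'.1))⁻¹
          rw [map_mul]
          group
      inv_mem' := by
        intro x hx s hs
        have hv : (f x.1)⁻¹ * ι s * ((f x.1)⁻¹)⁻¹ ∈ V₀ :=
          (Subgroup.mem_normalizer_iff.1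
            ((Subgroup.normalizer (V₀ : Set L)).inv_mem (hD.nf₀ x.1)) _).1 hs
        obtain ⟨y₀, hy₀⟩ := hV₀ hv
        obtain ⟨y₁, hy₁, hιy₁⟩ := hx y₀ (by rw [hy₀]; exact hv)
        have h1 : y₁ = s := by
          apply hinj
          rw [hιy₁, hy₀]
          group
        refine ⟨y₀, ?_, ?_⟩
        · have h2 : (s : G) = x.2 * y₀ * x.2⁻¹ := by rw [← h1, hy₁]
          show (y₀ : G) = x.2⁻¹ * s * x.2⁻¹⁻¹
          rw [h2]
          group
        · rw [hy₀]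
          show _ = f x.1⁻¹ * ι s * (f x.1⁻¹)⁻¹
          rw [map_inv] }
  let fG : ↥AG →* G := (MonoidHom.snd A G).comp AG.subtype
  let πG : ↥AG →* Matrix.SpecialLinearGroup (Fin 2) (ZMod p) :=
    π.comp ((MonoidHom.fst A G).comp AG.subtype)
  have hjex : ∀ u, ∃ s : ↥S₀, ι s = j u := fun u => hV₀ (hD.jmem u)
  choose jS hjS using hjex
  have hsurj : ∀ a : A, ∃ g : G, ((a, g) : A × G) ∈ AG := by
    intro a
    let e : ↥S₀ ≃* ↥ι.range := MonoidHom.ofInjective hinj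
    let ψ : ↥W₀ →* L := (MulAut.conj (f a)).toMonoidHom.comp (ι.comp (Subgroup.inclusion hW₀S))
    have hψ : ∀ x : ↥W₀, ψ x ∈ ι.range := by
      rintro ⟨_, s, hs, rfl⟩
      apply hV₀
      exact (Subgroup.mem_normalizer_iff.1 (hD.nf₀ a) _).1 hs
    let φ : ↥W₀ →* G := S₀.subtype.comp (e.symm.toMonoidHom.comp (ψ.codRestrict ι.range hψ))
    have hφ : ∀ x : ↥W₀, φ x ∈ S₀ := fun x => (e.symm (ψ.codRestrict ι.range hψ x)).2
    have key : ∀ x : ↥W₀, ι ⟨φ x, hφ x⟩ = ψ x := by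
      intro x
      exact MonoidHom.apply_ofInjective_symm hinj (ψ.codRestrict ι.range hψ x)
    have hmemN : φ ∈ N.Hom W₀ := (hreal W₀ hW₀S φ hφ).2 ⟨f a, fun x => by rw [key]; rfl⟩
    rw [hN W₀] at hmemN
    obtain ⟨-, -, g, hg⟩ := hmemN.1
    refine ⟨g, ?_⟩
    intro s hs
    let x : ↥W₀ := ⟨(s : G), ⟨s, hs, rfl⟩⟩
    exact ⟨⟨φ x, hφ x⟩, hg x, key x⟩
  have hconj₀ : ∀ x : ↥AG, ∀ w ∈ W₀, fG x * w * (fG x)⁻¹ ∈ W₀ := by
    rintro x _ ⟨s, hs, rfl⟩
    obtain ⟨y, hy, hιy⟩ := x.2 s hs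
    refine ⟨y, ?_, hy⟩
    show ι y ∈ V₀
    rw [hιy]
    exact (Subgroup.mem_normalizer_iff.1 (hD.nf₀ x.1.1) _).1 hs
  have hconj₁ : ∀ x : ↥AG, ∀ w ∈ W₁, fG x * w * (fG x)⁻¹ ∈ W₁ := by
    rintro x _ ⟨s, hs, rfl⟩
    obtain ⟨y, hy, hιy⟩ := x.2 s (hD.le hs)
    refine ⟨y, ?_, hy⟩
    show ι y ∈ V₁
    rw [hιy]
    exact (Subgroup.mem_normalizer_iff.1 (hD.nf₁ x.1.1) _).1 hs
  have hDG : Datum W₀ W₁ fG πG (fun u => (jS u : G)) :=
    { le := Subgroup.map_mono (Subgroup.comap_mono hD.le)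
      comm := by
        rintro _ ⟨s, hs, rfl⟩ _ ⟨t, ht, rfl⟩
        refine ⟨s * t * s⁻¹ * t⁻¹, ?_, rfl⟩
        show ι (s * t * s⁻¹ * t⁻¹) ∈ V₁
        rw [map_mul, map_mul, map_mul, map_inv, map_inv]
        exact hD.comm _ hs _ ht
      nf₀ := fun x => mem_normalizer_of_conj W₀ (fG x) (hconj₀ x) (fun w hw => by
        have := hconj₀ x⁻¹ w hw
        exact this)
      nf₁ := fun x => mem_normalizer_of_conj W₁ (fG x) (hconj₁ x) (fun w hw => by
        have := hconj₁ x⁻¹ w hw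
        exact this)
      jmem := fun u => ⟨jS u, (by
        show ι (jS u) ∈ V₀
        rw [hjS]
        exact hD.jmem u), rfl⟩
      jadd := fun u v => ⟨jS (u + v) * (jS u * jS v)⁻¹, (by
        show ι (jS (u + v) * (jS u * jS v)⁻¹) ∈ V₁
        rw [map_mul, map_inv, map_mul, hjS, hjS, hjS]
        exact hD.jadd u v), rfl⟩
      jinj := by
        rintro u ⟨s, hs, hsu⟩
        have h1 : s = jS u := Subtype.ext hsu
        have h2 : ι s ∈ V₁ := hs
        rw [h1, hjS] at h2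
        exact hD.jinj u h2
      jact := by
        intro x u
        obtain ⟨y, hy, hιy⟩ := x.2 (jS u) (by rw [hjS]; exact hD.jmem u)
        refine ⟨y * (jS (Matrix.mulVec (π x.1.1).1 u))⁻¹, ?_, ?_⟩
        · show ι (y * (jS (Matrix.mulVec (π x.1.1).1 u))⁻¹) ∈ V₁
          rw [map_mul, map_inv, hιy, hjS, hjS]
          exact hD.jact x.1.1 u
        · show (y : G) * ((jS (Matrix.mulVec (π x.1.1).1 u) : ↥S₀) : G)⁻¹ = _
          rw [hy]
          rfl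
      surj := by
        intro B
        obtain ⟨a, rfl⟩ := hD.surj B
        obtain ⟨g, hg⟩ := hsurj a
        exact ⟨⟨(a, g), hg⟩, rfl⟩ }
  exact hDG.involves hp

/-- Reverse direction: a model of a normalizer system involving `Qd(p)` forces `Qd(p)` into
`G`. -/
theorem involves_of_model {G : Type u} [Group G] [Finite G] (hp : p ≠ 2) (P : Sylow p G)
    (Q : Subgroup G)
    (N : Cfsg.FusionSystem (Cfsg.FusionSystem.normalizerIn (P : Subgroup G) Q))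
    (hN : (Cfsg.groupFusionSystem (P : Subgroup G)).IsNormalizerSystem Q N)
    (L : Type u) [Group L] (ι : ↥(Cfsg.FusionSystem.normalizerIn (P : Subgroup G) Q) →* L)
    (hM : N.IsModel p L ι) (hinv : Cfsg.Involves ↥(Cfsg.qd p) L) :
    Cfsg.Involves ↥(Cfsg.qd p) G := by
  obtain ⟨hfin, ⟨hinj, hreal⟩, ⟨TL, hTL⟩, -⟩ := hM
  haveI := hfin
  obtain ⟨V₀, V₁, A, _, _, f, π, j, hV₀, hD⟩ := exists_datum hinv
  obtain ⟨Q₁, hQ₁⟩ := hV₀.exists_le_sylow
  obtain ⟨l, hl⟩ := MulAction.exists_smul_eq L Q₁ TL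
  have hD' := hD.map (MulAut.conj l).toMonoidHom
    (fun v _ hv => (MulEquiv.map_eq_one_iff (MulAut.conj l)).1 hv)
  have hV₀' : V₀.map (MulAut.conj l).toMonoidHom ≤ ι.range := by
    rw [← hTL, ← hl, Sylow.coe_subgroup_smul]
    rintro _ ⟨x, hx, rfl⟩
    exact Subgroup.smul_mem_pointwise_smul _ (MulAut.conj l) _ (hQ₁ hx)
  exact transfer hp P Q N hN ι hinj hreal hD' hV₀'

end Cfsg.Agent.Lib.Helper11.QdTransfer
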