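import Mathlib
import Cfsg.Agent.Lib.Helper18.ReeHallStmt
import Cfsg.Agent.Lib.Helper11.RHBasic

set_option autoImplicit false

universe u v

namespace Cfsg.Agent.Lib.Helper11.RHNRMH

open Cfsg.Agent.Lib.Helper42.ReeSpStmt Cfsg.Agent.Lib.Helper11.RHBasic

theorem qq_mod8 (m : ℕ) : qq m % 8 = 3 := by
  have e : qq m = 3 * 9 ^ m := by
    show 3 ^ (2 * m + 1) = 3 * 9 ^ m
    rw [pow_succ, pow_mul]; norm_num; ring
  have h9 : 9 ^ m % 8 = 1 := by rw [Nat.pow_mod]; norm_num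
  rw [e, Nat.mul_mod, h9]

theorem qq_ge (m : ℕ) (hm : 1 ≤ m) : 27 ≤ qq m := by
  have : 3 ^ 3 ≤ 3 ^ (2 * m + 1) := Nat.pow_le_pow_right (by norm_num) (by omega)
  simpa using this

theorem main : Cfsg.Agent.Lib.Helper18.ReeHallStmt.NrmH.{u, v} := by
  intro G _ _ U H A K _ _ m hax hNH
  haveI := hax.cycH
  have hq8 := qq_mod8 m
  have hq27 := qq_ge m hax.hm
  obtain ⟨h, hh⟩ := IsCyclic.exists_generator (α := ↥H)
  have hoh : orderOf h = qq m - 1 := by
    rw [orderOf_eq_card_of_forall_mem_zpowers hh, hax.cardH]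
  have hHcomm : ∀ a ∈ H, ∀ b ∈ H, a * b = b * a := by
    intro a ha b hb
    have h1 := (IsCyclic.isMulCommutative (α := ↥H)).is_comm.comm ⟨a, ha⟩ ⟨b, hb⟩
    exact congrArg Subtype.val h1
  have hcardA : Nat.card (Subgroup.zpowers (((h ^ 2 : ↥H) : G))) = (qq m - 1) / 2 := by
    rw [Nat.card_zpowers, Subgroup.orderOf_coe, orderOf_pow, hoh]
    have hg : (qq m - 1).gcd 2 = 2 := Nat.gcd_eq_right (by omega)
    rw [hg]
  have hAH : Subgroup.zpowers (((h ^ 2 : ↥H) : G)) ≤ H := by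
    rw [Subgroup.zpowers_le]; exact (h ^ 2).2
  have hcent : ∀ y ∈ Subgroup.zpowers (((h ^ 2 : ↥H) : G)), y ≠ 1 →
      Subgroup.centralizer ({y} : Set G) = H := by
    intro y hy hy1
    have hodd : Odd (orderOf y) := by
      have hdvd := Subgroup.orderOf_dvd_natCard _ hy
      rw [hcardA] at hdvd
      have hodd' : Odd ((qq m - 1) / 2) := by
        rw [Nat.odd_iff]; omega
      exact Odd.of_dvd_nat hodd' hdvd
    ext g
    rw [Subgroup.mem_centralizer_iff]
    constructor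
    · intro hg
      exact hax.centH y (hAH hy) hy1 hodd g (hg y (Set.mem_singleton y)).symm
    · intro hg h' hh'
      rw [Set.mem_singleton_iff] at hh'
      rw [hh']
      exact hHcomm y (hAH hy) g hg
  have hkey : ∀ A₀ : Subgroup G, A₀ ≤ Subgroup.zpowers (((h ^ 2 : ↥H) : G)) → A₀ ≠ ⊥ →
      Subgroup.normalizer (A₀ : Set G) = Subgroup.normalizer (H : Set G) := by
    intro A₀ hA hne
    apply le_antisymm
    · exact normalizer_le_of_cent H A₀ hne (fun y hy hy1 => hcent y (hA hy) hy1)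
    · exact normalizer_cyclic_le H A₀ (hA.trans hAH)
  have hne : Subgroup.zpowers (((h ^ 2 : ↥H) : G)) ≠ ⊥ := by
    intro hbot
    rw [hbot, Subgroup.card_bot] at hcardA
    omega
  have hNA := hkey _ le_rfl hne
  refine ⟨Subgroup.zpowers (((h ^ 2 : ↥H) : G)), inferInstance, hcardA, ?_, ?_⟩
  · rw [hNA]; exact hNH
  · intro A₀ hA hne0
    rw [hNA]; exact hkey A₀ hA hne0

end Cfsg.Agent.Lib.Helper11.RHNRMH
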