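import Mathlib
import Cfsg.Agent.Lib.Helper18.ReeHallStmt
import Cfsg.Agent.Lib.Helper11.RHBasic
import Cfsg.Agent.Lib.Helper11.RHNRMH

set_option autoImplicit false

universe u v

namespace Cfsg.Agent.Lib.Helper11.RHNRMA

open Cfsg.Agent.Lib.Helper42.ReeSpStmt Cfsg.Agent.Lib.Helper11.RHBasic

/-- the elements of `C(A)` killed by `n` -/
def torsionSub {G : Type u} [Group G] (A : Subgroup G)
    (hcomm : ∀ x ∈ Subgroup.centralizer (A : Set G), ∀ y ∈ Subgroup.centralizer (A : Set G),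
      x * y = y * x) (n : ℕ) : Subgroup G where
  carrier := {x | x ∈ Subgroup.centralizer (A : Set G) ∧ x ^ n = 1}
  mul_mem' := by
    intro a b ha hb
    refine ⟨Subgroup.mul_mem _ ha.1 hb.1, ?_⟩
    have hc : Commute a b := hcomm a ha.1 b hb.1
    rw [hc.mul_pow, ha.2, hb.2, one_mul]
  one_mem' := ⟨Subgroup.one_mem _, one_pow n⟩
  inv_mem' := by
    intro a ha
    exact ⟨Subgroup.inv_mem _ ha.1, by rw [inv_pow, ha.2, inv_one]⟩

theorem main : Cfsg.Agent.Lib.Helper18.ReeHallStmt.NrmA.{u, v} := by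
  intro G _ _ U H A K _ _ m hax hNA
  haveI := hax.cycA
  have hq8 := Cfsg.Agent.Lib.Helper11.RHNRMH.qq_mod8 m
  have hq27 := Cfsg.Agent.Lib.Helper11.RHNRMH.qq_ge m hax.hm
  have hAcomm : ∀ a ∈ A, ∀ b ∈ A, a * b = b * a := by
    intro a ha b hb
    have h1 := (IsCyclic.isMulCommutative (α := ↥A)).is_comm.comm ⟨a, ha⟩ ⟨b, hb⟩
    exact congrArg Subtype.val h1
  have hACA : A ≤ Subgroup.centralizer (A : Set G) := by
    intro a ha
    rw [Subgroup.mem_centralizer_iff]
    intro b hb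
    exact hAcomm b hb a ha
  have hApow : ∀ a ∈ A, a ^ ((qq m + 1) / 4) = 1 := by
    intro a ha
    have h1 : (⟨a, ha⟩ : A) ^ Nat.card A = 1 := pow_card_eq_one'
    have h2 := congrArg Subtype.val h1
    rw [Subgroup.coe_pow, hax.cardA] at h2
    exact h2
  -- `B = A`
  have hAB : A ≤ torsionSub A hax.commCA ((qq m + 1) / 4) := fun a ha => ⟨hACA ha, hApow a ha⟩
  have hBCA : torsionSub A hax.commCA ((qq m + 1) / 4) ≤ Subgroup.centralizer (A : Set G) :=
    fun x hx => hx.1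
  have hBodd : ¬ 2 ∣ Nat.card (torsionSub A hax.commCA ((qq m + 1) / 4)) := by
    intro h2
    haveI : Fact (Nat.Prime 2) := ⟨Nat.prime_two⟩
    obtain ⟨x, hx⟩ := exists_prime_orderOf_dvd_card' 2 h2
    have hx2 : orderOf (x : G) = 2 := by rw [Subgroup.orderOf_coe]; exact hx
    have hxn : (x : G) ^ ((qq m + 1) / 4) = 1 := x.2.2
    have hdvd := orderOf_dvd_of_pow_eq_one hxn
    rw [hx2] at hdvd
    omega
  have hBdvd : Nat.card (torsionSub A hax.commCA ((qq m + 1) / 4)) ∣ 4 * ((qq m + 1) / 4) := by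
    have h1 := Subgroup.card_dvd_of_le hBCA
    rw [hax.cardCA] at h1
    have e : 4 * ((qq m + 1) / 4) = qq m + 1 := by omega
    rw [e]; exact h1
  have hcop : Nat.Coprime (Nat.card (torsionSub A hax.commCA ((qq m + 1) / 4))) 4 := by
    have h2 : Nat.Coprime (Nat.card (torsionSub A hax.commCA ((qq m + 1) / 4))) 2 := by
      rw [Nat.coprime_comm, Nat.Prime.coprime_iff_not_dvd Nat.prime_two]
      exact hBodd
    have : (4 : ℕ) = 2 ^ 2 := by norm_num
    rw [this]
    exact Nat.Coprime.pow_right 2 h2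
  have hBle : Nat.card (torsionSub A hax.commCA ((qq m + 1) / 4)) ≤ Nat.card A := by
    rw [hax.cardA]
    apply Nat.le_of_dvd (by omega)
    exact hcop.dvd_of_dvd_mul_left hBdvd
  have hEq : A = torsionSub A hax.commCA ((qq m + 1) / 4) := Subgroup.eq_of_le_of_card_ge hAB hBle
  -- `N(C(A)) ≤ N(A)`
  have hNC : Subgroup.normalizer ((Subgroup.centralizer (A : Set G) : Subgroup G) : Set G)
      ≤ Subgroup.normalizer (A : Set G) := by
    intro g hg
    apply mem_normalizer_of_conj_mem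
    intro a ha
    rw [hEq]
    refine ⟨(Subgroup.mem_normalizer_iff.mp hg a).mp (hACA ha), ?_⟩
    rw [conj_pow, hApow a ha]; simp
  refine ⟨A, hax.cycA, hax.cardA, hNA, ?_⟩
  intro A₀ hA hne
  apply le_antisymm
  · exact (normalizer_le_of_cent (Subgroup.centralizer (A : Set G)) A₀ hne
      (fun y hy hy1 => hax.centA y (hA hy) hy1)).trans hNC
  · exact normalizer_cyclic_le A A₀ hA

end Cfsg.Agent.Lib.Helper11.RHNRMA
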