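import Mathlib
import Cfsg.Agent.Lib.Helper18.ReeHallStmt
import Cfsg.Agent.Lib.Helper11.RHBasic

set_option autoImplicit false

universe u v

namespace Cfsg.Agent.Lib.Helper11.RHNRMT

open Cfsg.Agent.Lib.Helper42.ReeSpStmt Cfsg.Agent.Lib.Helper11.RHBasic

theorem main : Cfsg.Agent.Lib.Helper18.ReeHallStmt.NrmT.{u} := by
  intro G _ _ m hT
  obtain ⟨C₁, C₂, hc1, hc2, hcard1, hcard2, -, hN1, hN2, hcent1, hcent2⟩ := hT
  refine ⟨⟨C₂, hc2, hcard2, hN2, ?_⟩, ⟨C₁, hc1, hcard1, hN1, ?_⟩⟩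
  · intro A₀ hA hne
    apply le_antisymm
    · exact normalizer_le_of_cent C₂ A₀ hne (fun y hy hy1 => hcent2 y (hA hy) hy1)
    · exact normalizer_cyclic_le C₂ A₀ hA
  · intro A₀ hA hne
    apply le_antisymm
    · exact normalizer_le_of_cent C₁ A₀ hne (fun y hy hy1 => hcent1 y (hA hy) hy1)
    · exact normalizer_cyclic_le C₁ A₀ hA

end Cfsg.Agent.Lib.Helper11.RHNRMT
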