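import Mathlib
import Cfsg.Agent.Lib.Helper40.SFStmt

set_option autoImplicit false

namespace Cfsg.Agent.Lib.Helper11.SFFIELD

open Cfsg.Agent.Lib.Helper40.SFStmt

universe u

theorem main : Cfsg.Agent.Lib.Helper40.SFStmt.FieldLem.{u} := by
  intro F L _ _ _ hr Λ h2 hlt
  by_contra hcon
  push_neg at hcon
  have hne : Λ ≠ ⊥ := by
    intro h
    rw [h, finrank_bot] at h2
    omega
  obtain ⟨x₀, hx₀, hx₀ne⟩ := Submodule.exists_mem_ne_zero_of_ne_bot hne
  -- multiplication by x₀ as a linear equivalence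
  let m : L ≃ₗ[F] L := LinearEquiv.ofLinear (LinearMap.mulLeft F x₀) (LinearMap.mulLeft F x₀⁻¹)
    (by ext; simp [hx₀ne]) (by ext; simp [hx₀ne])
  obtain ⟨A, hAdef⟩ : ∃ A : Submodule F L, A = Λ.comap (m : L →ₗ[F] L) := ⟨_, rfl⟩
  have hA : ∀ a, a ∈ A ↔ x₀ * a ∈ Λ := by
    intro a
    rw [hAdef]
    exact Iff.rfl
  have hdimA : Module.finrank F A = Module.finrank F Λ := by
    rw [hAdef, Submodule.comap_equiv_eq_map_symm, LinearEquiv.finrank_map_eq]
  have h1A : (1 : L) ∈ A := by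
    rw [hA, mul_one]; exact hx₀
  have hmulA : ∀ a b, a ∈ A → b ∈ A → a * b ∈ A := by
    intro a b ha hb
    rw [hA] at ha hb ⊢
    obtain ⟨y, hy, hye⟩ := hcon x₀ hx₀ hx₀ne _ ha _ hb
    have : x₀ * (a * b) = y := by
      apply mul_left_cancel₀ hx₀ne
      rw [← hye]; ring
    rw [this]; exact hy
  obtain ⟨B, hBdef⟩ : ∃ B : Subalgebra F L, B = A.toSubalgebra h1A hmulA := ⟨_, rfl⟩
  have hB : Subalgebra.toSubmodule B = A := by
    rw [hBdef]; exact Submodule.toSubalgebra_toSubmodule A h1A hmulA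
  have hfin : Module.finrank F A = Module.finrank F B := by
    rw [← hB, Subalgebra.finrank_toSubmodule]
  rcases (Subalgebra.isSimpleOrder_of_finrank_prime F L hr).eq_bot_or_eq_top B with h | h
  · rw [h, Subalgebra.finrank_bot] at hfin
    omega
  · have htop : A = ⊤ := by rw [← hB, h, Algebra.top_toSubmodule]
    rw [htop, finrank_top] at hdimA
    omega

end Cfsg.Agent.Lib.Helper11.SFFIELD
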