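import Cfsg.Agent.Lib.Helper11.SieveCheck

/-!
# Certificates for the orders 3641 .. 6232

Generated by a script mirroring `SieveCheck.check`; every chunk is verified by the kernel.
-/

set_option autoImplicit false

namespace Cfsg.Agent.Lib.Helper11.SieveCert

open Cfsg.Agent.Lib.Helper11.SieveCheck
open Cfsg.Agent.Lib.Helper11.SieveCheck.Cert

def certs0 : List Cert := [
  .two 11 1 331 1, .syl 607 1, .two 3643 1 3643 0, .two 2 2 911 1, .two 3 6 5 1, .two 2 1 1823 1, .two 7 1 521 1, .one 19,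
  .two 41 1 89 1, .syl 73 1, .two 3 1 1217 1, .syl 83 1, .two 13 1 281 1, .syl 29 1, .syl 43 1, .two 2 3 457 1,
  .syl 53 1, .syl 59 1, .two 3659 1 3659 0, .syl 61 1, .two 7 1 523 1, .two 2 1 1831 1, .syl 37 1, .two 2 4 229 1,
  .two 5 1 733 1, .syl 47 1, .two 19 1 193 1, .syl 131 1, .two 3 1 1223 1, .syl 367 1, .two 3671 1 3671 0, .one 17,
  .two 3673 1 3673 0, .syl 167 1, .syl 7 2, .two 2 2 919 1, .two 3677 1 3677 0, .syl 613 1, .two 13 1 283 1, .syl 23 1,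
  .two 3 2 409 1, .syl 263 1, .two 29 1 127 1, .syl 307 1, .syl 67 1, .syl 97 1, .two 3 1 1229 1, .two 2 3 461 1,
  .syl 31 1, .syl 41 1, .two 3691 1 3691 0, .syl 71 1, .two 3 1 1231 1, .two 2 1 1847 1, .two 5 1 739 1, .skip,
  .two 3697 1 3697 0, .two 2 1 43 2, .two 3 3 137 1, .syl 37 1, .two 3701 1 3701 0, .syl 617 1, .two 7 1 23 2, .two 2 3 463 1,
  .syl 13 1, .syl 109 1, .two 11 1 337 1, .syl 103 1, .two 3709 1 3709 0, .syl 53 1, .two 3 1 1237 1, .two 2 7 29 1,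
  .two 47 1 79 1, .syl 619 1, .two 5 1 743 1, .two 2 2 929 1, .syl 59 1, .syl 13 2, .two 3719 1 3719 0, .syl 31 1,
  .two 61 2 61 0, .two 2 1 1861 1, .syl 73 1, .syl 19 1, .two 5 2 149 1, .one 23, .two 3727 1 3727 0, .two 2 4 233 1,
  .syl 113 1, .syl 373 1, .syl 41 1, .syl 311 1, .two 3733 1 3733 0, .two 2 1 1867 1, .syl 83 1, .two 2 3 467 1,
  .two 37 1 101 1, .syl 89 1, .two 3739 1 3739 0, .syl 17 1, .syl 29 1, .two 2 1 1871 1, .two 19 1 197 1, .one 13,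
  .syl 107 1, .two 2 1 1873 1, .two 3 1 1249 1, .two 2 2 937 1, .two 23 1 163 1, .syl 5 4, .two 11 2 31 1, .syl 67 1,
  .two 3 3 139 1, .two 2 1 1877 1, .two 5 1 751 1, .syl 313 1, .two 13 1 17 2, .two 2 1 1879 1, .syl 179 1, .syl 47 1,
  .two 3761 1 3761 0, .syl 19 1, .two 53 1 71 1, .two 2 2 941 1, .syl 251 1, .syl 269 1, .two 3767 1 3767 0, .syl 157 1,
  .two 3769 1 3769 0, .syl 29 1, .two 3 2 419 1, .syl 41 1, .two 7 3 11 1, .syl 37 1, .two 5 2 151 1, .two 2 6 59 1,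
  .two 3 1 1259 1, .two 2 1 1889 1, .two 3779 1 3779 0, .skip, .two 19 1 199 1, .syl 31 1, .syl 97 1, .syl 11 1,
  .two 5 1 757 1, .syl 631 1, .two 7 1 541 1, .two 2 2 947 1, .two 3 2 421 1, .syl 379 1, .two 17 1 223 1, .syl 79 1,
  .two 3793 1 3793 0, .syl 271 1, .syl 23 1, .syl 73 1, .two 3797 1 3797 0, .syl 211 1, .two 29 1 131 1, .one 19,
  .syl 181 1, .two 2 1 1901 1, .two 3803 1 3803 0, .syl 317 1, .two 5 1 761 1, .syl 173 1, .two 3 4 47 1, .syl 17 1,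
  .two 13 1 293 1, .syl 127 1, .two 37 1 103 1, .two 2 2 953 1, .syl 41 1, .two 2 1 1907 1, .syl 109 1, .syl 53 1,
  .two 11 1 347 1, .syl 83 1, .syl 67 1, .syl 191 1, .two 3821 1 3821 0, .syl 7 2, .two 3823 1 3823 0, .two 2 4 239 1,
  .syl 17 1, .two 2 1 1913 1, .two 43 1 89 1, .syl 29 1, .two 7 1 547 1, .syl 383 1, .two 3 1 1277 1, .two 2 3 479 1,
  .two 3833 1 3833 0, .syl 71 1, .syl 59 1, .syl 137 1, .two 3 1 1279 1, .syl 101 1, .two 11 1 349 1, .syl 2 8,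
  .two 23 1 167 1, .syl 113 1, .syl 61 1, .two 2 2 31 2, .two 5 1 769 1, .syl 641 1, .two 3847 1 3847 0, .syl 37 1,
  .two 3 1 1283 1, .syl 11 1, .two 3851 1 3851 0, .syl 107 1, .two 3853 1 3853 0, .syl 47 1, .syl 257 1, .two 2 4 241 1]

set_option maxRecDepth 100000 in
theorem len0 : certs0.length = 216 := by decide +kernel

set_option maxRecDepth 100000 in
theorem chunk0 : checkAll 3641 certs0 = true := by decide +kernel

def certs1 : List Cert := [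
  .syl 29 1, .syl 643 1, .two 17 1 227 1, .syl 193 1, .syl 11 1, .two 2 1 1931 1, .two 3863 1 3863 0, .one 23,
  .two 5 1 773 1, .two 2 1 1933 1, .two 3 1 1289 1, .two 2 2 967 1, .two 53 1 73 1, .syl 43 1, .two 7 2 79 1, .two 2 5 11 2,
  .two 3 1 1291 1, .syl 149 1, .two 5 3 31 1, .syl 19 1, .two 3877 1 3877 0, .syl 277 1, .two 3 2 431 1, .syl 97 1,
  .two 3881 1 3881 0, .syl 647 1, .two 11 1 353 1, .two 2 2 971 1, .syl 37 1, .syl 67 1, .two 13 2 23 1, .two 2 4 3 5,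
  .two 3889 1 3889 0, .syl 389 1, .two 3 1 1297 1, .syl 139 1, .two 17 1 229 1, .syl 59 1, .syl 41 1, .two 2 3 487 1,
  .two 3 2 433 1, .two 2 1 1949 1, .two 7 1 557 1, .one 13, .two 47 1 83 1, .two 2 1 1951 1, .two 3 1 1301 1, .two 2 6 61 1,
  .syl 71 1, .syl 7 1, .two 3907 1 3907 0, .two 2 2 977 1, .two 3 1 1303 1, .syl 23 1, .two 3911 1 3911 0, .syl 163 1,
  .syl 43 1, .syl 103 1, .syl 29 1, .syl 89 1, .two 3917 1 3917 0, .syl 653 1, .two 3919 1 3919 0, .syl 7 2,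
  .two 3 1 1307 1, .syl 53 1, .two 3923 1 3923 0, .syl 109 1, .two 5 2 157 1, .syl 151 1, .syl 17 1, .two 2 3 491 1,
  .two 3929 1 3929 0, .syl 131 1, .two 3931 1 3931 0, .two 2 2 983 1, .syl 23 1, .syl 281 1, .two 5 1 787 1, .syl 41 1,
  .two 31 1 127 1, .syl 179 1, .syl 101 1, .syl 197 1, .two 7 1 563 1, .syl 73 1, .two 3943 1 3943 0, .syl 29 1,
  .syl 263 1, .two 2 1 1973 1, .two 3947 1 3947 0, .syl 47 1, .two 11 1 359 1, .syl 79 1, .two 3 2 439 1, .syl 19 1,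
  .two 59 1 67 1, .syl 659 1, .syl 113 1, .syl 43 1, .two 3 1 1319 1, .two 2 1 1979 1, .two 37 1 107 1, .skip,
  .two 17 1 233 1, .syl 283 1, .two 3 1 1321 1, .two 2 2 991 1, .syl 61 1, .syl 661 1, .two 3967 1 3967 0, .two 2 7 31 1,
  .two 3 4 7 2, .syl 397 1, .two 11 1 19 2, .syl 331 1, .two 29 1 137 1, .two 2 1 1987 1, .syl 53 1, .syl 71 1,
  .two 41 1 97 1, .syl 13 1, .two 23 1 173 1, .syl 199 1, .two 3 1 1327 1, .syl 181 1, .two 7 1 569 1, .syl 83 1,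
  .two 5 1 797 1, .two 2 1 1993 1, .two 3 2 443 1, .two 2 2 997 1, .two 3989 1 3989 0, .one 19, .two 13 1 307 1, .two 2 3 499 1,
  .two 3 1 11 3, .two 2 1 1997 1, .syl 47 1, .syl 37 1, .two 7 1 571 1, .two 2 1 1999 1, .syl 43 1, .two 2 5 5 3,
  .two 4001 1 4001 0, .syl 29 1, .two 4003 1 4003 0, .one 13, .syl 89 1, .two 2 1 2003 1, .two 4007 1 4007 0, .syl 167 1,
  .two 19 1 211 1, .syl 401 1, .syl 191 1, .syl 59 1, .two 4013 1 4013 0, .syl 223 1, .syl 73 1, .two 2 4 251 1,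
  .syl 103 1, .syl 41 1, .two 4019 1 4019 0, .syl 67 1, .two 4021 1 4021 0, .two 2 1 2011 1, .two 3 3 149 1, .two 2 3 503 1,
  .syl 23 1, .syl 61 1, .two 4027 1 4027 0, .syl 53 1, .syl 79 1, .syl 31 1, .two 29 1 139 1, .skip,
  .two 37 1 109 1, .two 2 1 2017 1, .syl 269 1, .two 2 2 1009 1, .two 11 1 367 1, .syl 673 1, .two 7 1 577 1, .syl 101 1,
  .two 3 2 449 1, .syl 47 1, .two 13 1 311 1, .syl 337 1, .two 5 1 809 1, .syl 17 2, .syl 71 1, .syl 23 1,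
  .two 4049 1 4049 0, .one 2, .two 4051 1 4051 0, .two 2 2 1013 1, .syl 193 1, .two 2 1 2027 1, .two 5 1 811 1, .syl 13 2,
  .two 4057 1 4057 0, .two 2 1 2029 1, .syl 41 1, .syl 29 1, .two 31 1 131 1, .syl 677 1, .two 17 1 239 1, .two 2 5 127 1,
  .syl 271 1, .syl 107 1, .two 7 2 83 1, .syl 113 1, .two 13 1 313 1, .syl 37 1, .syl 59 1, .two 2 3 509 1]

set_option maxRecDepth 100000 in
theorem len1 : certs1.length = 216 := by decide +kernel

set_option maxRecDepth 100000 in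
theorem chunk1 : checkAll 3857 certs1 = true := by decide +kernel

def certs2 : List Cert := [
  .two 4073 1 4073 0, .syl 97 1, .two 5 2 163 1, .two 2 2 1019 1, .two 3 3 151 1, .two 2 1 2039 1, .two 4079 1 4079 0, .skip,
  .syl 53 1, .syl 157 1, .two 3 1 1361 1, .two 2 2 1021 1, .syl 43 1, .syl 227 1, .two 61 1 67 1, .syl 73 1,
  .syl 47 1, .syl 409 1, .two 4091 1 4091 0, .syl 31 1, .two 4093 1 4093 0, .syl 89 1, .one 7, .two 2 12 2 0,
  .two 17 1 241 1, .syl 683 1, .two 4099 1 4099 0, .syl 41 1, .two 3 1 1367 1, .syl 293 1, .two 11 1 373 1, .syl 19 1,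
  .two 5 1 821 1, .two 2 1 2053 1, .two 3 1 37 2, .syl 79 1, .two 7 1 587 1, .syl 137 1, .two 4111 1 4111 0, .two 2 4 257 1,
  .two 3 2 457 1, .syl 17 1, .two 5 1 823 1, .syl 7 3, .two 23 1 179 1, .syl 71 1, .two 3 1 1373 1, .syl 103 1,
  .two 13 1 317 1, .syl 229 1, .syl 31 1, .two 2 2 1031 1, .syl 5 3, .two 2 1 2063 1, .two 4127 1 4127 0, .syl 43 1,
  .two 4129 1 4129 0, .syl 59 1, .two 3 5 17 1, .two 2 2 1033 1, .two 4133 1 4133 0, .syl 53 1, .two 5 1 827 1, .syl 47 1,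
  .syl 197 1, .two 2 1 2069 1, .two 4139 1 4139 0, .syl 23 1, .two 41 1 101 1, .syl 109 1, .two 3 1 1381 1, .one 37,
  .two 5 1 829 1, .syl 691 1, .syl 29 1, .syl 61 1, .two 3 2 461 1, .syl 83 1, .two 7 1 593 1, .syl 173 1,
  .two 4153 1 4153 0, .syl 67 1, .syl 277 1, .two 2 2 1039 1, .two 4157 1 4157 0, .syl 11 1, .two 4159 1 4159 0, .one 13,
  .syl 73 1, .two 2 1 2081 1, .two 23 1 181 1, .syl 347 1, .syl 7 2, .two 2 1 2083 1, .two 3 2 463 1, .two 2 3 521 1,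
  .two 11 1 379 1, .syl 139 1, .two 43 1 97 1, .syl 149 1, .syl 107 1, .two 2 1 2087 1, .two 5 2 167 1, .syl 29 1,
  .two 4177 1 4177 0, .two 2 1 2089 1, .syl 199 1, .syl 11 1, .two 37 1 113 1, .syl 41 1, .two 47 1 89 1, .two 2 3 523 1,
  .syl 31 1, .syl 23 1, .two 53 1 79 1, .syl 349 1, .two 59 1 71 1, .syl 419 1, .syl 127 1, .two 2 5 131 1,
  .two 7 1 599 1, .syl 233 1, .two 5 1 839 1, .two 2 2 1049 1, .two 3 1 1399 1, .two 2 1 2099 1, .syl 19 1, .skip,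
  .two 4201 1 4201 0, .syl 191 1, .two 3 2 467 1, .two 2 2 1051 1, .two 5 1 29 2, .syl 701 1, .two 7 1 601 1, .two 2 4 263 1,
  .syl 61 1, .syl 421 1, .two 4211 1 4211 0, .skip, .two 11 1 383 1, .syl 43 1, .syl 281 1, .syl 31 1,
  .two 4217 1 4217 0, .syl 19 1, .two 4219 1 4219 0, .syl 211 1, .syl 67 1, .two 2 1 2111 1, .two 41 1 103 1, .one 11,
  .two 5 2 13 2, .two 2 1 2113 1, .two 3 1 1409 1, .syl 151 1, .two 4229 1 4229 0, .syl 47 1, .two 4231 1 4231 0, .two 2 3 23 2,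
  .syl 83 1, .syl 73 1, .syl 11 2, .syl 353 1, .two 19 1 223 1, .syl 163 1, .two 3 3 157 1, .syl 53 1,
  .two 4241 1 4241 0, .syl 101 1, .two 4243 1 4243 0, .two 2 2 1061 1, .syl 283 1, .syl 193 1, .two 31 1 137 1, .syl 59 1,
  .two 7 1 607 1, .syl 17 1, .syl 109 1, .two 2 2 1063 1, .two 4253 1 4253 0, .syl 709 1, .syl 37 1, .syl 19 1,
  .syl 43 1, .two 2 1 2129 1, .two 4259 1 4259 0, .syl 71 1, .two 4261 1 4261 0, .two 2 1 2131 1, .syl 29 1, .syl 41 1,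
  .two 5 1 853 1, .syl 79 1, .two 17 1 251 1, .syl 97 1, .two 3 1 1423 1, .syl 61 1, .two 4271 1 4271 0, .syl 89 1,
  .two 4273 1 4273 0, .two 2 1 2137 1, .syl 19 1, .two 2 2 1069 1, .syl 47 1, .syl 31 1, .two 11 1 389 1, .syl 107 1,
  .two 3 1 1427 1, .two 2 1 2141 1, .two 4283 1 4283 0, .one 17, .two 5 1 857 1, .two 2 1 2143 1, .two 3 1 1429 1, .two 2 6 67 1]

set_option maxRecDepth 100000 in
theorem len2 : certs2.length = 216 := by decide +kernel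

set_option maxRecDepth 100000 in
theorem chunk2 : checkAll 4073 certs2 = true := by decide +kernel

def certs3 : List Cert := [
  .two 4289 1 4289 0, .one 13, .two 7 1 613 1, .syl 37 1, .two 3 4 53 1, .syl 113 1, .two 5 1 859 1, .syl 179 1,
  .two 4297 1 4297 0, .syl 307 1, .two 3 1 1433 1, .syl 43 1, .syl 23 1, .syl 239 1, .two 13 1 331 1, .two 2 4 269 1,
  .syl 41 1, .two 2 1 2153 1, .two 59 1 73 1, .syl 359 1, .two 31 1 139 1, .syl 431 1, .two 3 2 479 1, .syl 7 2,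
  .two 19 1 227 1, .syl 719 1, .two 5 1 863 1, .syl 83 1, .two 3 1 1439 1, .syl 127 1, .two 7 1 617 1, .skip,
  .two 29 1 149 1, .two 2 1 2161 1, .syl 131 1, .syl 47 1, .two 5 2 173 1, .syl 103 1, .two 4327 1 4327 0, .two 2 3 541 1,
  .syl 37 1, .syl 433 1, .two 61 1 71 1, .syl 19 2, .two 7 1 619 1, .syl 197 1, .syl 17 2, .two 2 4 271 1,
  .two 4337 1 4337 0, .syl 241 1, .two 4339 1 4339 0, .syl 31 1, .two 3 1 1447 1, .syl 167 1, .two 43 1 101 1, .syl 181 1,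
  .syl 79 1, .syl 53 1, .syl 23 1, .two 2 2 1087 1, .two 4349 1 4349 0, .syl 5 2, .two 19 1 229 1, .two 2 8 17 1,
  .two 3 1 1451 1, .syl 311 1, .syl 67 1, .syl 11 2, .two 4357 1 4357 0, .two 2 1 2179 1, .two 3 1 1453 1, .syl 109 1,
  .two 7 2 89 1, .syl 727 1, .two 4363 1 4363 0, .two 2 2 1091 1, .syl 97 1, .syl 59 1, .two 11 1 397 1, .one 13,
  .two 17 1 257 1, .syl 23 1, .syl 47 1, .two 2 2 1093 1, .two 4373 1 4373 0, .two 2 1 3 7, .two 5 4 7 1, .two 2 3 547 1,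
  .two 3 1 1459 1, .syl 199 1, .two 29 1 151 1, .syl 73 1, .two 13 1 337 1, .syl 313 1, .two 3 2 487 1, .two 2 5 137 1,
  .two 5 1 877 1, .syl 43 1, .two 41 1 107 1, .two 2 2 1097 1, .one 11, .syl 439 1, .two 4391 1 4391 0, .syl 61 1,
  .two 23 1 191 1, .two 2 1 13 3, .syl 293 1, .syl 157 1, .two 4397 1 4397 0, .syl 733 1, .two 53 1 83 1, .oneF 11 2 4 5 2,
  .two 3 3 163 1, .syl 71 1, .syl 37 1, .syl 367 1, .two 5 1 881 1, .two 2 1 2203 1, .syl 113 1, .syl 29 1,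
  .two 4409 1 4409 0, .syl 7 2, .two 11 1 401 1, .two 2 2 1103 1, .two 3 1 1471 1, .two 2 1 2207 1, .two 5 1 883 1, .one 23,
  .two 7 1 631 1, .two 2 1 47 2, .two 3 2 491 1, .one 17, .two 4421 1 4421 0, .syl 67 1, .two 4423 1 4423 0, .syl 79 1,
  .syl 59 1, .two 2 1 2213 1, .two 19 1 233 1, .syl 41 1, .two 43 1 103 1, .syl 443 1, .syl 211 1, .two 2 4 277 1,
  .syl 31 1, .syl 739 1, .two 5 1 887 1, .two 2 2 1109 1, .syl 29 1, .syl 317 1, .two 23 1 193 1, .syl 37 1,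
  .two 4441 1 4441 0, .two 2 1 2221 1, .two 3 1 1481 1, .syl 101 1, .syl 127 1, .syl 13 1, .two 4447 1 4447 0, .two 2 5 139 1,
  .two 3 1 1483 1, .syl 89 1, .two 4451 1 4451 0, .syl 53 1, .two 61 1 73 1, .syl 131 1, .one 11, .two 2 3 557 1,
  .two 4457 1 4457 0, .syl 743 1, .two 7 3 13 1, .syl 223 1, .two 3 1 1487 1, .syl 97 1, .two 4463 1 4463 0, .syl 31 1,
  .syl 19 1, .syl 29 1, .two 3 1 1489 1, .two 2 2 1117 1, .two 41 1 109 1, .syl 149 1, .two 17 1 263 1, .syl 43 1,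
  .syl 71 1, .two 2 1 2237 1, .two 5 2 179 1, .syl 373 1, .two 11 2 37 1, .two 2 1 2239 1, .two 3 1 1493 1, .syl 2 7,
  .two 4481 1 4481 0, .syl 83 1, .two 4483 1 4483 0, .syl 59 1, .syl 23 1, .two 2 1 2243 1, .two 7 1 641 1, .syl 17 1,
  .two 67 2 67 0, .syl 449 1, .two 3 2 499 1, .two 2 2 1123 1, .two 4493 1 4493 0, .syl 107 1, .syl 31 1, .two 2 4 281 1,
  .two 3 1 1499 1, .syl 173 1, .two 11 1 409 1, .syl 5 3, .two 7 1 643 1, .two 2 1 2251 1, .syl 79 1, .two 2 3 563 1]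

set_option maxRecDepth 100000 in
theorem len3 : certs3.length = 216 := by decide +kernel

set_option maxRecDepth 100000 in
theorem chunk3 : checkAll 4289 certs3 = true := by decide +kernel

def certs4 : List Cert := [
  .syl 53 1, .syl 751 1, .two 4507 1 4507 0, .syl 23 1, .two 3 3 167 1, .syl 41 1, .two 13 1 347 1, .one 47,
  .two 4513 1 4513 0, .syl 61 1, .syl 43 1, .two 2 2 1129 1, .two 4517 1 4517 0, .syl 251 1, .two 4519 1 4519 0, .syl 113 1,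
  .syl 137 1, .syl 19 1, .two 4523 1 4523 0, .syl 29 1, .two 5 2 181 1, .syl 73 1, .two 3 2 503 1, .two 2 4 283 1,
  .two 7 1 647 1, .syl 151 1, .two 23 1 197 1, .syl 103 1, .two 3 1 1511 1, .two 2 1 2267 1, .two 5 1 907 1, .oneF 7 2 3 3 4,
  .two 13 1 349 1, .two 2 1 2269 1, .syl 89 1, .syl 227 1, .two 19 1 239 1, .syl 757 1, .syl 59 1, .two 2 6 71 1,
  .syl 101 1, .two 2 1 2273 1, .two 4547 1 4547 0, .syl 379 1, .two 4549 1 4549 0, .one 13, .syl 41 1, .two 2 3 569 1,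
  .two 29 1 157 1, .syl 23 1, .two 5 1 911 1, .syl 17 1, .syl 31 1, .syl 53 1, .two 47 1 97 1, .one 19,
  .two 4561 1 4561 0, .two 2 1 2281 1, .two 3 3 13 2, .syl 163 1, .syl 83 1, .syl 761 1, .two 4567 1 4567 0, .two 2 3 571 1,
  .two 3 1 1523 1, .syl 457 1, .two 7 1 653 1, .syl 127 1, .two 17 1 269 1, .two 2 1 2287 1, .syl 61 1, .syl 11 1,
  .two 23 1 199 1, .syl 109 1, .two 19 1 241 1, .syl 229 1, .two 3 2 509 1, .syl 79 1, .two 4583 1 4583 0, .syl 191 1,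
  .syl 131 1, .two 2 1 2293 1, .syl 139 1, .syl 37 1, .two 13 1 353 1, .one 17, .two 4591 1 4591 0, .syl 41 1,
  .two 3 1 1531 1, .two 2 1 2297 1, .two 5 1 919 1, .syl 383 1, .two 4597 1 4597 0, .syl 19 1, .syl 73 1, .syl 23 1,
  .two 43 1 107 1, .syl 59 1, .two 4603 1 4603 0, .two 2 2 1151 1, .syl 307 1, .syl 47 1, .two 17 1 271 1, .two 2 9 3 2,
  .two 11 1 419 1, .syl 461 1, .syl 53 1, .two 2 2 1153 1, .two 7 1 659 1, .syl 769 1, .syl 71 1, .two 2 3 577 1,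
  .two 3 5 19 1, .two 2 1 2309 1, .two 31 1 149 1, .skip, .two 4621 1 4621 0, .two 2 1 2311 1, .syl 67 1, .two 2 4 17 2,
  .two 5 3 37 1, .syl 257 1, .two 7 1 661 1, .syl 89 1, .two 3 1 1543 1, .syl 463 1, .two 11 1 421 1, .syl 193 1,
  .two 41 1 113 1, .syl 331 1, .syl 103 1, .syl 61 1, .two 4637 1 4637 0, .syl 773 1, .two 4639 1 4639 0, .syl 29 1,
  .syl 13 1, .syl 211 1, .two 4643 1 4643 0, .syl 43 1, .two 5 1 929 1, .syl 101 1, .two 3 1 1549 1, .syl 83 1,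
  .two 4649 1 4649 0, .syl 31 1, .two 4651 1 4651 0, .two 2 2 1163 1, .syl 47 1, .syl 179 1, .syl 19 1, .syl 97 1,
  .two 4657 1 4657 0, .syl 137 1, .two 3 1 1553 1, .syl 233 1, .two 59 1 79 1, .syl 37 1, .two 4663 1 4663 0, .syl 53 1,
  .syl 311 1, .two 2 1 2333 1, .two 13 1 359 1, .syl 389 1, .syl 29 1, .syl 467 1, .two 3 3 173 1, .two 2 6 73 1,
  .two 4673 1 4673 0, .syl 41 1, .syl 17 1, .syl 167 1, .two 3 1 1559 1, .two 2 1 2339 1, .two 4679 1 4679 0, .skip,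
  .two 31 1 151 1, .two 2 1 2341 1, .syl 223 1, .two 2 2 1171 1, .two 5 1 937 1, .syl 71 1, .two 43 1 109 1, .two 2 4 293 1,
  .two 3 2 521 1, .syl 67 1, .two 4691 1 4691 0, .syl 23 1, .two 13 1 19 2, .two 2 1 2347 1, .syl 313 1, .two 2 3 587 1,
  .syl 61 1, .syl 29 1, .two 37 1 127 1, .syl 47 1, .two 3 1 1567 1, .two 2 1 2351 1, .two 4703 1 4703 0, .syl 7 2,
  .two 5 1 941 1, .syl 181 1, .two 3 2 523 1, .syl 107 1, .two 17 1 277 1, .syl 157 1, .two 7 1 673 1, .syl 31 1,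
  .two 3 1 1571 1, .two 2 1 2357 1, .syl 41 1, .syl 131 1, .two 53 1 89 1, .syl 337 1, .syl 13 1, .syl 59 1]

set_option maxRecDepth 100000 in
theorem len4 : certs4.length = 216 := by decide +kernel

set_option maxRecDepth 100000 in
theorem chunk4 : checkAll 4505 certs4 = true := by decide +kernel

def certs5 : List Cert := [
  .two 4721 1 4721 0, .syl 787 1, .two 4723 1 4723 0, .two 2 2 1181 1, .syl 5 2, .syl 139 1, .two 29 1 163 1, .syl 197 1,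
  .two 4729 1 4729 0, .syl 43 1, .syl 83 1, .syl 13 2, .two 4733 1 4733 0, .syl 263 1, .two 5 1 947 1, .two 2 7 37 1,
  .two 3 1 1579 1, .syl 103 1, .two 7 1 677 1, .syl 79 1, .two 11 1 431 1, .two 2 1 2371 1, .syl 31 1, .two 2 3 593 1,
  .syl 73 1, .syl 113 1, .two 47 1 101 1, .two 2 2 1187 1, .two 3 1 1583 1, .syl 19 1, .two 4751 1 4751 0, .one 11,
  .two 7 2 97 1, .two 2 1 2377 1, .syl 317 1, .syl 41 1, .two 67 1 71 1, .syl 61 1, .two 4759 1 4759 0, .skip,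
  .two 3 2 23 2, .two 2 1 2381 1, .two 11 1 433 1, .syl 397 1, .two 5 1 953 1, .two 2 1 2383 1, .syl 227 1, .two 2 5 149 1,
  .two 19 1 251 1, .syl 53 1, .two 13 1 367 1, .two 2 2 1193 1, .syl 43 1, .syl 31 1, .two 5 2 191 1, .syl 199 1,
  .two 17 1 281 1, .two 2 1 2389 1, .two 3 4 59 1, .syl 239 1, .two 7 1 683 1, .syl 797 1, .two 4783 1 4783 0, .one 23,
  .syl 29 1, .two 2 1 2393 1, .two 4787 1 4787 0, .syl 19 1, .two 4789 1 4789 0, .syl 479 1, .two 3 1 1597 1, .two 2 3 599 1,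
  .two 4793 1 4793 0, .syl 47 1, .syl 137 1, .syl 109 1, .syl 41 1, .two 2 1 2399 1, .two 4799 1 4799 0, .oneF 3 2 6 5 2,
  .two 4801 1 4801 0, .two 2 1 7 4, .two 3 1 1601 1, .two 2 2 1201 1, .two 5 1 31 2, .syl 89 1, .syl 23 1, .two 2 3 601 1,
  .syl 229 1, .syl 37 1, .two 17 1 283 1, .syl 401 1, .two 4813 1 4813 0, .syl 83 1, .syl 107 1, .syl 43 1,
  .two 4817 1 4817 0, .syl 73 1, .two 61 1 79 1, .syl 241 1, .two 3 1 1607 1, .two 2 1 2411 1, .syl 53 1, .syl 67 1,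
  .two 5 2 193 1, .syl 127 1, .two 3 1 1609 1, .syl 71 1, .two 11 1 439 1, .syl 7 1, .two 4831 1 4831 0, .two 2 5 151 1,
  .two 3 3 179 1, .two 2 1 2417 1, .two 5 1 967 1, .syl 13 1, .two 7 1 691 1, .syl 59 1, .two 3 1 1613 1, .syl 11 2,
  .two 47 1 103 1, .syl 269 1, .two 29 1 167 1, .syl 173 1, .syl 19 1, .two 2 1 2423 1, .two 37 1 131 1, .syl 101 1,
  .two 13 1 373 1, .syl 97 1, .one 11, .two 2 2 1213 1, .two 23 1 211 1, .syl 809 1, .two 5 1 971 1, .two 2 3 607 1,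
  .two 3 1 1619 1, .syl 347 1, .two 43 1 113 1, .syl 3 5, .two 4861 1 4861 0, .syl 17 1, .two 3 1 1621 1, .two 2 8 19 1,
  .syl 139 1, .syl 811 1, .two 31 1 157 1, .two 2 2 1217 1, .two 3 2 541 1, .syl 487 1, .two 4871 1 4871 0, .syl 29 1,
  .two 11 1 443 1, .two 2 1 2437 1, .syl 13 1, .syl 53 1, .two 4877 1 4877 0, .syl 271 1, .syl 41 1, .syl 61 1,
  .two 3 1 1627 1, .two 2 1 2441 1, .two 19 1 257 1, .syl 37 1, .two 5 1 977 1, .syl 349 1, .two 3 3 181 1, .syl 47 1,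
  .two 4889 1 4889 0, .syl 163 1, .two 67 1 73 1, .two 2 2 1223 1, .syl 233 1, .two 2 1 2447 1, .syl 89 1, .skip,
  .two 59 1 83 1, .syl 79 1, .syl 71 1, .syl 5 2, .two 13 2 29 1, .syl 43 1, .two 4903 1 4903 0, .two 2 3 613 1,
  .syl 109 1, .syl 223 1, .two 7 1 701 1, .syl 409 1, .two 4909 1 4909 0, .syl 491 1, .two 3 1 1637 1, .two 2 4 307 1,
  .two 17 3 17 0, .one 13, .two 5 1 983 1, .two 2 2 1229 1, .syl 149 1, .two 2 1 2459 1, .two 4919 1 4919 0, .syl 41 1,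
  .syl 37 1, .syl 107 1, .two 3 2 547 1, .two 2 2 1231 1, .two 5 2 197 1, .syl 821 1, .two 13 1 379 1, .oneF 11 2 6 7 1,
  .syl 53 1, .syl 29 1, .two 4931 1 4931 0, .syl 137 1, .two 4933 1 4933 0, .two 2 1 2467 1, .syl 47 1, .two 2 3 617 1]

set_option maxRecDepth 100000 in
theorem len5 : certs5.length = 216 := by decide +kernel

set_option maxRecDepth 100000 in
theorem chunk5 : checkAll 4721 certs5 = true := by decide +kernel

def certs6 : List Cert := [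
  .two 4937 1 4937 0, .syl 823 1, .two 11 1 449 1, .syl 13 1, .two 3 4 61 1, .syl 353 1, .two 4943 1 4943 0, .syl 103 1,
  .syl 43 1, .two 2 1 2473 1, .syl 97 1, .two 2 2 1237 1, .two 7 2 101 1, .one 2, .two 4951 1 4951 0, .two 2 3 619 1,
  .syl 127 1, .two 2 1 2477 1, .two 5 1 991 1, .syl 59 1, .two 4957 1 4957 0, .syl 67 1, .syl 29 1, .skip,
  .two 11 2 41 1, .syl 827 1, .two 7 1 709 1, .syl 73 1, .syl 331 1, .syl 191 1, .two 4967 1 4967 0, .one 23,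
  .two 4969 1 4969 0, .syl 71 1, .two 3 1 1657 1, .syl 113 1, .two 4973 1 4973 0, .syl 829 1, .two 5 2 199 1, .two 2 4 311 1,
  .syl 79 1, .syl 131 1, .two 13 1 383 1, .syl 83 1, .two 17 1 293 1, .syl 53 1, .syl 151 1, .syl 89 1,
  .two 5 1 997 1, .syl 277 1, .two 4987 1 4987 0, .syl 43 1, .two 3 1 1663 1, .syl 499 1, .syl 31 1, .syl 13 1,
  .two 4993 1 4993 0, .syl 227 1, .syl 37 1, .two 2 2 1249 1, .two 19 1 263 1, .syl 17 1, .two 4999 1 4999 0, .two 2 3 5 4,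
  .two 3 1 1667 1, .syl 61 1, .two 5003 1 5003 0, .syl 139 1, .syl 13 1, .two 2 1 2503 1, .two 3 1 1669 1, .two 2 4 313 1,
  .two 5009 1 5009 0, .syl 167 1, .two 5011 1 5011 0, .syl 179 1, .two 3 2 557 1, .syl 109 1, .syl 59 1, .syl 19 1,
  .two 29 1 173 1, .syl 193 1, .syl 239 1, .syl 251 1, .two 5021 1 5021 0, .syl 31 1, .two 5023 1 5023 0, .two 2 5 157 1,
  .syl 67 1, .syl 359 1, .two 11 1 457 1, .syl 419 1, .two 47 1 107 1, .syl 503 1, .syl 43 1, .syl 37 1,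
  .two 7 1 719 1, .syl 839 1, .syl 53 1, .two 2 2 1259 1, .syl 73 1, .syl 229 1, .two 5039 1 5039 0, .skip,
  .two 71 2 71 0, .two 2 1 2521 1, .two 3 1 41 2, .syl 97 1, .two 5 1 1009 1, .syl 29 2, .two 7 2 103 1, .two 2 3 631 1,
  .syl 17 1, .syl 101 1, .two 5051 1 5051 0, .syl 421 1, .two 31 1 163 1, .syl 19 2, .syl 337 1, .two 2 6 79 1,
  .two 13 1 389 1, .syl 281 1, .two 5059 1 5059 0, .syl 23 1, .syl 241 1, .two 2 1 2531 1, .two 61 1 83 1, .syl 211 1,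
  .two 5 1 1013 1, .syl 149 1, .two 3 2 563 1, .syl 181 1, .two 37 1 137 1, .syl 13 2, .two 11 1 461 1, .two 2 4 317 1,
  .syl 89 1, .syl 59 1, .syl 5 2, .syl 47 1, .two 5077 1 5077 0, .two 2 1 2539 1, .two 3 1 1693 1, .syl 127 1,
  .two 5081 1 5081 0, .syl 11 2, .syl 23 1, .syl 31 1, .syl 113 1, .two 2 1 2543 1, .two 5087 1 5087 0, .syl 53 1,
  .two 7 1 727 1, .syl 509 1, .two 3 1 1697 1, .syl 67 1, .two 11 1 463 1, .syl 283 1, .two 5 1 1019 1, .syl 7 2,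
  .two 3 1 1699 1, .two 2 1 2549 1, .two 5099 1 5099 0, .syl 17 1, .two 5101 1 5101 0, .two 2 1 2551 1, .two 3 6 7 1, .one 29,
  .two 5 1 1021 1, .syl 37 1, .two 5107 1 5107 0, .two 2 2 1277 1, .syl 131 1, .syl 73 1, .two 19 1 269 1, .one 71,
  .two 5113 1 5113 0, .two 2 1 2557 1, .syl 31 1, .two 2 2 1279 1, .syl 43 1, .syl 853 1, .two 5119 1 5119 0, .two 2 10 5 1,
  .two 3 2 569 1, .syl 197 1, .two 47 1 109 1, .syl 61 1, .two 5 3 41 1, .syl 233 1, .two 3 1 1709 1, .two 2 3 641 1,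
  .two 23 1 223 1, .syl 19 1, .two 7 1 733 1, .two 2 2 1283 1, .syl 59 1, .syl 151 1, .syl 79 1, .syl 107 1,
  .two 11 1 467 1, .syl 367 1, .two 3 2 571 1, .syl 257 1, .two 53 1 97 1, .syl 857 1, .two 37 1 139 1, .two 2 3 643 1,
  .syl 7 3, .syl 83 1, .two 5147 1 5147 0, .skip, .two 19 1 271 1, .syl 103 1, .syl 101 1, .syl 23 1]

set_option maxRecDepth 100000 in
theorem len6 : certs6.length = 216 := by decide +kernel

set_option maxRecDepth 100000 in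
theorem chunk6 : checkAll 4937 certs6 = true := by decide +kernel

def certs7 : List Cert := [
  .two 5153 1 5153 0, .syl 859 1, .two 5 1 1031 1, .two 2 2 1289 1, .two 3 3 191 1, .two 2 1 2579 1, .syl 67 1, .syl 43 1,
  .two 13 1 397 1, .syl 89 1, .two 3 1 1721 1, .two 2 2 1291 1, .two 5 1 1033 1, .one 41, .two 5167 1 5167 0, .syl 19 1,
  .two 3 1 1723 1, .syl 47 1, .two 5171 1 5171 0, .syl 431 1, .two 7 1 739 1, .syl 199 1, .syl 23 1, .two 2 3 647 1,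
  .two 31 1 167 1, .syl 863 1, .two 5179 1 5179 0, .syl 37 1, .syl 157 1, .two 2 1 2591 1, .two 71 1 73 1, .two 2 6 3 4,
  .syl 61 1, .two 2 1 2593 1, .syl 13 1, .two 2 2 1297 1, .two 5189 1 5189 0, .syl 173 1, .two 29 1 179 1, .syl 59 1,
  .two 3 2 577 1, .syl 53 1, .two 5 1 1039 1, .syl 433 1, .two 5197 1 5197 0, .syl 113 1, .two 3 1 1733 1, .one 13,
  .two 7 1 743 1, .syl 17 2, .two 11 2 43 1, .two 2 2 1301 1, .syl 347 1, .syl 137 1, .two 41 1 127 1, .syl 31 1,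
  .two 5209 1 5209 0, .syl 521 1, .two 3 3 193 1, .two 2 2 1303 1, .two 13 1 401 1, .syl 79 1, .syl 149 1, .two 2 5 163 1,
  .syl 47 1, .two 2 1 2609 1, .two 17 1 307 1, .one 29, .two 23 1 227 1, .syl 373 1, .two 3 1 1741 1, .two 2 3 653 1,
  .syl 19 1, .syl 67 1, .two 5227 1 5227 0, .two 2 2 1307 1, .syl 83 1, .syl 523 1, .two 5231 1 5231 0, .syl 109 1,
  .two 5233 1 5233 0, .two 2 1 2617 1, .syl 349 1, .one 17, .two 5237 1 5237 0, .syl 97 1, .two 13 2 31 1, .syl 131 1,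
  .two 3 1 1747 1, .two 2 1 2621 1, .two 7 2 107 1, .syl 23 1, .two 5 1 1049 1, .syl 61 1, .syl 53 1, .two 2 7 41 1,
  .two 29 1 181 1, .syl 5 3, .two 59 1 89 1, .syl 101 1, .syl 103 1, .syl 71 1, .two 5 1 1051 1, .syl 73 1,
  .two 7 1 751 1, .syl 239 1, .two 3 1 1753 1, .syl 263 1, .two 5261 1 5261 0, .syl 877 1, .two 19 1 277 1, .syl 47 1,
  .syl 3 4, .two 2 1 2633 1, .two 23 1 229 1, .syl 439 1, .two 11 1 479 1, .syl 31 1, .syl 251 1, .two 2 3 659 1,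
  .two 5273 1 5273 0, .syl 293 1, .two 5 2 211 1, .two 2 2 1319 1, .two 3 1 1759 1, .syl 29 1, .two 5279 1 5279 0, .one 11,
  .two 5281 1 5281 0, .syl 139 1, .two 3 2 587 1, .two 2 2 1321 1, .syl 151 1, .syl 881 1, .two 17 1 311 1, .two 2 3 661 1,
  .syl 43 1, .syl 23 2, .syl 37 1, .syl 7 2, .two 67 1 79 1, .two 2 1 2647 1, .syl 353 1, .two 2 4 331 1,
  .two 5297 1 5297 0, .syl 883 1, .two 7 1 757 1, .syl 53 1, .syl 31 1, .syl 241 1, .two 5303 1 5303 0, .syl 13 1,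
  .two 5 1 1061 1, .syl 379 1, .syl 61 1, .two 2 2 1327 1, .two 5309 1 5309 0, .syl 59 1, .two 47 1 113 1, .two 2 6 83 1,
  .one 23, .two 2 1 2657 1, .two 5 1 1063 1, .syl 443 1, .two 13 1 409 1, .two 2 1 2659 1, .two 3 3 197 1, .one 19,
  .two 17 1 313 1, .syl 887 1, .two 5323 1 5323 0, .two 2 2 11 3, .syl 71 1, .two 2 1 2663 1, .two 7 1 761 1, .syl 37 1,
  .two 73 2 73 0, .syl 41 1, .two 3 1 1777 1, .syl 43 1, .two 5333 1 5333 0, .syl 127 1, .syl 97 1, .syl 29 1,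
  .two 3 2 593 1, .syl 157 1, .two 19 1 281 1, .syl 89 1, .two 7 2 109 1, .two 2 1 2671 1, .syl 137 1, .two 2 5 167 1,
  .two 5 1 1069 1, .syl 3 5, .two 5347 1 5347 0, .syl 191 1, .two 3 1 1783 1, .syl 107 1, .two 5351 1 5351 0, .syl 223 1,
  .two 53 1 101 1, .two 2 1 2677 1, .one 17, .syl 103 1, .two 11 1 487 1, .syl 47 1, .two 23 1 233 1, .syl 67 1,
  .two 3 1 1787 1, .syl 383 1, .two 31 1 173 1, .syl 149 1, .syl 37 1, .two 2 1 2683 1, .two 3 1 1789 1, .syl 61 1]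

set_option maxRecDepth 100000 in
theorem len7 : certs7.length = 216 := by decide +kernel

set_option maxRecDepth 100000 in
theorem chunk7 : checkAll 5153 certs7 = true := by decide +kernel

def certs8 : List Cert := [
  .syl 59 1, .syl 179 1, .two 41 1 131 1, .syl 79 1, .two 3 3 199 1, .two 2 1 2687 1, .two 5 3 43 1, .oneF 7 2 8 3 1,
  .two 19 1 283 1, .two 2 1 2689 1, .syl 163 1, .syl 269 1, .two 5381 1 5381 0, .syl 23 1, .two 7 1 769 1, .two 2 3 673 1,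
  .syl 359 1, .two 2 1 2693 1, .two 5387 1 5387 0, .syl 449 1, .two 17 1 317 1, .syl 11 1, .two 3 2 599 1, .two 2 4 337 1,
  .two 5393 1 5393 0, .syl 31 1, .syl 83 1, .syl 71 1, .syl 257 1, .two 2 1 2699 1, .two 5399 1 5399 0, .skip,
  .two 11 1 491 1, .syl 37 1, .two 3 1 1801 1, .syl 193 1, .syl 47 1, .syl 53 1, .two 5407 1 5407 0, .two 2 5 13 2,
  .two 3 2 601 1, .syl 541 1, .two 7 1 773 1, .syl 41 1, .two 5413 1 5413 0, .two 2 1 2707 1, .syl 19 2, .two 2 3 677 1,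
  .two 5417 1 5417 0, .syl 43 1, .two 5419 1 5419 0, .syl 271 1, .syl 139 1, .two 2 1 2711 1, .syl 29 1, .syl 113 1,
  .syl 31 1, .two 2 1 2713 1, .two 3 4 67 1, .syl 59 1, .two 61 1 89 1, .syl 181 1, .two 5431 1 5431 0, .syl 97 1,
  .two 3 1 1811 1, .syl 11 1, .two 5 1 1087 1, .syl 151 1, .two 5437 1 5437 0, .two 2 1 2719 1, .syl 37 1, .syl 17 1,
  .two 5441 1 5441 0, .syl 907 1, .two 5443 1 5443 0, .two 2 2 1361 1, .syl 11 2, .syl 389 1, .two 13 1 419 1, .syl 227 1,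
  .two 5449 1 5449 0, .syl 109 1, .syl 79 1, .syl 47 1, .syl 41 1, .syl 101 1, .two 5 1 1091 1, .syl 31 1,
  .syl 107 1, .two 2 1 2729 1, .two 53 1 103 1, .skip, .two 43 1 127 1, .two 2 1 2731 1, .two 3 2 607 1, .two 2 3 683 1,
  .two 5 1 1093 1, .syl 911 1, .syl 71 1, .two 2 2 1367 1, .two 3 1 1823 1, .syl 547 1, .two 5471 1 5471 0, .skip,
  .two 13 1 421 1, .syl 23 1, .syl 73 1, .two 2 2 37 2, .two 5477 1 5477 0, .syl 83 1, .two 5479 1 5479 0, .syl 137 1,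
  .syl 29 1, .two 2 1 2741 1, .two 5483 1 5483 0, .syl 457 1, .two 5 1 1097 1, .syl 211 1, .syl 59 1, .two 2 4 7 3,
  .two 11 1 499 1, .syl 61 1, .two 17 2 19 1, .two 2 2 1373 1, .two 3 1 1831 1, .syl 67 1, .syl 157 1, .syl 229 1,
  .two 23 1 239 1, .two 2 1 2749 1, .syl 47 1, .syl 5 3, .two 5501 1 5501 0, .syl 131 1, .two 5503 1 5503 0, .two 2 7 43 1,
  .syl 367 1, .two 2 1 2753 1, .two 5507 1 5507 0, .one 17, .two 7 1 787 1, .syl 29 1, .syl 167 1, .syl 53 1,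
  .two 37 1 149 1, .syl 919 1, .two 5 1 1103 1, .syl 197 1, .two 3 2 613 1, .syl 89 1, .two 5519 1 5519 0, .one 23,
  .two 5521 1 5521 0, .syl 251 1, .syl 263 1, .two 2 2 1381 1, .syl 17 1, .syl 307 1, .two 5527 1 5527 0, .two 2 3 691 1,
  .syl 97 1, .syl 79 1, .two 5531 1 5531 0, .syl 461 1, .two 11 1 503 1, .two 2 1 2767 1, .syl 41 1, .two 2 5 173 1,
  .two 7 2 113 1, .syl 71 1, .two 29 1 191 1, .syl 277 1, .two 3 1 1847 1, .syl 163 1, .two 23 1 241 1, .one 11,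
  .two 5 1 1109 1, .syl 59 1, .two 3 1 43 2, .syl 73 1, .two 31 1 179 1, .one 37, .syl 61 1, .two 2 4 347 1,
  .two 3 2 617 1, .two 2 1 2777 1, .syl 101 1, .syl 463 1, .two 5557 1 5557 0, .syl 397 1, .syl 109 1, .syl 139 1,
  .two 67 1 83 1, .syl 103 1, .two 5563 1 5563 0, .syl 107 1, .syl 53 1, .syl 23 1, .two 19 1 293 1, .syl 29 1,
  .two 5569 1 5569 0, .syl 557 1, .two 3 2 619 1, .syl 199 1, .two 5573 1 5573 0, .syl 929 1, .two 5 2 223 1, .syl 41 1,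
  .syl 13 2, .two 2 1 2789 1, .two 7 1 797 1, .syl 31 1, .two 5581 1 5581 0, .two 2 1 2791 1, .two 3 1 1861 1, .two 2 4 349 1]

set_option maxRecDepth 100000 in
theorem len8 : certs8.length = 216 := by decide +kernel

set_option maxRecDepth 100000 in
theorem chunk8 : checkAll 5369 certs8 = true := by decide +kernel

def certs9 : List Cert := [
  .two 5 1 1117 1, .syl 19 1, .two 37 1 151 1, .syl 127 1, .two 3 5 23 1, .one 43, .two 5591 1 5591 0, .syl 233 1,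
  .syl 47 1, .two 2 1 2797 1, .syl 373 1, .two 2 2 1399 1, .two 29 1 193 1, .syl 311 1, .two 11 1 509 1, .oneF 7 2 5 5 2,
  .two 3 1 1867 1, .two 2 1 2801 1, .two 13 1 431 1, .syl 467 1, .syl 59 1, .two 2 1 2803 1, .syl 89 1, .two 2 3 701 1,
  .two 71 1 79 1, .syl 17 1, .two 31 1 181 1, .syl 61 1, .two 3 1 1871 1, .syl 401 1, .two 5 1 1123 1, .skip,
  .two 41 1 137 1, .two 2 1 53 2, .two 3 1 1873 1, .syl 281 1, .syl 73 1, .syl 937 1, .two 5623 1 5623 0, .syl 19 1,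
  .two 3 2 5 4, .syl 97 1, .two 17 1 331 1, .syl 67 1, .two 13 1 433 1, .syl 563 1, .two 3 1 1877 1, .two 2 9 11 1,
  .two 43 1 131 1, .syl 313 1, .syl 23 1, .two 2 2 1409 1, .two 3 1 1879 1, .two 2 1 2819 1, .two 5639 1 5639 0, .syl 47 1,
  .two 5641 1 5641 0, .syl 31 1, .syl 19 1, .syl 83 1, .two 5 1 1129 1, .syl 941 1, .two 5647 1 5647 0, .two 2 4 353 1,
  .syl 269 1, .syl 113 1, .two 5651 1 5651 0, .syl 157 1, .two 5653 1 5653 0, .syl 257 1, .syl 29 1, .syl 101 1,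
  .two 5657 1 5657 0, .syl 41 1, .two 5659 1 5659 0, .syl 283 1, .syl 37 1, .syl 149 1, .two 7 1 809 1, .syl 59 1,
  .syl 103 1, .two 2 1 2833 1, .two 3 1 1889 1, .syl 109 1, .two 5669 1 5669 0, .one 7, .two 53 1 107 1, .two 2 3 709 1,
  .syl 61 1, .two 2 1 2837 1, .two 5 2 227 1, .syl 11 1, .two 7 1 811 1, .syl 167 1, .two 3 2 631 1, .syl 71 1,
  .syl 23 1, .syl 947 1, .two 5683 1 5683 0, .syl 29 1, .syl 379 1, .two 2 1 2843 1, .two 11 2 47 1, .syl 79 1,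
  .two 5689 1 5689 0, .syl 569 1, .syl 271 1, .two 2 2 1423 1, .two 5693 1 5693 0, .syl 73 1, .syl 67 1, .two 2 6 89 1,
  .two 3 3 211 1, .syl 37 1, .two 41 1 139 1, .one 19, .two 5701 1 5701 0, .two 2 1 2851 1, .two 3 1 1901 1, .syl 31 1,
  .syl 163 1, .syl 317 1, .two 13 1 439 1, .two 2 2 1427 1, .syl 173 1, .syl 571 1, .two 5711 1 5711 0, .syl 17 1,
  .two 29 1 197 1, .two 2 1 2857 1, .syl 127 1, .two 2 2 1429 1, .two 5717 1 5717 0, .syl 953 1, .syl 43 1, .syl 11 1,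
  .two 3 1 1907 1, .two 2 1 2861 1, .two 59 1 97 1, .one 53, .two 5 2 229 1, .syl 409 1, .syl 83 1, .two 2 5 179 1,
  .two 17 1 337 1, .syl 191 1, .two 11 1 521 1, .two 2 2 1433 1, .syl 13 1, .syl 61 1, .syl 37 1, .syl 239 1,
  .two 5737 1 5737 0, .syl 151 1, .two 3 1 1913 1, .syl 41 1, .two 5741 1 5741 0, .syl 29 1, .two 5743 1 5743 0, .two 2 4 359 1,
  .syl 383 1, .syl 17 1, .two 7 1 821 1, .syl 479 1, .two 5749 1 5749 0, .syl 23 1, .two 3 4 71 1, .two 2 3 719 1,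
  .two 11 1 523 1, .syl 137 1, .two 5 1 1151 1, .two 2 2 1439 1, .syl 101 1, .two 2 1 2879 1, .two 13 1 443 1, .skip,
  .two 7 1 823 1, .syl 67 1, .syl 113 1, .syl 131 1, .two 5 1 1153 1, .syl 31 2, .two 73 1 79 1, .syl 103 1,
  .two 3 2 641 1, .syl 577 1, .two 29 1 199 1, .syl 37 1, .two 23 1 251 1, .two 2 1 2887 1, .syl 11 1, .two 2 4 19 2,
  .two 53 1 109 1, .syl 107 1, .two 5779 1 5779 0, .syl 17 2, .syl 47 1, .syl 59 1, .two 5783 1 5783 0, .syl 241 1,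
  .syl 89 1, .syl 263 1, .two 3 2 643 1, .two 2 2 1447 1, .two 7 1 827 1, .syl 193 1, .two 5791 1 5791 0, .two 2 5 181 1,
  .two 3 1 1931 1, .two 2 1 2897 1, .syl 61 1, .syl 23 1, .syl 11 1, .syl 223 1, .two 3 1 1933 1, .syl 29 1]

set_option maxRecDepth 100000 in
theorem len9 : certs9.length = 216 := by decide +kernel

set_option maxRecDepth 100000 in
theorem chunk9 : checkAll 5585 certs9 = true := by decide +kernel

def certs10 : List Cert := [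
  .two 5801 1 5801 0, .syl 967 1, .two 7 1 829 1, .two 2 2 1451 1, .syl 43 1, .two 2 1 2903 1, .two 5807 1 5807 0, .syl 11 2,
  .two 37 1 157 1, .syl 83 1, .syl 149 1, .two 2 2 1453 1, .two 5813 1 5813 0, .one 2, .two 5 1 1163 1, .two 2 3 727 1,
  .syl 277 1, .two 2 1 2909 1, .two 11 1 23 2, .syl 97 1, .two 5821 1 5821 0, .syl 71 1, .two 3 2 647 1, .one 13,
  .two 5 2 233 1, .syl 971 1, .two 5827 1 5827 0, .syl 47 1, .syl 67 1, .syl 53 1, .two 7 3 17 1, .two 2 3 3 6,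
  .two 19 1 307 1, .two 2 1 2917 1, .syl 389 1, .two 2 2 1459 1, .two 13 1 449 1, .syl 139 1, .two 5839 1 5839 0, .syl 73 1,
  .syl 59 1, .syl 127 1, .two 5843 1 5843 0, .syl 487 1, .syl 167 1, .syl 79 1, .two 3 1 1949 1, .syl 43 1,
  .two 5849 1 5849 0, .syl 13 1, .two 5851 1 5851 0, .one 7, .two 3 1 1951 1, .two 2 1 2927 1, .two 5 1 1171 1, .syl 61 1,
  .two 5857 1 5857 0, .syl 101 1, .syl 7 1, .syl 293 1, .two 5861 1 5861 0, .syl 977 1, .syl 41 1, .two 2 3 733 1,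
  .syl 23 1, .syl 419 1, .two 5867 1 5867 0, .syl 163 1, .two 5869 1 5869 0, .syl 587 1, .syl 103 1, .two 2 4 367 1,
  .two 7 1 839 1, .syl 89 1, .two 5 3 47 1, .syl 113 1, .two 3 2 653 1, .two 2 1 2939 1, .two 5879 1 5879 0, .skip,
  .two 5881 1 5881 0, .syl 173 1, .syl 53 1, .two 2 2 1471 1, .syl 107 1, .syl 109 1, .two 7 1 29 2, .two 2 8 23 1,
  .syl 151 1, .syl 31 1, .two 43 1 137 1, .syl 491 1, .two 71 1 83 1, .syl 421 1, .syl 131 1, .syl 67 1,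
  .two 5897 1 5897 0, .syl 983 1, .two 17 1 347 1, .syl 59 1, .syl 281 1, .syl 227 1, .two 5903 1 5903 0, .syl 41 1,
  .two 5 1 1181 1, .two 2 1 2953 1, .syl 179 1, .syl 211 1, .two 19 1 311 1, .syl 197 1, .two 23 1 257 1, .two 2 3 739 1,
  .two 3 4 73 1, .two 2 1 2957 1, .syl 13 2, .syl 17 1, .two 61 1 97 1, .syl 269 1, .two 3 1 1973 1, .syl 37 1,
  .two 31 1 191 1, .syl 47 1, .two 5923 1 5923 0, .two 2 2 1481 1, .syl 79 1, .two 2 1 2963 1, .two 5927 1 5927 0, .one 19,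
  .two 7 2 11 2, .syl 593 1, .two 3 2 659 1, .two 2 2 1483 1, .two 17 1 349 1, .syl 43 1, .two 5 1 1187 1, .syl 53 1,
  .two 3 1 1979 1, .two 2 1 2969 1, .two 5939 1 5939 0, .skip, .two 13 1 457 1, .two 2 1 2971 1, .syl 283 1, .two 2 3 743 1,
  .syl 41 1, .syl 991 1, .two 19 1 313 1, .two 2 2 1487 1, .two 3 2 661 1, .syl 5 2, .two 11 1 541 1, .oneF 3 2 6 31 1,
  .two 5953 1 5953 0, .syl 229 1, .syl 397 1, .two 2 2 1489 1, .syl 37 1, .syl 331 1, .two 59 1 101 1, .syl 149 1,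
  .two 3 1 1987 1, .syl 271 1, .two 67 1 89 1, .syl 71 1, .two 5 1 1193 1, .syl 157 1, .syl 17 1, .two 2 4 373 1,
  .two 47 1 127 1, .syl 199 1, .two 7 1 853 1, .two 2 2 1493 1, .syl 181 1, .syl 103 1, .two 5 2 239 1, .syl 83 1,
  .two 43 1 139 1, .syl 61 1, .two 3 1 1993 1, .syl 23 1, .two 5981 1 5981 0, .syl 997 1, .two 31 1 193 1, .syl 17 1,
  .syl 19 1, .syl 73 1, .two 5987 1 5987 0, .syl 499 1, .two 53 1 113 1, .syl 599 1, .two 3 1 1997 1, .syl 107 1,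
  .two 13 1 461 1, .syl 37 1, .syl 109 1, .two 2 2 1499 1, .two 3 1 1999 1, .two 2 1 2999 1, .two 7 1 857 1, .syl 5 3,
  .two 17 1 353 1, .two 2 1 3001 1, .syl 29 1, .syl 79 1, .two 5 1 1201 1, .one 13, .two 6007 1 6007 0, .two 2 3 751 1,
  .two 3 1 2003 1, .syl 601 1, .two 6011 1 6011 0, .syl 167 1, .two 7 1 859 1, .syl 97 1, .syl 401 1, .two 2 7 47 1]

set_option maxRecDepth 100000 in
theorem len10 : certs10.length = 216 := by decide +kernel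

set_option maxRecDepth 100000 in
theorem chunk10 : checkAll 5801 certs10 = true := by decide +kernel

def certs11 : List Cert := [
  .two 11 1 547 1, .syl 59 1, .two 13 1 463 1, .syl 43 1, .two 3 3 223 1, .two 2 1 3011 1, .two 19 1 317 1, .syl 251 1,
  .two 5 2 241 1, .syl 131 1, .syl 41 1, .syl 137 1, .two 6029 1 6029 0, .syl 67 1, .two 37 1 163 1, .syl 29 1,
  .two 3 1 2011 1, .syl 431 1, .syl 71 1, .syl 503 1, .two 6037 1 6037 0, .two 2 1 3019 1, .syl 61 1, .syl 151 1,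
  .two 7 1 863 1, .syl 53 1, .two 6043 1 6043 0, .two 2 2 1511 1, .syl 31 1, .two 2 1 3023 1, .two 6047 1 6047 0, .skip,
  .two 23 1 263 1, .syl 11 2, .two 3 1 2017 1, .syl 89 1, .two 6053 1 6053 0, .syl 1009 1, .syl 173 1, .two 2 3 757 1,
  .two 3 2 673 1, .syl 233 1, .two 73 1 83 1, .syl 101 1, .syl 29 1, .syl 433 1, .syl 47 1, .two 2 4 379 1,
  .two 5 1 1213 1, .syl 337 1, .two 6067 1 6067 0, .syl 41 1, .syl 17 2, .syl 607 1, .two 13 1 467 1, .skip,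
  .two 6073 1 6073 0, .two 2 1 3037 1, .two 3 5 5 2, .syl 31 1, .two 59 1 103 1, .syl 1013 1, .two 6079 1 6079 0, .one 19,
  .two 3 1 2027 1, .two 2 1 3041 1, .syl 79 1, .syl 13 2, .two 5 1 1217 1, .syl 179 1, .two 3 1 2029 1, .two 2 3 761 1,
  .two 6089 1 6089 0, .one 5, .two 6091 1 6091 0, .two 2 2 1523 1, .two 3 2 677 1, .syl 277 1, .syl 53 1, .syl 127 1,
  .syl 67 1, .two 2 1 3049 1, .syl 107 1, .syl 61 1, .two 6101 1 6101 0, .syl 113 1, .two 17 1 359 1, .syl 109 1,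
  .syl 37 1, .syl 71 1, .two 31 1 197 1, .syl 509 1, .two 41 1 149 1, .syl 47 1, .syl 97 1, .two 2 5 191 1,
  .two 6113 1 6113 0, .syl 1019 1, .two 5 1 1223 1, .syl 139 1, .two 3 1 2039 1, .syl 23 1, .two 29 1 211 1, .one 17,
  .two 6121 1 6121 0, .two 2 1 3061 1, .syl 157 1, .two 2 2 1531 1, .two 5 3 7 2, .syl 1021 1, .two 11 1 557 1, .two 2 4 383 1,
  .two 3 3 227 1, .syl 613 1, .two 6131 1 6131 0, .syl 73 1, .two 6133 1 6133 0, .two 2 1 3067 1, .syl 409 1, .syl 59 1,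
  .two 17 1 19 2, .syl 31 1, .two 7 1 877 1, .syl 307 1, .syl 89 1, .syl 83 1, .two 6143 1 6143 0, .two 2 11 3 1,
  .two 5 1 1229 1, .syl 439 1, .two 3 2 683 1, .syl 53 1, .syl 43 1, .syl 41 1, .two 6151 1 6151 0, .two 2 3 769 1,
  .syl 293 1, .syl 181 1, .two 5 1 1231 1, .one 19, .two 47 1 131 1, .two 2 1 3079 1, .two 3 1 2053 1, .one 7,
  .two 61 1 101 1, .syl 79 1, .two 6163 1 6163 0, .syl 67 1, .syl 137 1, .two 2 1 3083 1, .two 7 1 881 1, .syl 257 1,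
  .two 31 1 199 1, .syl 617 1, .syl 17 1, .two 2 2 1543 1, .two 6173 1 6173 0, .syl 7 3, .syl 19 1, .two 2 5 193 1,
  .syl 71 1, .two 2 1 3089 1, .two 37 1 167 1, .syl 103 1, .two 7 1 883 1, .syl 281 1, .two 3 3 229 1, .two 2 3 773 1,
  .two 5 1 1237 1, .syl 1031 1, .two 23 1 269 1, .syl 13 1, .two 3 1 2063 1, .syl 619 1, .two 41 1 151 1, .syl 43 1,
  .two 11 1 563 1, .syl 163 1, .syl 59 1, .two 2 2 1549 1, .two 6197 1 6197 0, .syl 1033 1, .two 6199 1 6199 0, .syl 31 1,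
  .syl 53 1, .syl 443 1, .two 6203 1 6203 0, .syl 47 1, .syl 73 1, .syl 107 1, .two 3 1 2069 1, .two 2 6 97 1,
  .two 7 1 887 1, .syl 23 1, .two 6211 1 6211 0, .two 2 2 1553 1, .syl 109 1, .syl 239 1, .syl 113 1, .syl 37 1,
  .two 6217 1 6217 0, .two 2 1 3109 1, .two 3 2 691 1, .syl 311 1, .two 6221 1 6221 0, .syl 61 1, .two 7 2 127 1, .two 2 4 389 1,
  .syl 83 1, .syl 283 1, .two 13 1 479 1, .syl 173 1, .two 6229 1 6229 0, .syl 89 1, .syl 67 1, .syl 41 1]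

set_option maxRecDepth 100000 in
theorem len11 : certs11.length = 216 := by decide +kernel

set_option maxRecDepth 100000 in
theorem chunk11 : checkAll 6017 certs11 = true := by decide +kernel

/-- Every order in `[3641, 6232]` is killed by the generic tests or is special. -/
theorem sieve (n : ℕ) (h1 : 3641 ≤ n) (h2 : n ≤ 6232) : ¬ Alive n ∨ n ∈ specials := by
  rcases Nat.lt_or_ge n 3857 with h | h
  · exact checkAll_sound certs0 3641 chunk0 n (by omega) (by rw [len0]; omega)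
  rcases Nat.lt_or_ge n 4073 with h | h
  · exact checkAll_sound certs1 3857 chunk1 n (by omega) (by rw [len1]; omega)
  rcases Nat.lt_or_ge n 4289 with h | h
  · exact checkAll_sound certs2 4073 chunk2 n (by omega) (by rw [len2]; omega)
  rcases Nat.lt_or_ge n 4505 with h | h
  · exact checkAll_sound certs3 4289 chunk3 n (by omega) (by rw [len3]; omega)
  rcases Nat.lt_or_ge n 4721 with h | h
  · exact checkAll_sound certs4 4505 chunk4 n (by omega) (by rw [len4]; omega)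
  rcases Nat.lt_or_ge n 4937 with h | h
  · exact checkAll_sound certs5 4721 chunk5 n (by omega) (by rw [len5]; omega)
  rcases Nat.lt_or_ge n 5153 with h | h
  · exact checkAll_sound certs6 4937 chunk6 n (by omega) (by rw [len6]; omega)
  rcases Nat.lt_or_ge n 5369 with h | h
  · exact checkAll_sound certs7 5153 chunk7 n (by omega) (by rw [len7]; omega)
  rcases Nat.lt_or_ge n 5585 with h | h
  · exact checkAll_sound certs8 5369 chunk8 n (by omega) (by rw [len8]; omega)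
  rcases Nat.lt_or_ge n 5801 with h | h
  · exact checkAll_sound certs9 5585 chunk9 n (by omega) (by rw [len9]; omega)
  rcases Nat.lt_or_ge n 6017 with h | h
  · exact checkAll_sound certs10 5801 chunk10 n (by omega) (by rw [len10]; omega)
  exact checkAll_sound certs11 6017 chunk11 n (by omega) (by rw [len11]; omega)

end Cfsg.Agent.Lib.Helper11.SieveCert
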