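import Mathlib
import Cfsg.Agent.Lib.Helper11.SieveCheck
import Cfsg.Agent.Lib.Helper17.CentFix
import Cfsg.Agent.Lib.Helper17.SylowSub
import Cfsg.Agent.Lib.Helper17.ExcSimple
import Cfsg.Agent.Lib.Helper76.PQR
import Cfsg.Agent.S0985
import Cfsg.Agent.S3996

/-!
# The order of a non-abelian finite simple group satisfies `SieveCheck.Alive`
-/

set_option autoImplicit false

namespace Cfsg.Agent.Lib.Helper11.SieveFacts

open Subgroup MulAction Cfsg.Agent.Lib.Helper11.SieveCheck
open Cfsg.Agent.Lib.Helper17.Sylow Cfsg.Agent.Lib.Helper17.Sylow2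
open Cfsg.Agent.Lib.Helper17.CentFix Cfsg.Agent.Lib.Helper17.Commuting
open Cfsg.Agent.Lib.Helper17.Parity Cfsg.Agent.Lib.Helper17.FixedPoints
open Cfsg.Agent.Lib.Helper17.SylowSub

variable {G : Type*} [Group G] [Finite G] [IsSimpleGroup G]

theorem not_two (hG : ¬ IsMulCommutative G) (p q : ℕ) (hp : p.Prime) (hq : q.Prime) :
    ¬ (∀ s : ℕ, s.Prime → s ∣ Nat.card G → s = p ∨ s = q) := by
  intro hall
  have hs : Group.IsSolvable G := Cfsg.Agent.S3996.solvable_of_two_primes p q hp hq hall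
  apply hG
  rw [isMulCommutative_iff]
  exact IsSimpleGroup.comm_iff_isSolvable.mpr hs

theorem q_data (hG : ¬ IsMulCommutative G) {p : ℕ} [Fact p.Prime] (P : Sylow p G)
    (hP : Nat.card (P : Subgroup G) = p) (q : ℕ) (hq : q.Prime) (_hqp : q ≠ p)
    (hqc : q ∣ Nat.card (centralizer ((P : Subgroup G) : Set G))) (r : ℕ) :
    QData (Nat.card G) p (Nat.card (Sylow p G)) r
      (Nat.card (centralizer ((P : Subgroup G) : Set G))) q := by
  have : Fact q.Prime := ⟨hq⟩
  have hpd : p ∣ Nat.card G := by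
    rw [← hP]; exact (P : Subgroup G).card_subgroup_dvd_card
  obtain ⟨u, huC, hu⟩ :=
    exists_mem_orderOf_eq_prime (centralizer ((P : Subgroup G) : Set G)) q hqc
  have hu1 : u ≠ 1 := by
    intro h
    rw [h, orderOf_one] at hu
    exact hq.one_lt.ne hu
  have huq : u ^ q = 1 := by rw [← hu]; exact pow_orderOf_eq_one u
  have hidx : Nat.card (Sylow p G) = (normalizer ((P : Subgroup G) : Set G)).index :=
    P.card_eq_index_normalizer
  refine ⟨Nat.card (fixedBy (G ⧸ normalizer ((P : Subgroup G) : Set G)) u),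
    card_fixedBy_mod_of_mem_centralizer P hP u huC, ?_, ?_, ?_⟩
  · have h := card_modEq_card_fixedBy (X := G ⧸ normalizer ((P : Subgroup G) : Set G))
      (p := q) (n := 1) u (by rw [pow_one]; exact huq)
    rw [hidx]
    exact h.symm
  · rw [hidx]
    exact card_fixedBy_lt_index _ (normalizer_sylow_ne_top hG hpd P) u hu1
  · intro hq2
    obtain ⟨k, hk⟩ := involution_moved hG (X := G ⧸ normalizer ((P : Subgroup G) : Set G)) u
      (by rw [← hq2]; exact huq)
    rw [hidx]
    have : (normalizer ((P : Subgroup G) : Set G)).index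
        = Nat.card (G ⧸ normalizer ((P : Subgroup G) : Set G)) := rfl
    rw [this, hk]
    omega

theorem prime_data (hG : ¬ IsMulCommutative G) (p : ℕ) (hp : p.Prime)
    (hp1 : p ∣ Nat.card G) (hp2 : ¬ p ∣ Nat.card G / p) (three : Prop)
    (h3 : three → ∃ q1 q2 a b : ℕ, q1.Prime ∧ q2.Prime ∧ q1 ≠ q2 ∧ q1 ≠ p ∧ q2 ≠ p ∧
      Nat.card G = q1 ^ a * q2 ^ b * p) :
    PrimeData (Nat.card G) p three := by
  have : Fact p.Prime := ⟨hp⟩
  have hn : Nat.card G = p ^ 1 * (Nat.card G / p) := by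
    rw [pow_one, Nat.mul_div_cancel' hp1]
  obtain ⟨P⟩ : Nonempty (Sylow p G) := inferInstance
  have hP : Nat.card (P : Subgroup G) = p := by
    have := card_sylow_subgroup hn hp2 P
    rwa [pow_one] at this
  obtain ⟨r, hr1, hr, hCN, hpC⟩ := sylow_prime_centralizer hG P hP
  have hNd := card_normalizer_mul_card_sylow P
  refine ⟨Nat.card (Sylow p G), r, Nat.card (centralizer ((P : Subgroup G) : Set G)),
    card_sylow_dvd hn hp2, card_sylow_mod p, card_sylow_ne_one hG hp1,
    two_mul_card_dvd_factorial_card_sylow hG hp1, hr1, hr, ?_, hpC, ?_, ?_, ?_⟩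
  · rw [hCN, hNd]
  · intro q hq hqp hqc
    exact q_data hG P hP q hq hqp hqc r
  · intro h7 hr2 hc
    have hN : Nat.card (normalizer ((P : Subgroup G) : Set G)) = p * 2 := by
      rw [← hCN, hc, hr2]
    exact Cfsg.Agent.Lib.Helper17.ExcSimple.degrees_two hG (P : Subgroup G) hp hP hc hN h7
  · intro ht
    obtain ⟨q1, q2, a, b, hq1, hq2, h12, h1p, h2p, hcard⟩ := h3 ht
    have hc : centralizer ((P : Subgroup G) : Set G) = (P : Subgroup G) :=
      Cfsg.Agent.Lib.Helper76.PQR.main q1 q2 p a b hq1 hq2 h12 h1p h2p hcard P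
    rw [hc, hP]

theorem sylow_data (hG : ¬ IsMulCommutative G) (p a m : ℕ) (hp : p.Prime) (ha : 1 ≤ a)
    (hn : Nat.card G = p ^ a * m) (hm : ¬ p ∣ m) : SylData (Nat.card G) p a m := by
  have : Fact p.Prime := ⟨hp⟩
  have hp2 := hp.two_le
  have hpd : p ∣ Nat.card G := by
    rw [hn]; exact Dvd.dvd.mul_right (dvd_pow_self p (by omega)) m
  refine ⟨Nat.card (Sylow p G), card_sylow_dvd hn hm, card_sylow_mod p, card_sylow_ne_one hG hpd,
    two_mul_card_dvd_factorial_card_sylow hG hpd, ?_⟩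
  intro ha2 hmod
  have hnm : ¬ Nat.card (Sylow p G) ≡ 1 [MOD p ^ 2] := by
    intro h
    apply hmod
    unfold Nat.ModEq at h
    rw [pow_two] at h
    rw [h]
    exact Nat.mod_eq_of_lt (by nlinarith)
  obtain ⟨P, R, hPR, hidx⟩ := Cfsg.Agent.S0985.result p 2 hnm
  have hcP : Nat.card (P : Subgroup G) = p ^ a := card_sylow_subgroup hn hm P
  have hcR : Nat.card (R : Subgroup G) = p ^ a := card_sylow_subgroup hn hm R
  set D : Subgroup G := (P : Subgroup G) ⊓ (R : Subgroup G) with hD
  have hDP : D ≤ (P : Subgroup G) := inf_le_left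
  have hDR : D ≤ (R : Subgroup G) := inf_le_right
  have hrel : D.relIndex (P : Subgroup G) = ((R : Subgroup G).subgroupOf (P : Subgroup G)).index := by
    rw [hD, Subgroup.inf_relIndex_left]
    rfl
  have hle : D.relIndex (P : Subgroup G) ≤ p := by
    rw [hrel]; simpa using hidx
  have hdvd : D.relIndex (P : Subgroup G) ∣ p ^ a := by
    rw [← hcP]; exact Subgroup.relIndex_dvd_card _ _
  obtain ⟨j, hj, hjeq⟩ := (Nat.dvd_prime_pow hp).mp hdvd
  have hne1 : D.relIndex (P : Subgroup G) ≠ 1 := by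
    intro h1
    have hPD : (P : Subgroup G) ≤ D := Subgroup.relIndex_eq_one.mp h1
    have hPRle : (P : Subgroup G) ≤ (R : Subgroup G) := hPD.trans hDR
    apply hPR
    apply Sylow.ext
    exact (P.3 R.2 hPRle).symm
  have hrelp : D.relIndex (P : Subgroup G) = p := by
    rw [hjeq] at hle hne1 ⊢
    rcases j with _ | _ | j
    · simp at hne1
    · simp
    · exfalso
      have : p ^ 2 ≤ p ^ (j + 1 + 1) := Nat.pow_le_pow_right hp.pos (by omega)
      nlinarith
  have hcD := card_mul_relIndex hDP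
  have hcD' := card_mul_relIndex hDR
  rw [hrelp, hcP] at hcD
  rw [hcR] at hcD'
  have hD0 : 0 < Nat.card D := Nat.card_pos
  have hrelR : D.relIndex (R : Subgroup G) = p := by
    have : Nat.card D * D.relIndex (R : Subgroup G) = Nat.card D * p := by rw [hcD', hcD]
    exact Nat.eq_of_mul_eq_mul_left hD0 this
  have hPM : (P : Subgroup G) ≤ normalizer (D : Set G) :=
    le_normalizer_of_relIndex_prime P.2 hDP hrelp
  have hRM : (R : Subgroup G) ≤ normalizer (D : Set G) :=
    le_normalizer_of_relIndex_prime R.2 hDR hrelR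
  have hMtop : normalizer (D : Set G) ≠ ⊤ := by
    intro htop
    have hDn : D.Normal := normalizer_eq_top_iff.mp htop
    rcases hDn.eq_bot_or_eq_top with hb | ht
    · rw [hb, Subgroup.card_bot, one_mul] at hcD
      have : p ^ 1 < p ^ a := Nat.pow_lt_pow_right hp.one_lt (by omega)
      rw [pow_one] at this
      omega
    · have : D.relIndex (P : Subgroup G) = 1 := by
        rw [Subgroup.relIndex_eq_one, ht]; exact le_top
      rw [hrelp] at this
      omega
  obtain ⟨hx1, hxmod, hxdvd⟩ := card_sylow_of_two P R hPR (normalizer (D : Set G)) hPM hRM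
  rw [hcP] at hxdvd
  have hMdvd : Nat.card (normalizer (D : Set G)) ∣ Nat.card G :=
    (normalizer (D : Set G)).card_subgroup_dvd_card
  have hpa0 : 0 < p ^ a := pow_pos hp.pos a
  obtain ⟨m', hm'⟩ : p ^ a ∣ Nat.card (normalizer (D : Set G)) :=
    (Dvd.intro_left _ rfl).trans hxdvd
  have hm'm : m' ∣ m := by
    rw [hm', hn] at hMdvd
    exact (Nat.mul_dvd_mul_iff_left hpa0).mp hMdvd
  have hxm' : Nat.card (Sylow p (normalizer (D : Set G))) ∣ m' := by
    rw [hm', mul_comm] at hxdvd
    exact (Nat.mul_dvd_mul_iff_left hpa0).mp hxdvd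
  have hm0 : 0 < m := by
    rcases Nat.eq_zero_or_pos m with h0 | h0
    · exact absurd (h0 ▸ dvd_zero p) hm
    · exact h0
  have hm'0 : 0 < m' := Nat.pos_of_dvd_of_pos hm'm hm0
  have hindex : (normalizer (D : Set G)).index = m / m' := by
    have h1 := (normalizer (D : Set G)).card_mul_index
    rw [hm', hn] at h1
    obtain ⟨e, he⟩ := hm'm
    rw [he, Nat.mul_div_cancel_left _ hm'0]
    rw [he] at h1
    have h2 : p ^ a * m' * (normalizer (D : Set G)).index = p ^ a * m' * e := by
      rw [h1]; ring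
    exact Nat.eq_of_mul_eq_mul_left (Nat.mul_pos hpa0 hm'0) h2
  refine ⟨m', Nat.card (Sylow p (normalizer (D : Set G))), hm'm, ?_, hxm', hxmod, hx1, ?_⟩
  · intro he
    apply hMtop
    apply Subgroup.eq_top_of_card_eq
    rw [hm', he, hn]
  · rw [← hindex]
    exact Cfsg.Agent.Lib.Helper17.Embed.two_mul_card_dvd_factorial hG _ hMtop

theorem alive_card (hG : ¬ IsMulCommutative G) : Alive (Nat.card G) :=
  ⟨Nat.card_pos, fun p q hp hq => not_two hG p q hp hq,
    fun p a m hp ha hn hm => sylow_data hG p a m hp ha hn hm,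
    fun p hp hp1 hp2 three h3 => prime_data hG p hp hp1 hp2 three h3⟩

end Cfsg.Agent.Lib.Helper11.SieveFacts
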