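import Mathlib
import Cfsg.Agent.Lib.Helper41.TMStmt
import Cfsg.Agent.Lib.Helper12.MinusCnt

/-!
# S5987 piece SINGCNT (helper11, second seat): the singular vectors orthogonal to a totally
singular frame of length `j ≤ d - 1` in the standard minus space of dimension `2 d` number
`q^(d-1) (q^(d-j) - q + 1)` (all characteristics).  Wrapper of
`Helper12.MinusCnt.card_perp_sing_minusQ`.
-/

set_option autoImplicit false

universe u

namespace Cfsg.Agent.Lib.Helper11.TMSINGCNT

theorem arith (q N j E : ℕ) (hq : 1 ≤ q)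
    (h : q * N + q ^ j * q ^ (E + 1 + 1) = q ^ j * (q ^ (2 * (E + 1)) + q ^ (E + 1))) :
    N = q ^ (j + E) * (q ^ (E + 1) - q + 1) := by
  apply Nat.eq_of_mul_eq_mul_left hq
  have h1 : q ≤ q ^ (E + 1) := Nat.le_self_pow (by omega) q
  zify [h1] at h ⊢
  linear_combination h

theorem main : Cfsg.Agent.Lib.Helper41.TMStmt.SingCnt.{u} := by
  intro F _ _ a₀ b₀ hab d j hj v
  have hd : 1 ≤ d := by omega
  have h := Cfsg.Agent.Lib.Helper12.MinusCnt.card_perp_sing_minusQ (d - 1) j (by omega) a₀ b₀ hab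
    v.1 v.2.1 v.2.2.1 v.2.2.2
  rw [Nat.sub_add_cancel hd] at h
  have hq1 : 1 ≤ Fintype.card F := Fintype.card_pos
  obtain ⟨E, hE⟩ : ∃ E, d = j + E + 1 := ⟨d - j - 1, by omega⟩
  have e1 : d - j = E + 1 := by omega
  have e2 : d - 1 = j + E := by omega
  rw [e1] at h
  have key := arith (Fintype.card F) _ j E hq1 h
  rw [key, e1]
  congr 2
  omega

end Cfsg.Agent.Lib.Helper11.TMSINGCNT
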