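import Mathlib
import Cfsg.Agent.Lib.Helper44.TPStmt
import Cfsg.Agent.Lib.Helper44.Levi

/-!
# S5973 piece INVBAD2 (helper11): `q ≡ 3 (mod 4)`, `d` even, `m` odd: an element `x` of `Omega`
with `x * x = -1`, not scalar, without invariant subspace of odd finrank.

`x = leviGL ⁅P, Q⁆` with `P, Q ∈ GL_d` block diagonal with blocks `diag(-1, 1)` and
`[[-1, 1], [1, 1]]`; the commutator of the two `2 × 2` blocks is `[[0, -1], [1, 0]]`.
-/

set_option autoImplicit false

universe u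

namespace Cfsg.Agent.Lib.Helper11.TPINVBAD2

open Cfsg.Agent.Lib.Helper44.TPStmt Matrix
open Cfsg.Agent.Lib.Helper44.Levi Cfsg.Agent.Lib.Helper44.NegPairs
open scoped commutatorElement

section two

variable {F : Type*} [Field F]

/-- `diag(-1, 1)` -/
def Pm : Matrix (Fin 2) (Fin 2) F := !![-1, 0; 0, 1]

/-- `[[-1, 1], [1, 1]]` -/
def Qm : Matrix (Fin 2) (Fin 2) F := !![-1, 1; 1, 1]

/-- the inverse of `Qm` -/
def Qi : Matrix (Fin 2) (Fin 2) F := !![-1 / 2, 1 / 2; 1 / 2, 1 / 2]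

theorem Pm_mul : (Pm : Matrix (Fin 2) (Fin 2) F) * Pm = 1 := by
  ext i j
  fin_cases i <;> fin_cases j <;> simp [Pm, Matrix.mul_apply, Fin.sum_univ_two]

theorem Qm_mul (h2 : (2 : F) ≠ 0) : (Qm : Matrix (Fin 2) (Fin 2) F) * Qi = 1 := by
  ext i j
  fin_cases i <;> fin_cases j <;> simp [Qm, Qi, Matrix.mul_apply, Fin.sum_univ_two] <;>
    field_simp <;> ring

theorem Qi_mul (h2 : (2 : F) ≠ 0) : (Qi : Matrix (Fin 2) (Fin 2) F) * Qm = 1 := by
  ext i j
  fin_cases i <;> fin_cases j <;> simp [Qm, Qi, Matrix.mul_apply, Fin.sum_univ_two] <;>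
    field_simp <;> ring

/-- `diag(-1, 1)` in `GL₂` -/
def Pg : GL (Fin 2) F := ⟨Pm, Pm, Pm_mul, Pm_mul⟩

/-- `[[-1, 1], [1, 1]]` in `GL₂` -/
def Qg (h2 : (2 : F) ≠ 0) : GL (Fin 2) F := ⟨Qm, Qi, Qm_mul h2, Qi_mul h2⟩

theorem comm_val (h2 : (2 : F) ≠ 0) :
    ((⁅(Pg : GL (Fin 2) F), Qg h2⁆ : GL (Fin 2) F) : Matrix (Fin 2) (Fin 2) F) =
      !![0, -1; 1, 0] := by
  have h : ((⁅(Pg : GL (Fin 2) F), Qg h2⁆ : GL (Fin 2) F) : Matrix (Fin 2) (Fin 2) F) =
      Pm * Qm * Pm * Qi := rfl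
  rw [h]
  ext i j
  fin_cases i <;> fin_cases j <;> simp [Pm, Qm, Qi, Matrix.mul_apply, Fin.sum_univ_two] <;>
    field_simp <;> ring

theorem comm_sq (h2 : (2 : F) ≠ 0) :
    ((⁅(Pg : GL (Fin 2) F), Qg h2⁆ : GL (Fin 2) F) : Matrix (Fin 2) (Fin 2) F) *
      ((⁅(Pg : GL (Fin 2) F), Qg h2⁆ : GL (Fin 2) F) : Matrix (Fin 2) (Fin 2) F) = -1 := by
  rw [comm_val]
  ext i j
  fin_cases i <;> fin_cases j <;> simp [Matrix.mul_apply, Fin.sum_univ_two]

end two

section big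

variable {F : Type u} [Field F]

/-- block diagonal embedding `M₂(F) → M_d(F)` for `d = 2 k` -/
noncomputable def emb {k d : ℕ} (e : Fin 2 × Fin k ≃ Fin d) :
    Matrix (Fin 2) (Fin 2) F →+* Matrix (Fin d) (Fin d) F :=
  ((Matrix.reindexAlgEquiv F F e).toRingEquiv.toRingHom).comp
    ((Matrix.blockDiagonalRingHom (Fin 2) (Fin k) F).comp
      (Pi.constRingHom (Fin k) (Matrix (Fin 2) (Fin 2) F)))

/-- the induced homomorphism `GL₂(F) → GL_d(F)` -/
noncomputable def embG {k d : ℕ} (e : Fin 2 × Fin k ≃ Fin d) :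
    GL (Fin 2) F →* GL (Fin d) F :=
  Units.map (emb (F := F) e).toMonoidHom

theorem embG_val {k d : ℕ} (e : Fin 2 × Fin k ≃ Fin d) (g : GL (Fin 2) F) :
    ((embG e g : GL (Fin d) F) : Matrix (Fin d) (Fin d) F) =
      emb e (g : Matrix (Fin 2) (Fin 2) F) := rfl

/-- the matrix `A ∈ GL_d` with `A * A = -1`, a commutator -/
noncomputable def Ag {k d : ℕ} (e : Fin 2 × Fin k ≃ Fin d) (h2 : (2 : F) ≠ 0) : GL (Fin d) F :=
  ⁅embG (F := F) e (Pg : GL (Fin 2) F), embG (F := F) e (Qg h2)⁆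

theorem Ag_eq {k d : ℕ} (e : Fin 2 × Fin k ≃ Fin d) (h2 : (2 : F) ≠ 0) :
    Ag e h2 = embG (F := F) e ⁅(Pg : GL (Fin 2) F), Qg h2⁆ := by
  unfold Ag
  rw [map_commutatorElement (embG (F := F) e)]

theorem Ag_sq {k d : ℕ} (e : Fin 2 × Fin k ≃ Fin d) (h2 : (2 : F) ≠ 0) :
    Ag e h2 * Ag e h2 = -1 := by
  apply Units.ext
  rw [Units.val_mul, Ag_eq, embG_val, Units.val_neg, Units.val_one, ← map_mul, comm_sq, map_neg,
    map_one]

end big

theorem main : InvBad2.{u} := by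
  intro F _ _ hq d m hd hde hmo
  classical
  have hnsq : ¬ IsSquare (-1 : F) := by
    rw [FiniteField.isSquare_neg_one_iff]
    simp [hq]
  have h2 : (2 : F) ≠ 0 := by
    intro h
    apply hnsq
    refine ⟨1, ?_⟩
    have h' : (1 : F) + 1 = 0 := by rw [one_add_one_eq_two]; exact h
    have : (-1 : F) = 1 := neg_eq_of_add_eq_zero_left h'
    rw [this]; simp
  obtain ⟨k, hk⟩ := hde
  have hcard : Fintype.card (Fin 2 × Fin k) = Fintype.card (Fin d) := by
    simp [hk]; ring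
  let e : Fin 2 × Fin k ≃ Fin d := Fintype.equivOfCardEq hcard
  set A : GL (Fin d) F := Ag e h2 with hA
  have hAsq : A * A = -1 := Ag_sq e h2
  -- the isometry
  let y : ↥(Cfsg.isometryGroup F (Cfsg.quadFormPlus d F)) := levi d F A
  have hyO : y ∈ Cfsg.Omega F (Cfsg.quadFormPlus d F) := by
    have : y = ⁅levi d F (embG (F := F) e (Pg : GL (Fin 2) F)),
        levi d F (embG (F := F) e (Qg h2))⁆ := by
      show levi d F (Ag e h2) = _
      unfold Ag
      rw [map_commutatorElement (levi d F)]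
    rw [this]
    show _ ∈ commutator _
    rw [commutator_def]
    exact Subgroup.commutator_mem_commutator (Subgroup.mem_top _) (Subgroup.mem_top _)
  have hxval : ((y : GL (J d) F) : Matrix (J d) (J d) F) = leviM A := rfl
  have hxsq : ((y : GL (J d) F) : Matrix (J d) (J d) F) * ((y : GL (J d) F) : Matrix (J d) (J d) F)
      = -1 := by
    rw [hxval, ← leviM_mul, hAsq]
    unfold leviM
    have hinv : ((-1 : GL (Fin d) F))⁻¹ = -1 := inv_eq_of_mul_eq_one_right (by simp)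
    rw [hinv]
    simp only [Units.val_neg, Units.val_one, Matrix.transpose_neg, Matrix.transpose_one]
    rw [← Matrix.fromBlocks_one, Matrix.fromBlocks_neg]
    simp
  refine ⟨(y : GL (J d) F), ?_, ?_, ?_, ?_⟩
  · unfold Cfsg.Geo.omegaGL
    exact Subgroup.mem_map.mpr ⟨y, hyO, rfl⟩
  · rw [pow_two, Units.val_mul, hxsq]
    simp
  · intro z hz
    rw [hz] at hxsq
    apply hnsq
    refine ⟨z, ?_⟩
    have := congrFun (congrFun hxsq (Sum.inl (⟨0, by omega⟩ : Fin d)))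
      (Sum.inl (⟨0, by omega⟩ : Fin d))
    simp at this
    exact this.symm
  · rintro ⟨W, hWm, -, hWs⟩
    have hW' : ∀ w ∈ W, Matrix.toLin' ((y : GL (J d) F) : Matrix (J d) (J d) F) w ∈ W := by
      intro w hw
      exact hWs (Submodule.mem_map_of_mem hw)
    set f : ↥W →ₗ[F] ↥W :=
      (Matrix.toLin' ((y : GL (J d) F) : Matrix (J d) (J d) F)).restrict hW' with hf
    have hff : f * f = (-1 : F) • (1 : Module.End F ↥W) := by
      apply LinearMap.ext
      intro w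
      apply Subtype.ext
      have h1 : (((f * f) w : ↥W) : J d → F) =
          ((y : GL (J d) F) : Matrix (J d) (J d) F) *ᵥ
            (((y : GL (J d) F) : Matrix (J d) (J d) F) *ᵥ (w : J d → F)) := by
        rw [hf, Module.End.mul_apply, LinearMap.coe_restrict_apply, LinearMap.coe_restrict_apply,
          Matrix.toLin'_apply, Matrix.toLin'_apply]
      rw [h1, Matrix.mulVec_mulVec, hxsq, Matrix.neg_mulVec, Matrix.one_mulVec]
      simp
    have hdet := congrArg LinearMap.det hff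
    rw [map_mul, LinearMap.det_smul, hWm, hmo.neg_one_pow, map_one] at hdet
    apply hnsq
    exact ⟨LinearMap.det f, by rw [hdet]; ring⟩

end Cfsg.Agent.Lib.Helper11.TPINVBAD2
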