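import Mathlib
import Cfsg.Agent.Lib.Helper4.UniStmt

/-!
# S4395 piece FMB: an elementary abelian `p`-group with an irreducible endomorphism is a
finite field on which the endomorphism is multiplication by an element
-/

set_option autoImplicit false

namespace Cfsg.Agent.Lib.Helper11.UniFMB

open Polynomial

universe u

section Add

variable (p : ℕ) [Fact p.Prime] {M : Type u} [AddCommGroup M] [Module (ZMod p) M]
  (c : M →ₗ[ZMod p] M)

/-- the annihilator ideal of `v0` in `(ZMod p)[X]` acting through `c` -/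
def annI (v0 : M) : Ideal (ZMod p)[X] where
  carrier := {f | aeval c f v0 = 0}
  add_mem' := by
    intro f g hf hg
    simp only [Set.mem_setOf_eq] at *
    rw [map_add, LinearMap.add_apply, hf, hg, add_zero]
  zero_mem' := by simp
  smul_mem' := by
    intro g f hf
    simp only [Set.mem_setOf_eq, smul_eq_mul] at *
    rw [map_mul, Module.End.mul_apply, hf, map_zero]

/-- additive version of FMB -/
theorem core_add [Finite M] (v0 : M) (hv0 : v0 ≠ 0)
    (hirr : ∀ A : AddSubgroup M, (∀ v ∈ A, c v ∈ A) → A = ⊥ ∨ A = ⊤) :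
    ∃ (F : Type) (_ : Field F) (_ : Finite F) (_ : CharP F p) (e : M → F) (lam : F),
      (∀ v w : M, e (v + w) = e v + e w) ∧ Function.Bijective e ∧
        ∀ v : M, e (c v) = lam * e v := by
  have orbit : ∀ w : M, w ≠ 0 → ∀ v : M, ∃ g : (ZMod p)[X], aeval c g w = v := by
    intro w hw
    let A : AddSubgroup M :=
      { carrier := {v | ∃ g : (ZMod p)[X], aeval c g w = v}
        add_mem' := by
          rintro _ _ ⟨g, rfl⟩ ⟨g', rfl⟩
          exact ⟨g + g', by rw [map_add, LinearMap.add_apply]⟩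
        zero_mem' := ⟨0, by simp⟩
        neg_mem' := by
          rintro _ ⟨g, rfl⟩
          exact ⟨-g, by rw [map_neg, LinearMap.neg_apply]⟩ }
    have hA : ∀ v ∈ A, c v ∈ A := by
      rintro _ ⟨g, rfl⟩
      exact ⟨X * g, by rw [map_mul, aeval_X, Module.End.mul_apply]⟩
    have hwA : w ∈ A := ⟨1, by simp⟩
    rcases hirr A hA with h | h
    · rw [h, AddSubgroup.mem_bot] at hwA; exact absurd hwA hw
    · intro v
      have : v ∈ A := by rw [h]; trivial
      exact this
  let I : Ideal (ZMod p)[X] := annI p c v0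
  have hI : ∀ f, f ∈ I ↔ aeval c f v0 = 0 := fun f => Iff.rfl
  have hmax : I.IsMaximal := by
    rw [Ideal.isMaximal_iff]
    refine ⟨?_, ?_⟩
    · rw [hI]; simpa using hv0
    · intro J f hIJ hf hfJ
      rw [hI] at hf
      obtain ⟨g, hg⟩ := orbit _ hf v0
      have h1 : g * f - 1 ∈ I := by
        rw [hI, map_sub, LinearMap.sub_apply, map_mul, Module.End.mul_apply, hg]; simp
      have h2 : g * f ∈ J := J.mul_mem_left g hfJ
      have h3 := J.sub_mem h2 (hIJ h1)
      simpa using h3
  have hmk : ∀ f g : (ZMod p)[X],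
      Ideal.Quotient.mk I f = Ideal.Quotient.mk I g ↔ aeval c f v0 = aeval c g v0 := by
    intro f g
    rw [Ideal.Quotient.eq, hI, map_sub, LinearMap.sub_apply, sub_eq_zero]
  have hsurj := orbit v0 hv0
  choose ff hff using hsurj
  letI instF : Field ((ZMod p)[X] ⧸ I) := Ideal.Quotient.field I
  let e : M → (ZMod p)[X] ⧸ I := fun v => Ideal.Quotient.mk I (ff v)
  have he_add : ∀ v w, e (v + w) = e v + e w := by
    intro v w
    show Ideal.Quotient.mk I (ff (v + w)) = Ideal.Quotient.mk I (ff v) + Ideal.Quotient.mk I (ff w)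
    rw [← map_add, hmk, hff, map_add, LinearMap.add_apply, hff, hff]
  have he_inj : Function.Injective e := by
    intro v w h
    have := (hmk _ _).1 h
    rwa [hff, hff] at this
  have he_surj : Function.Surjective e := by
    intro x
    obtain ⟨f, rfl⟩ := Ideal.Quotient.mk_surjective x
    refine ⟨aeval c f v0, ?_⟩
    show Ideal.Quotient.mk I (ff _) = _
    rw [hmk, hff]
  have he_c : ∀ v, e (c v) = Ideal.Quotient.mk I X * e v := by
    intro v
    show Ideal.Quotient.mk I (ff (c v)) = Ideal.Quotient.mk I X * Ideal.Quotient.mk I (ff v)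
    rw [← map_mul, hmk, hff, map_mul, aeval_X, Module.End.mul_apply, hff]
  have hfin : Finite ((ZMod p)[X] ⧸ I) := Finite.of_surjective e he_surj
  have hchar : CharP ((ZMod p)[X] ⧸ I) p :=
    charP_of_injective_algebraMap (algebraMap (ZMod p) ((ZMod p)[X] ⧸ I)).injective p
  exact ⟨(ZMod p)[X] ⧸ I, instF, hfin, hchar, e, Ideal.Quotient.mk I X, he_add,
    ⟨he_inj, he_surj⟩, he_c⟩

end Add

/-- commutative-group version of FMB, module structure given -/
theorem core_comm' (p : ℕ) [Fact p.Prime] (V : Type u) [CommGroup V] [Finite V]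
    [Module (ZMod p) (Additive V)] (v0 : V) (hv0 : v0 ≠ 1) (c : V →* V)
    (hirr : ∀ A : Subgroup V, (∀ v ∈ A, c v ∈ A) → A = ⊥ ∨ A = ⊤) :
    ∃ (F : Type) (_ : Field F) (_ : Finite F) (_ : CharP F p) (e : V → F) (lam : F),
      (∀ v w : V, e (v * w) = e v + e w) ∧ Function.Bijective e ∧
        ∀ v : V, e (c v) = lam * e v := by
  have hirr' : ∀ A : AddSubgroup (Additive V),
      (∀ v ∈ A, (AddMonoidHom.toZModLinearMap p (MonoidHom.toAdditive c)) v ∈ A) →
        A = ⊥ ∨ A = ⊤ := by
    intro A hA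
    rcases hirr (Subgroup.toAddSubgroup.symm A) (fun v hv => hA (Additive.ofMul v) hv) with h | h
    · left
      have h1 := congrArg Subgroup.toAddSubgroup h
      simpa using h1
    · right
      have h1 := congrArg Subgroup.toAddSubgroup h
      simpa using h1
  obtain ⟨F, iF, iFin, iCh, e, lam, h1, h2, h3⟩ :=
    core_add p (AddMonoidHom.toZModLinearMap p (MonoidHom.toAdditive c))
      (Additive.ofMul v0) (fun h => hv0 (Additive.ofMul.injective h)) hirr'
  refine ⟨F, iF, iFin, iCh, fun v => e (Additive.ofMul v), lam, ?_, ?_, ?_⟩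
  · intro v w
    exact h1 (Additive.ofMul v) (Additive.ofMul w)
  · exact h2.comp Additive.ofMul.bijective
  · intro v
    exact h3 (Additive.ofMul v)

/-- commutative-group version of FMB -/
theorem core_comm (p : ℕ) [Fact p.Prime] (V : Type u) [CommGroup V] [Finite V]
    (hexp : ∀ v : V, v ^ p = 1) (v0 : V) (hv0 : v0 ≠ 1) (c : V →* V)
    (hirr : ∀ A : Subgroup V, (∀ v ∈ A, c v ∈ A) → A = ⊥ ∨ A = ⊤) :
    ∃ (F : Type) (_ : Field F) (_ : Finite F) (_ : CharP F p) (e : V → F) (lam : F),
      (∀ v w : V, e (v * w) = e v + e w) ∧ Function.Bijective e ∧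
        ∀ v : V, e (c v) = lam * e v :=
  @core_comm' p _ V _ _ (AddCommGroup.zmodModule (n := p) (by
    intro x
    exact congrArg Additive.ofMul (hexp (Additive.toMul x)))) v0 hv0 c hirr

theorem main : Cfsg.Agent.Lib.Helper4.UniStmt.FMB.{u} := by
  intro p _ V _ _ hcomm hexp hnt c hirr
  obtain ⟨v0, hv0⟩ := hnt
  letI : CommGroup V := { (inferInstance : Group V) with mul_comm := hcomm }
  exact core_comm p V hexp v0 hv0 c hirr

end Cfsg.Agent.Lib.Helper11.UniFMB
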