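import Cfsg.Agent.Lib.Helper11.StableW
import Cfsg.Agent.Lib.Helper11.ZJFam
import Cfsg.Agent.S0607
import Cfsg.Agent.S0029
import Mathlib

/-! `W(S)` is normal in an action-`p`-stable group with `C_G(O_p(G)) ≤ O_p(G)`. -/

open Cfsg

set_option autoImplicit false
set_option linter.unusedSectionVars false
set_option linter.unusedVariables false

namespace Cfsg.Agent.Lib.Helper11.WNormal

open Cfsg.Agent.Lib.Helper11.Thompson Cfsg.Agent.Lib.Helper11.ZJ Cfsg.Agent.Lib.Helper11.StableW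
  Cfsg.Agent.Lib.Helper11.ZJFam Cfsg.Agent.Lib.Helper11.Replace
open Cfsg.Agent.Lib.Helper76.PSolv

variable {G : Type*} [Group G]

theorem map_inclusion_eq {H K : Subgroup G} (h : H ≤ K) (X : Subgroup ↥H) :
    X.map (Subgroup.inclusion h) = (X.map H.subtype).subgroupOf K := by
  ext ⟨n, hn⟩
  rw [Subgroup.mem_subgroupOf]
  constructor
  · rintro ⟨y, hy, hyn⟩
    exact ⟨y, hy, congrArg Subtype.val hyn⟩
  · rintro ⟨y, hy, hyn⟩
    exact ⟨y, hy, Subtype.ext hyn⟩

theorem map_subtype_map_inclusion {H K : Subgroup G} (h : H ≤ K) (X : Subgroup ↥H) :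
    (X.map (Subgroup.inclusion h)).map K.subtype = X.map H.subtype := by
  rw [Subgroup.map_map, Subgroup.subtype_comp_inclusion]

/-- The Thompson subgroup of `P`, as a subgroup of `G`, is normalized by `P`. -/
theorem le_normalizer_thompsonSubgroupOf (p : ℕ) (P : Subgroup G) [Finite G] :
    P ≤ Subgroup.normalizer (Cfsg.thompsonSubgroupOf p P : Set G) := by
  intro s hs
  apply Cfsg.Agent.S0650.mem_normalizer_of_conj_mem
  rintro _ ⟨y, hy, rfl⟩
  have h1 := thompsonSubgroup_map p (MulAut.conj (⟨s, hs⟩ : ↥P))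
  have h2 : (MulAut.conj (⟨s, hs⟩ : ↥P)) y ∈ Cfsg.thompsonSubgroup p ↥P := by
    rw [← h1]; exact ⟨y, hy, rfl⟩
  exact ⟨_, h2, by simp⟩

section step1

variable [Finite G] {p : ℕ} [Fact p.Prime]

/-- The inclusion of a Sylow subgroup into the normalizer of its Thompson subgroup is a stable
embedding in an action-`p`-stable group with `C_G(O_p(G)) ≤ O_p(G)`. -/
theorem isStableEmbedding_inclusion (hst : Cfsg.IsActionPStable p G)
    (hc : Subgroup.centralizer (Cfsg.pCore p G : Set G) ≤ Cfsg.pCore p G) (S : Sylow p G) :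
    Cfsg.IsStableEmbedding p (Subgroup.inclusion
      (le_normalizer_thompsonSubgroupOf p (S : Subgroup G))) := by
  set N := Subgroup.normalizer (Cfsg.thompsonSubgroupOf p (S : Subgroup G) : Set G) with hN
  have hSN : (S : Subgroup G) ≤ N := le_normalizer_thompsonSubgroupOf p (S : Subgroup G)
  refine ⟨Subgroup.inclusion_injective hSN, inferInstance, ⟨S.subtype hSN, ?_⟩, ?_, ?_, ?_⟩
  · rw [Sylow.coe_subtype]
    ext ⟨n, hn⟩
    rw [Subgroup.mem_subgroupOf, MonoidHom.mem_range]
    constructor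
    · intro h
      exact ⟨⟨n, h⟩, rfl⟩
    · rintro ⟨y, hy⟩
      have : (y : G) = n := congrArg Subtype.val hy
      show n ∈ (S : Subgroup G)
      rw [← this]; exact y.2
  · -- centralizer of the p-core of N
    set Q := Cfsg.pCore p G with hQ
    have hQn : Q.Normal := pCore_normal' p G
    have hQS : Q ≤ S := pCore_le_sylow S
    have hQN : Q ≤ N := hQS.trans hSN
    have hQ' : Q.subgroupOf N ≤ Cfsg.pCore p ↥N := by
      apply le_pCore
      · infer_instance
      · exact (pCore_isPGroup p).comap_subtype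
    intro x hx
    apply hQ'
    rw [Subgroup.mem_subgroupOf]
    apply hc
    rw [Subgroup.mem_centralizer_iff]
    intro q hq
    have h1 : (⟨q, hQN hq⟩ : ↥N) ∈ Cfsg.pCore p ↥N := hQ' (Subgroup.mem_subgroupOf.mpr hq)
    have h2 := Subgroup.mem_centralizer_iff.mp hx _ h1
    exact congrArg Subtype.val h2
  · rw [map_inclusion_eq]
    exact Subgroup.normal_in_normalizer
  · intro V _ hV
    apply hst.2.2 S V
    have h1 := Subgroup.map_mono (f := N.subtype) hV
    rwa [map_subtype_map_inclusion] at h1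

/-- `W(S)` is normalized by `N_G(J(S))`. -/
theorem normalizer_thompson_le (hst : Cfsg.IsActionPStable p G)
    (hc : Subgroup.centralizer (Cfsg.pCore p G : Set G) ≤ Cfsg.pCore p G) (S : Sylow p G) :
    Subgroup.normalizer (Cfsg.thompsonSubgroupOf p (S : Subgroup G) : Set G) ≤
      Subgroup.normalizer (((Cfsg.stableNormalClosure p ↥(S : Subgroup G)).map
        (S : Subgroup G).subtype : Subgroup G) : Set G) := by
  set N := Subgroup.normalizer (Cfsg.thompsonSubgroupOf p (S : Subgroup G) : Set G) with hN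
  have hSN : (S : Subgroup G) ≤ N := le_normalizer_thompsonSubgroupOf p (S : Subgroup G)
  have hτ := isStableEmbedding_inclusion hst hc S
  have hnorm := (stableNormalClosure_mem_fam p ↥(S : Subgroup G)).2 ↥N _ hτ
  intro n hn
  apply Cfsg.Agent.S0650.mem_normalizer_of_conj_mem
  rintro _ ⟨w, hw, rfl⟩
  have h1 := hnorm.conj_mem (Subgroup.inclusion hSN w) ⟨w, hw, rfl⟩ ⟨n, hn⟩
  obtain ⟨w', hw', hw'e⟩ := h1
  refine ⟨w', hw', ?_⟩
  have := congrArg Subtype.val hw'e
  simpa using this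

end step1

section step2

variable [Finite G] {p : ℕ} [Fact p.Prime]

theorem exists_maxEA_ge (p : ℕ) (P : Subgroup G) :
    ∃ A ∈ Cfsg.maxElementaryAbelianSubgroups p ↥P, Cfsg.stableNormalClosure p ↥P ≤ A := by
  obtain ⟨A, hA⟩ := maxEA_nonempty (P := ↥P) p
  refine ⟨A, hA, (stableNormalClosure_le p ↥P).trans ?_⟩
  rw [← (sInf_maxEA_eq p).1]
  exact sInf_le hA

theorem W_comm (p : ℕ) (P : Subgroup G) :
    ∀ x ∈ (Cfsg.stableNormalClosure p ↥P).map P.subtype,
      ∀ y ∈ (Cfsg.stableNormalClosure p ↥P).map P.subtype, x * y = y * x := by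
  obtain ⟨A, hA, hle⟩ := exists_maxEA_ge p P
  rintro _ ⟨x, hx, rfl⟩ _ ⟨y, hy, rfl⟩
  have := hA.1.1
  have h : x * y = y * x := setLike_mul_comm (hle hx) (hle hy)
  exact congrArg Subtype.val h

theorem W_pow (p : ℕ) (P : Subgroup G) :
    ∀ x ∈ (Cfsg.stableNormalClosure p ↥P).map P.subtype, x ^ p = 1 := by
  obtain ⟨A, hA, hle⟩ := exists_maxEA_ge p P
  rintro _ ⟨x, hx, rfl⟩
  have h : x ^ p = 1 := hA.1.2 x (hle hx)
  exact congrArg Subtype.val h

theorem W_commutator (p : ℕ) (P : Subgroup G) :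
    ⁅(Cfsg.stableNormalClosure p ↥P).map P.subtype,
      (Cfsg.stableNormalClosure p ↥P).map P.subtype⁆ = ⊥ := by
  rw [Subgroup.commutator_eq_bot_iff_le_centralizer]
  intro x hx
  rw [Subgroup.mem_centralizer_iff]
  intro y hy
  exact W_comm p P y hy x hx

theorem sectionKernel_normal (K N : Subgroup G) [K.Normal] [N.Normal] :
    (Cfsg.sectionKernel K N).Normal := by
  unfold Cfsg.sectionKernel
  have : (K.map (QuotientGroup.mk' N)).Normal :=
    Subgroup.Normal.map inferInstance _ (QuotientGroup.mk'_surjective N)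
  exact Subgroup.Normal.comap inferInstance _

theorem sectionKernel_pow (hc : Subgroup.centralizer (Cfsg.pCore p G : Set G) ≤ Cfsg.pCore p G)
    [hΦ : ((frattini ↥(Cfsg.pCore p G)).map (Cfsg.pCore p G).subtype).Normal] (g : G)
    (hg : g ∈ Cfsg.sectionKernel (Cfsg.pCore p G)
      ((frattini ↥(Cfsg.pCore p G)).map (Cfsg.pCore p G).subtype)) :
    ∃ n : ℕ, g ^ (p ^ n) = 1 := by
  set Q := Cfsg.pCore p G with hQ
  set Φ := (frattini ↥Q).map Q.subtype with hΦdef
  set K := Cfsg.sectionKernel Q Φ with hK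
  have hp : p.Prime := Fact.out
  have hQn : Q.Normal := pCore_normal' p G
  have hQp : IsPGroup p Q := pCore_isPGroup p
  have hord : orderOf g ≠ 0 := (orderOf_pos g).ne'
  obtain ⟨a, m, hm, hgm⟩ := Nat.exists_eq_pow_mul_and_not_dvd hord p hp.ne_one
  set h := g ^ (p ^ a) with hh
  have hhm : h ^ m = 1 := by
    rw [hh, ← pow_mul, ← hgm]; exact pow_orderOf_eq_one g
  have hhK : h ∈ K := K.pow_mem hg _
  have hcopm : Nat.Coprime m p := (Nat.Coprime.symm ((Nat.Prime.coprime_iff_not_dvd hp).mpr hm))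
  have h1 : orderOf h ∣ m := orderOf_dvd_of_pow_eq_one hhm
  have hcent : Subgroup.zpowers h ≤ Subgroup.centralizer (Q : Set G) := by
    apply Cfsg.Agent.S0029.result (Subgroup.zpowers h) Q
    · rw [Subgroup.normalizer_eq_top]; exact le_top
    · rw [Nat.card_zpowers]
      obtain ⟨c, hc'⟩ := IsPGroup.iff_card.mp (hQp.to_subgroup (frattini ↥Q))
      rw [hc']
      exact Nat.Coprime.coprime_dvd_left h1 (hcopm.pow_right c)
    · intro x hx k hk
      have hxK : x ∈ K := (Subgroup.zpowers_le.mpr hhK) hx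
      have h1 : (QuotientGroup.mk' Φ x) ∈ Subgroup.centralizer
          ((Q.map (QuotientGroup.mk' Φ) : Subgroup (G ⧸ Φ)) : Set (G ⧸ Φ)) := hxK
      have h2 := Subgroup.mem_centralizer_iff.mp h1 (QuotientGroup.mk' Φ k) ⟨k, hk, rfl⟩
      have h3 : (QuotientGroup.mk' Φ (x * k * x⁻¹ * k⁻¹)) = 1 := by
        rw [map_mul, map_mul, map_mul, map_inv, map_inv, ← h2]
        group
      exact (QuotientGroup.eq_one_iff _).mp h3
  have hhQ : h ∈ Q := hc (hcent (Subgroup.mem_zpowers h))
  obtain ⟨b, hb⟩ := hQp ⟨h, hhQ⟩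
  have hb' : h ^ (p ^ b) = 1 := congrArg Subtype.val hb
  have h2 : orderOf h ∣ p ^ b := orderOf_dvd_of_pow_eq_one hb'
  have h3 : orderOf h = 1 := Nat.eq_one_of_dvd_coprimes (hcopm.pow_right b) h1 h2
  exact ⟨a, orderOf_eq_one_iff.mp h3⟩

theorem isPGroup_of_sectionKernel
    (hc : Subgroup.centralizer (Cfsg.pCore p G : Set G) ≤ Cfsg.pCore p G)
    [hΦ : ((frattini ↥(Cfsg.pCore p G)).map (Cfsg.pCore p G).subtype).Normal] (D : Subgroup G)
    (k : ℕ) (hk : (Cfsg.sectionKernel (Cfsg.pCore p G)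
      ((frattini ↥(Cfsg.pCore p G)).map (Cfsg.pCore p G).subtype)).relIndex D = p ^ k) :
    IsPGroup p D := by
  set Q := Cfsg.pCore p G with hQ
  set Φ := (frattini ↥Q).map Q.subtype with hΦdef
  set K := Cfsg.sectionKernel Q Φ with hK
  have hQn : Q.Normal := pCore_normal' p G
  have hKn : K.Normal := sectionKernel_normal Q Φ
  rintro ⟨d, hd⟩
  have h1 := Subgroup.pow_index_mem (K.subgroupOf D) (⟨d, hd⟩ : ↥D)
  have hidx : (K.subgroupOf D).index = p ^ k := hk
  rw [hidx] at h1
  have h2 : d ^ (p ^ k) ∈ K := by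
    have := Subgroup.mem_subgroupOf.mp h1
    simpa using this
  obtain ⟨n, hn⟩ := sectionKernel_pow hc _ h2
  refine ⟨k + n, Subtype.ext ?_⟩
  show d ^ (p ^ (k + n)) = 1
  rw [pow_add, pow_mul]; exact hn

/-- `W(S) ≤ O_p(G)`. -/
theorem W_le_pCore (hst : Cfsg.IsActionPStable p G)
    (hc : Subgroup.centralizer (Cfsg.pCore p G : Set G) ≤ Cfsg.pCore p G) (S : Sylow p G) :
    (Cfsg.stableNormalClosure p ↥(S : Subgroup G)).map (S : Subgroup G).subtype ≤
      Cfsg.pCore p G := by
  intro w hw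
  set W := (Cfsg.stableNormalClosure p ↥(S : Subgroup G)).map (S : Subgroup G).subtype with hW
  set Q := Cfsg.pCore p G with hQ
  have hQS : Q ≤ S := pCore_le_sylow S
  have hSNW : (S : Subgroup G) ≤ Subgroup.normalizer (W : Set G) :=
    (le_normalizer_thompsonSubgroupOf p (S : Subgroup G)).trans (normalizer_thompson_le hst hc S)
  have hWc : ⁅W, W⁆ = ⊥ := W_commutator p (S : Subgroup G)
  have h1 : ⁅Q, Subgroup.zpowers w⁆ ≤ W := by
    rw [Subgroup.commutator_le]
    intro q hq y hy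
    have hyW : y ∈ W := (Subgroup.zpowers_le.mpr hw) hy
    have := (Subgroup.mem_normalizer_iff.mp (hSNW (hQS hq)) y).mp hyW
    exact W.mul_mem this (W.inv_mem hyW)
  have h2 : ⁅⁅Q, Subgroup.zpowers w⁆, Subgroup.zpowers w⁆ ≤
      (frattini ↥Q).map Q.subtype := by
    have : ⁅⁅Q, Subgroup.zpowers w⁆, Subgroup.zpowers w⁆ = ⊥ := by
      rw [eq_bot_iff, ← hWc]
      exact Subgroup.commutator_mono h1 (Subgroup.zpowers_le.mpr hw)
    rw [this]; exact bot_le
  obtain ⟨D, hDn, hKD, ⟨k, hk⟩, hwD⟩ := hst.2.1 w h2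
  exact le_pCore hDn (isPGroup_of_sectionKernel hc D k hk) hwD

end step2

section step3

theorem isElementaryAbelian_closure (p : ℕ) (s : Set G)
    (hcomm : ∀ y ∈ s, ∀ z ∈ s, y * z = z * y) (hpow : ∀ y ∈ s, y ^ p = 1) :
    Cfsg.IsElementaryAbelian p (Subgroup.closure s) := by
  have hc := Subgroup.isMulCommutative_closure hcomm
  refine ⟨hc, ?_⟩
  intro a ha
  induction ha using Subgroup.closure_induction with
  | mem x hx => exact hpow x hx
  | one => exact one_pow p
  | mul x y hx hy hx' hy' =>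
    have hxy : x * y = y * x := by
      have := hc
      exact setLike_mul_comm hx hy
    rw [(show Commute x y from hxy).mul_pow, hx', hy', one_mul]
  | inv x hx hx' => rw [inv_pow, hx', inv_one]

variable [Finite G] {p : ℕ} [Fact p.Prime]

/-- A conjugate of an element of `W(S)` commutes with `W(S)`. -/
theorem conj_W_commute (hst : Cfsg.IsActionPStable p G)
    (hc : Subgroup.centralizer (Cfsg.pCore p G : Set G) ≤ Cfsg.pCore p G) (S : Sylow p G)
    (g w w₂ : G)
    (hw : w ∈ (Cfsg.stableNormalClosure p ↥(S : Subgroup G)).map (S : Subgroup G).subtype)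
    (hw₂ : w₂ ∈ (Cfsg.stableNormalClosure p ↥(S : Subgroup G)).map (S : Subgroup G).subtype) :
    (g * w * g⁻¹) * w₂ = w₂ * (g * w * g⁻¹) := by
  set Wt := Cfsg.stableNormalClosure p ↥(S : Subgroup G) with hWt
  set W := Wt.map (S : Subgroup G).subtype with hW
  set Q := Cfsg.pCore p G with hQ
  have hQn : Q.Normal := pCore_normal' p G
  have hQS : Q ≤ S := pCore_le_sylow S
  have hWQ : W ≤ Q := W_le_pCore hst hc S
  have hSNW : (S : Subgroup G) ≤ Subgroup.normalizer (W : Set G) :=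
    (le_normalizer_thompsonSubgroupOf p (S : Subgroup G)).trans (normalizer_thompson_le hst hc S)
  set x := g * w * g⁻¹ with hx
  have hxQ : x ∈ Q := hQn.conj_mem w (hWQ hw) g
  have hxS : x ∈ (S : Subgroup G) := hQS hxQ
  set Wg := W.map (MulAut.conj g).toMonoidHom with hWg
  have hxWg : x ∈ Wg := ⟨w, hw, by simp [hx]⟩
  have hWgc : ⁅Wg, Wg⁆ = ⊥ := by
    rw [hWg, ← Subgroup.map_commutator, W_commutator p (S : Subgroup G), Subgroup.map_bot]
  have h1 : ⁅W, Subgroup.zpowers x⁆ ≤ Wg := by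
    rw [Subgroup.commutator_le]
    intro w₁ hw₁ y hy
    have hyWg : y ∈ Wg := (Subgroup.zpowers_le.mpr hxWg) hy
    obtain ⟨w', hw', rfl⟩ := hyWg
    have hq : g⁻¹ * w₁ * g ∈ Q := by
      have := hQn.conj_mem w₁ (hWQ hw₁) g⁻¹
      simpa using this
    have h2 : (g⁻¹ * w₁ * g) * w' * (g⁻¹ * w₁ * g)⁻¹ ∈ W :=
      (Subgroup.mem_normalizer_iff.mp (hSNW (hQS hq)) w').mp hw'
    have h3 : w₁ * (MulAut.conj g).toMonoidHom w' * w₁⁻¹ ∈ Wg := by
      refine ⟨_, h2, ?_⟩
      simp [mul_assoc]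
    exact Wg.mul_mem h3 (Wg.inv_mem ⟨w', hw', rfl⟩)
  have hq : ⁅⁅W, Subgroup.zpowers x⁆, Subgroup.zpowers x⁆ = ⊥ := by
    rw [eq_bot_iff, ← hWgc]
    exact Subgroup.commutator_mono h1 (Subgroup.zpowers_le.mpr hxWg)
  have hq' : ⁅⁅Wt, Subgroup.zpowers (⟨x, hxS⟩ : ↥(S : Subgroup G))⁆,
      Subgroup.zpowers (⟨x, hxS⟩ : ↥(S : Subgroup G))⁆ = ⊥ := by
    rw [← Subgroup.map_eq_bot_iff_of_injective _ (S : Subgroup G).subtype_injective, quad_map]
    exact hq
  have h4 := no_quadratic p ↥(S : Subgroup G) ⟨x, hxS⟩ hq'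
  rw [Subgroup.commutator_eq_bot_iff_le_centralizer] at h4
  obtain ⟨w₂', hw₂', rfl⟩ := hw₂
  have h5 := Subgroup.mem_centralizer_iff.mp (h4 hw₂') ⟨x, hxS⟩ (Subgroup.mem_zpowers _)
  exact congrArg Subtype.val h5

/-- The normal closure of `W(S)` is elementary abelian. -/
theorem isElementaryAbelian_normalClosure (hst : Cfsg.IsActionPStable p G)
    (hc : Subgroup.centralizer (Cfsg.pCore p G : Set G) ≤ Cfsg.pCore p G) (S : Sylow p G) :
    Cfsg.IsElementaryAbelian p (Subgroup.normalClosure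
      (((Cfsg.stableNormalClosure p ↥(S : Subgroup G)).map (S : Subgroup G).subtype
        : Subgroup G) : Set G)) := by
  unfold Subgroup.normalClosure
  apply isElementaryAbelian_closure
  · intro y hy z hz
    rw [Group.mem_conjugatesOfSet_iff] at hy hz
    obtain ⟨a, ha, hay⟩ := hy
    obtain ⟨b, hb, hbz⟩ := hz
    obtain ⟨c, rfl⟩ := isConj_iff.mp hay
    obtain ⟨d, rfl⟩ := isConj_iff.mp hbz
    have h := conj_W_commute hst hc S (d⁻¹ * c) a b ha hb
    have h2 : d * ((d⁻¹ * c) * a * (d⁻¹ * c)⁻¹ * b) * d⁻¹ =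
        d * (b * ((d⁻¹ * c) * a * (d⁻¹ * c)⁻¹)) * d⁻¹ := by rw [h]
    simpa [mul_assoc] using h2
  · intro y hy
    rw [Group.mem_conjugatesOfSet_iff] at hy
    obtain ⟨a, ha, hay⟩ := hy
    obtain ⟨c, rfl⟩ := isConj_iff.mp hay
    rw [conj_pow, W_pow p (S : Subgroup G) a ha]
    simp

end step3

section step4

variable [Finite G] {p : ℕ} [Fact p.Prime]

theorem famE_restrict (T P A : Subgroup G) (hTP : T ≤ P) (hA : A ∈ famE p P) (hAT : A ≤ T) :
    A ∈ famE p T := by
  rw [mem_famE_iff] at hA ⊢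
  exact ⟨hAT, hA.2.1, fun Y hY hYc => hA.2.2 Y (hY.trans hTP) hYc⟩

theorem famE_subset (T P A : Subgroup G) (hTP : T ≤ P) (hA : A ∈ famE p P) (hAT : A ≤ T) :
    famE p T ⊆ famE p P := by
  intro A' hA'
  rw [mem_famE_iff] at hA hA' ⊢
  exact ⟨hA'.1.trans hTP, hA'.2.1,
    fun Y hY hYc => (hA.2.2 Y hY hYc).trans (hA'.2.2 A hAT hA.2.1)⟩

theorem famE_map (φ : G ≃* G) (P A : Subgroup G) (hA : A ∈ famE p P) :
    A.map φ.toMonoidHom ∈ famE p (P.map φ.toMonoidHom) := by
  rw [mem_famE_iff] at hA ⊢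
  refine ⟨Subgroup.map_mono hA.1, isElementaryAbelian_map_equiv φ A hA.2.1, ?_⟩
  intro Y hY hYc
  have h1 : Y.map φ.symm.toMonoidHom ≤ P := by
    have := Subgroup.map_mono (f := φ.symm.toMonoidHom) hY
    rwa [map_symm_map] at this
  have h2 := hA.2.2 _ h1 (isElementaryAbelian_map_equiv φ.symm Y hYc)
  rw [card_map_equiv] at h2 ⊢
  exact h2

theorem famE_normalizer_le (P : Subgroup G) :
    Subgroup.normalizer (P : Set G) ≤
      Subgroup.normalizer ((sInf (famE p P) : Subgroup G) : Set G) := by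
  intro g hg
  apply Cfsg.Agent.S0650.mem_normalizer_of_conj_mem
  intro x hx
  rw [Subgroup.mem_sInf] at hx ⊢
  intro A hA
  have hg' : g⁻¹ ∈ Subgroup.normalizer (P : Set G) := Subgroup.inv_mem _ hg
  have h1 := famE_map (p := p) (MulAut.conj g⁻¹) P A hA
  rw [map_conj_eq_of_mem_normalizer P g⁻¹ hg'] at h1
  obtain ⟨a, ha, hax⟩ := hx _ h1
  have : g * x * g⁻¹ = a := by
    rw [← hax]; simp [mul_assoc]
  rw [this]; exact ha

/-- Every elementary abelian subgroup of `S` of largest order centralizes `⟨W(S)^G⟩`. -/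
theorem maxEA_le_centralizer (hst : Cfsg.IsActionPStable p G)
    (hc : Subgroup.centralizer (Cfsg.pCore p G : Set G) ≤ Cfsg.pCore p G) (S : Sylow p G)
    (A : Subgroup ↥(S : Subgroup G))
    (hA : A ∈ Cfsg.maxElementaryAbelianSubgroups p ↥(S : Subgroup G)) :
    A.map (S : Subgroup G).subtype ≤ Subgroup.centralizer ((Subgroup.normalClosure
      (((Cfsg.stableNormalClosure p ↥(S : Subgroup G)).map (S : Subgroup G).subtype
        : Subgroup G) : Set G) : Subgroup G) : Set G) := by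
  set Wt := Cfsg.stableNormalClosure p ↥(S : Subgroup G) with hWt
  set W := Wt.map (S : Subgroup G).subtype with hW
  set V := Subgroup.normalClosure (W : Set G) with hV
  have hVn : V.Normal := Subgroup.normalClosure_normal
  have hVea : IsElementaryAbelian p V := isElementaryAbelian_normalClosure hst hc S
  have hWV : W ≤ V := Subgroup.le_normalClosure
  have hQn : (Cfsg.pCore p G).Normal := pCore_normal' p G
  have hVQ : V ≤ Cfsg.pCore p G := Subgroup.normalClosure_le_normal (W_le_pCore hst hc S)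
  have hVS : V ≤ (S : Subgroup G) := hVQ.trans (pCore_le_sylow S)
  set V' := V.subgroupOf (S : Subgroup G) with hV'
  have hV'n : V'.Normal := inferInstance
  have hV'ea : IsElementaryAbelian p V' := isElementaryAbelian_subgroupOf (S : Subgroup G) V hVea
  have hV'map : V'.map (S : Subgroup G).subtype = V := Subgroup.map_subgroupOf_eq_of_le hVS
  obtain ⟨hA₀, hquad, hnt⟩ := Cfsg.Agent.S0607.result V' hV'ea A hA
  set A₀ := ⁅V', A⁆ ⊔ (A ⊓ Subgroup.centralizer ((⁅V', A⁆ : Subgroup ↥(S : Subgroup G)) : Set ↥(S : Subgroup G))) with hA₀def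
  by_contra hcon
  have hne : ⁅V', A⁆ ≠ ⊥ := by
    intro h0
    apply hcon
    rw [Subgroup.commutator_eq_bot_iff_le_centralizer] at h0
    rintro _ ⟨a, ha, rfl⟩
    rw [Subgroup.mem_centralizer_iff]
    intro v hv
    have hv' : (⟨v, hVS hv⟩ : ↥(S : Subgroup G)) ∈ V' := Subgroup.mem_subgroupOf.mpr hv
    have := Subgroup.mem_centralizer_iff.mp (h0 hv') a ha
    exact (congrArg Subtype.val this).symm
  have hnt' := hnt hne
  set B := A₀.map (S : Subgroup G).subtype with hB
  have hBfam : B ∈ famE p (S : Subgroup G) := ⟨A₀, hA₀, rfl⟩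
  have hBS : B ≤ (S : Subgroup G) := Subgroup.map_subtype_le _
  have hquadG : ⁅⁅V, B⁆, B⁆ = ⊥ := by
    rw [← hV'map, hB, ← Subgroup.map_commutator, ← Subgroup.map_commutator, hquad,
      Subgroup.map_bot]
  set C := Subgroup.centralizer (V : Set G) with hC
  set L := (Cfsg.pCore p (G ⧸ C)).comap (QuotientGroup.mk' C) with hL
  have hLn : L.Normal := (pCore_normal' p _).comap _
  have hCL : C ≤ L := by
    intro c hc'
    show (QuotientGroup.mk' C c) ∈ Cfsg.pCore p (G ⧸ C)
    have : (QuotientGroup.mk' C c) = 1 := (QuotientGroup.eq_one_iff c).mpr hc'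
    rw [this]; exact Subgroup.one_mem _
  have hBL : B ≤ L := by
    intro a ha
    have h2 : ⁅⁅V, Subgroup.zpowers a⁆, Subgroup.zpowers a⁆ = ⊥ := by
      rw [eq_bot_iff, ← hquadG]
      exact Subgroup.commutator_mono
        (Subgroup.commutator_mono le_rfl (Subgroup.zpowers_le.mpr ha))
        (Subgroup.zpowers_le.mpr ha)
    exact hst.1 V hVea a h2
  set T := (S : Subgroup G) ⊓ L with hT
  have hBT : B ≤ T := le_inf hBS hBL
  have hTS : T ≤ (S : Subgroup G) := inf_le_left
  have hBT' : B ∈ famE p T := famE_restrict T (S : Subgroup G) B hTS hBfam hBT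
  have hsub : famE p T ⊆ famE p (S : Subgroup G) := famE_subset T (S : Subgroup G) B hTS hBfam hBT
  set X := sInf (famE p T) with hX
  have hWX : W ≤ X := by
    have h1 : W ≤ sInf (famE p (S : Subgroup G)) := by
      rw [← omegaCenterThompson_map_eq]
      exact Subgroup.map_mono (stableNormalClosure_le p ↥(S : Subgroup G))
    exact h1.trans (sInf_le_sInf hsub)
  have hfrat : Subgroup.normalizer (T : Set G) ⊔ C = ⊤ :=
    frattini_core S C L hCL (fun x hx => mem_preimage_pow C x hx)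
  have hXVn : (X ⊓ V).Normal := by
    rw [← Subgroup.normalizer_eq_top_iff, eq_top_iff, ← hfrat]
    apply sup_le
    · intro g hg
      have hgX := famE_normalizer_le (p := p) T hg
      apply Cfsg.Agent.S0650.mem_normalizer_of_conj_mem
      intro x hx
      exact ⟨(Subgroup.mem_normalizer_iff.mp hgX x).mp hx.1, hVn.conj_mem x hx.2 g⟩
    · intro c hc'
      apply Cfsg.Agent.S0650.mem_normalizer_of_conj_mem
      intro x hx
      have h1 : x * c = c * x := Subgroup.mem_centralizer_iff.mp hc' x hx.2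
      have : c * x * c⁻¹ = x := by
        rw [← h1]; simp
      rw [this]; exact hx
  have hVX : V ≤ X ⊓ V := Subgroup.normalClosure_le_normal (le_inf hWX hWV)
  have hVB : V ≤ B := (hVX.trans inf_le_left).trans (sInf_le hBT')
  apply hnt'
  have hV'A₀ : V' ≤ A₀ := by
    rw [← Subgroup.map_le_map_iff_of_injective (S : Subgroup G).subtype_injective, hV'map]
    exact hVB
  have hA₀c : ⁅A₀, A₀⁆ = ⊥ := Subgroup.commutator_self_eq_bot_iff.mpr hA₀.1.1
  rw [eq_bot_iff, ← hA₀c]
  exact Subgroup.commutator_mono hV'A₀ le_rfl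

/-- `G = N_G(J(S)) C_G(⟨W(S)^G⟩)`. -/
theorem normalizer_sup_centralizer (hst : Cfsg.IsActionPStable p G)
    (hc : Subgroup.centralizer (Cfsg.pCore p G : Set G) ≤ Cfsg.pCore p G) (S : Sylow p G) :
    Subgroup.normalizer (Cfsg.thompsonSubgroupOf p (S : Subgroup G) : Set G) ⊔
      Subgroup.centralizer ((Subgroup.normalClosure
      (((Cfsg.stableNormalClosure p ↥(S : Subgroup G)).map (S : Subgroup G).subtype
        : Subgroup G) : Set G) : Subgroup G) : Set G) = ⊤ := by
  set V := Subgroup.normalClosure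
      (((Cfsg.stableNormalClosure p ↥(S : Subgroup G)).map (S : Subgroup G).subtype : Subgroup G) : Set G) with hV
  have hVn : V.Normal := Subgroup.normalClosure_normal
  set C := Subgroup.centralizer (V : Set G) with hC
  have hCn : C.Normal := Subgroup.normal_centralizer
  have hfrat := frattini_core S C C le_rfl (fun x hx => ⟨0, by simpa using hx⟩)
  rw [eq_top_iff, ← hfrat]
  apply sup_le _ le_sup_right
  refine le_trans ?_ le_sup_left
  intro n hn
  apply Cfsg.Agent.S0650.mem_normalizer_of_conj_mem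
  have key : (Cfsg.thompsonSubgroupOf p (S : Subgroup G)).map (MulAut.conj n).toMonoidHom ≤
      Cfsg.thompsonSubgroupOf p (S : Subgroup G) := by
    unfold Cfsg.thompsonSubgroupOf Cfsg.thompsonSubgroup
    rw [Subgroup.map_map, Subgroup.map_le_iff_le_comap]
    apply sSup_le
    intro A hA
    rw [← Subgroup.map_le_iff_le_comap, ← Subgroup.map_map]
    have hBfam : A.map (S : Subgroup G).subtype ∈ famE p (S : Subgroup G) := ⟨A, hA, rfl⟩
    have hBT : A.map (S : Subgroup G).subtype ≤ (S : Subgroup G) ⊓ C :=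
      le_inf (Subgroup.map_subtype_le _) (maxEA_le_centralizer hst hc S A hA)
    have hBn : (A.map (S : Subgroup G).subtype).map (MulAut.conj n).toMonoidHom ≤ (S : Subgroup G) ⊓ C := by
      have := Subgroup.map_mono (f := (MulAut.conj n).toMonoidHom) hBT
      rwa [map_conj_eq_of_mem_normalizer _ n hn] at this
    have hBn' : (A.map (S : Subgroup G).subtype).map (MulAut.conj n).toMonoidHom ∈ famE p (S : Subgroup G) := by
      rw [mem_famE_iff] at hBfam ⊢
      refine ⟨hBn.trans inf_le_left, isElementaryAbelian_map_equiv _ _ hBfam.2.1, ?_⟩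
      intro Y hY hYc
      rw [card_map_equiv]; exact hBfam.2.2 Y hY hYc
    obtain ⟨A₂, hA₂, hA₂e⟩ := hBn'
    have hA₂e' : A₂.map (S : Subgroup G).subtype = (A.map (S : Subgroup G).subtype).map (MulAut.conj n).toMonoidHom := hA₂e
    rw [← hA₂e']
    exact Subgroup.map_mono (le_sSup hA₂)
  intro x hx
  exact key ⟨x, hx, rfl⟩

/-- `W(S)` is normal in an action-`p`-stable group `G` with `C_G(O_p(G)) ≤ O_p(G)`. -/
theorem W_normal (hst : Cfsg.IsActionPStable p G)
    (hc : Subgroup.centralizer (Cfsg.pCore p G : Set G) ≤ Cfsg.pCore p G) (S : Sylow p G) :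
    (((Cfsg.stableNormalClosure p ↥(S : Subgroup G)).map (S : Subgroup G).subtype)).Normal := by
  rw [← Subgroup.normalizer_eq_top_iff, eq_top_iff, ← normalizer_sup_centralizer hst hc S]
  apply sup_le (normalizer_thompson_le hst hc S)
  intro c hc'
  apply Cfsg.Agent.S0650.mem_normalizer_of_conj_mem
  intro x hx
  have h1 : x * c = c * x := Subgroup.mem_centralizer_iff.mp hc' x (Subgroup.le_normalClosure hx)
  have : c * x * c⁻¹ = x := by
    rw [← h1]; simp
  rw [this]; exact hx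

end step4

end Cfsg.Agent.Lib.Helper11.WNormal
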