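import Cfsg.Agent.Lib.Helper11.ZJ
import Mathlib

/-! Abstract ZJ-theorem with `p`-stability required only for `p`-elements. -/

open Cfsg

set_option autoImplicit false
set_option linter.unusedSectionVars false
set_option linter.unusedVariables false

namespace Cfsg.Agent.Lib.Helper11.ZJ2

open scoped commutatorElement
open Cfsg.Agent.Lib.Helper76.PSolv Cfsg.Agent.Lib.Helper76.SylowTools Cfsg.Agent.Lib.Helper11.ZJ

variable {G : Type*} [Group G] {p : ℕ} {𝒜 : Subgroup G → Set (Subgroup G)}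

section main

variable [Finite G] [Fact p.Prime]

theorem sInf_le_pCore (h𝒜 : IsFam p 𝒜)
    (hc : Subgroup.centralizer (Cfsg.pCore p G : Set G) ≤ Cfsg.pCore p G)
    (hst : ∀ (P : Subgroup G) [P.Normal], IsPGroup p P → ∀ a : G, (∃ k : ℕ, a ^ (p ^ k) = 1) →
      ⁅⁅P, Subgroup.zpowers a⁆, Subgroup.zpowers a⁆ = ⊥ →
      (QuotientGroup.mk a : G ⧸ Subgroup.centralizer (P : Set G)) ∈
        Cfsg.pCore p (G ⧸ Subgroup.centralizer (P : Set G))) (S : Sylow p G) :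
    sInf (𝒜 (S : Subgroup G)) ≤ Cfsg.pCore p G := by
  intro z hz
  set Z := sInf (𝒜 (S : Subgroup G)) with hZ
  set Q := Cfsg.pCore p G with hQ
  have hQn : Q.Normal := pCore_normal' p G
  have hQS : Q ≤ S := pCore_le_sylow S
  have hQp : IsPGroup p Q := pCore_isPGroup p
  have hZc : ⁅Z, Z⁆ = ⊥ := commutator_sInf h𝒜 _
  have hSZ : (S : Subgroup G) ≤ Subgroup.normalizer (Z : Set G) :=
    Subgroup.le_normalizer.trans (normalizer_le h𝒜 S)
  have h1 : ⁅Q, Subgroup.zpowers z⁆ ≤ Z := by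
    rw [Subgroup.commutator_le]
    intro q hq y hy
    have hyZ : y ∈ Z := (Subgroup.zpowers_le.mpr hz) hy
    have hqn : q ∈ Subgroup.normalizer (Z : Set G) := hSZ (hQS hq)
    have := (Subgroup.mem_normalizer_iff.mp hqn y).mp hyZ
    exact Z.mul_mem this (Z.inv_mem hyZ)
  have h2 : ⁅⁅Q, Subgroup.zpowers z⁆, Subgroup.zpowers z⁆ = ⊥ := by
    rw [eq_bot_iff, ← hZc]
    exact Subgroup.commutator_mono h1 (Subgroup.zpowers_le.mpr hz)
  have hzp : ∃ k : ℕ, z ^ (p ^ k) = 1 := by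
    have hzS : z ∈ (S : Subgroup G) := sInf_le_self h𝒜 _ hz
    obtain ⟨k, hk⟩ := S.isPGroup' ⟨z, hzS⟩
    exact ⟨k, congrArg Subtype.val hk⟩
  have h3 := hst Q hQp z hzp h2
  set C := Subgroup.centralizer (Q : Set G) with hC
  set L := (Cfsg.pCore p (G ⧸ C)).comap (QuotientGroup.mk' C) with hL
  have hLn : L.Normal := (pCore_normal' p _).comap _
  have hLp : IsPGroup p L := by
    apply IsPGroup.comap_of_ker_isPGroup (pCore_isPGroup p)
    rw [QuotientGroup.ker_mk']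
    exact hQp.to_le hc
  exact le_pCore hLn hLp h3

/-- Key step: if `B = ⟨(Z ∩ B)^G⟩` and `B` normalizes a member `A₀` of the family, then `B ≤ A₀`. -/
theorem le_of_normalizes (h𝒜 : IsFam p 𝒜)
    (hst : ∀ (P : Subgroup G) [P.Normal], IsPGroup p P → ∀ a : G, (∃ k : ℕ, a ^ (p ^ k) = 1) →
      ⁅⁅P, Subgroup.zpowers a⁆, Subgroup.zpowers a⁆ = ⊥ →
      (QuotientGroup.mk a : G ⧸ Subgroup.centralizer (P : Set G)) ∈
        Cfsg.pCore p (G ⧸ Subgroup.centralizer (P : Set G))) (S : Sylow p G)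
    (B : Subgroup G) [B.Normal] (hBp : IsPGroup p B)
    (hB : Subgroup.normalClosure (((sInf (𝒜 (S : Subgroup G)) ⊓ B : Subgroup G)) : Set G) = B)
    (A₀ : Subgroup G) (hA₀ : A₀ ∈ 𝒜 (S : Subgroup G))
    (hBN : B ≤ Subgroup.normalizer (A₀ : Set G)) : B ≤ A₀ := by
  have hA₀S : A₀ ≤ S := h𝒜.le _ _ hA₀
  have hA₀c : ⁅A₀, A₀⁆ = ⊥ := Subgroup.commutator_self_eq_bot_iff.mpr (h𝒜.comm _ _ hA₀)
  set C := Subgroup.centralizer (B : Set G) with hC
  set L := (Cfsg.pCore p (G ⧸ C)).comap (QuotientGroup.mk' C) with hL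
  have hLn : L.Normal := (pCore_normal' p _).comap _
  have hCL : C ≤ L := by
    intro c hc
    show (QuotientGroup.mk' C c) ∈ Cfsg.pCore p (G ⧸ C)
    have : (QuotientGroup.mk' C c) = 1 := (QuotientGroup.eq_one_iff c).mpr hc
    rw [this]; exact Subgroup.one_mem _
  have hA₀L : A₀ ≤ L := by
    intro a ha
    have h1 : ⁅B, Subgroup.zpowers a⁆ ≤ A₀ := by
      rw [Subgroup.commutator_le]
      intro b hb y hy
      have hyA : y ∈ A₀ := (Subgroup.zpowers_le.mpr ha) hy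
      have := (Subgroup.mem_normalizer_iff.mp (hBN hb) y).mp hyA
      exact A₀.mul_mem this (A₀.inv_mem hyA)
    have h2 : ⁅⁅B, Subgroup.zpowers a⁆, Subgroup.zpowers a⁆ = ⊥ := by
      rw [eq_bot_iff, ← hA₀c]
      exact Subgroup.commutator_mono h1 (Subgroup.zpowers_le.mpr ha)
    have hap : ∃ k : ℕ, a ^ (p ^ k) = 1 := by
      obtain ⟨k, hk⟩ := S.isPGroup' ⟨a, hA₀S ha⟩
      exact ⟨k, congrArg Subtype.val hk⟩
    exact hst B hBp a hap h2
  set T := (S : Subgroup G) ⊓ L with hT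
  have hA₀T : A₀ ≤ T := le_inf hA₀S hA₀L
  have hTS : T ≤ S := inf_le_left
  have hA₀T' : A₀ ∈ 𝒜 T := h𝒜.restrict T S A₀ hTS hA₀ hA₀T
  have hsub : 𝒜 T ⊆ 𝒜 (S : Subgroup G) := h𝒜.subset T S A₀ hTS hA₀ hA₀T
  set X := sInf (𝒜 T) with hX
  have hZX : sInf (𝒜 (S : Subgroup G)) ≤ X := sInf_le_sInf hsub
  have hfrat : Subgroup.normalizer (T : Set G) ⊔ C = ⊤ :=
    frattini_core S C L hCL (fun x hx => mem_preimage_pow C x hx)
  have hXBn : (X ⊓ B).Normal := by
    rw [← Subgroup.normalizer_eq_top_iff, eq_top_iff, ← hfrat]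
    apply sup_le
    · intro g hg
      have hgX := normalizer_le h𝒜 T hg
      apply Cfsg.Agent.S0650.mem_normalizer_of_conj_mem
      intro x hx
      exact ⟨(Subgroup.mem_normalizer_iff.mp hgX x).mp hx.1,
        Subgroup.Normal.conj_mem inferInstance x hx.2 g⟩
    · intro c hc
      apply Cfsg.Agent.S0650.mem_normalizer_of_conj_mem
      intro x hx
      have h1 : x * c = c * x := Subgroup.mem_centralizer_iff.mp hc x hx.2
      have : c * x * c⁻¹ = x := by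
        rw [← h1]; simp
      rw [this]; exact hx
  have hBX : B ≤ X ⊓ B := by
    conv_lhs => rw [← hB]
    exact Subgroup.normalClosure_le_normal (inf_le_inf_right B hZX)
  exact (hBX.trans inf_le_left).trans (sInf_le hA₀T')

theorem core_step (h𝒜 : IsFam p 𝒜)
    (hst : ∀ (P : Subgroup G) [P.Normal], IsPGroup p P → ∀ a : G, (∃ k : ℕ, a ^ (p ^ k) = 1) →
      ⁅⁅P, Subgroup.zpowers a⁆, Subgroup.zpowers a⁆ = ⊥ →
      (QuotientGroup.mk a : G ⧸ Subgroup.centralizer (P : Set G)) ∈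
        Cfsg.pCore p (G ⧸ Subgroup.centralizer (P : Set G))) (S : Sylow p G)
    (B : Subgroup G) [hBn : B.Normal] (hBp : IsPGroup p B)
    (ih : ∀ B' : Subgroup G, B'.Normal → B' < B → (sInf (𝒜 (S : Subgroup G)) ⊓ B').Normal) :
    (sInf (𝒜 (S : Subgroup G)) ⊓ B).Normal := by
  classical
  set Z := sInf (𝒜 (S : Subgroup G)) with hZ
  have hBS : B ≤ S := hBp.le_sylow_of_normal S
  have hSZ : (S : Subgroup G) ≤ Subgroup.normalizer (Z : Set G) :=
    Subgroup.le_normalizer.trans (normalizer_le h𝒜 S)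
  set B₁ := Subgroup.normalClosure ((Z ⊓ B : Subgroup G) : Set G) with hB₁
  have hB₁B : B₁ ≤ B := Subgroup.normalClosure_le_normal (inf_le_right)
  have hle : Z ⊓ B ≤ B₁ := Subgroup.le_normalClosure
  by_cases hne : B₁ = B
  swap
  · have hlt : B₁ < B := lt_of_le_of_ne hB₁B hne
    have := ih B₁ Subgroup.normalClosure_normal hlt
    have heq : Z ⊓ B = Z ⊓ B₁ := le_antisymm (le_inf inf_le_left hle) (inf_le_inf_left Z hB₁B)
    rw [heq]; exact this
  suffices hBZ : B ≤ Z by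
    rw [inf_eq_right.mpr hBZ]; exact hBn
  by_cases hbot : B = ⊥
  · rw [hbot]; exact bot_le
  have hB'lt : ⁅B, B⁆ < B := commutator_lt_of_isPGroup B hBp hbot
  have hKn : (Z ⊓ ⁅B, B⁆).Normal := ih _ (Subgroup.commutator_normal B B) hB'lt
  have hB'Z : ⁅B, B⁆ ≤ Z := by
    have h := commutator_normalClosure_le ((Z ⊓ B : Subgroup G) : Set G) B (Z ⊓ ⁅B, B⁆) ?_
    · rw [← hB₁, hne] at h
      exact h.trans inf_le_left
    · intro x hx y hy
      refine ⟨?_, Subgroup.commutator_mem_commutator hx.2 hy⟩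
      have hyn := hSZ (hBS hy)
      have h1 : y * x⁻¹ * y⁻¹ ∈ Z := (Subgroup.mem_normalizer_iff.mp hyn x⁻¹).mp (Z.inv_mem hx.1)
      have : ⁅x, y⁆ = x * (y * x⁻¹ * y⁻¹) := by simp [commutatorElement_def, mul_assoc]
      rw [this]; exact Z.mul_mem hx.1 h1
  by_contra hBnZ
  have hU : ∃ U ∈ 𝒜 (S : Subgroup G), ⁅B, B⁆ ≤ U ∧ ¬ B ≤ U := by
    by_contra hcon
    push Not at hcon
    apply hBnZ
    rw [hZ]
    apply le_sInf
    intro U hU
    exact hcon U hU (hB'Z.trans (sInf_le hU))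
  obtain ⟨A₀, hA₀, -, hBA₀, hBN⟩ := h𝒜.replace S B S.isPGroup' hBS
    (by rw [Subgroup.normalizer_eq_top]; exact le_top) hU
  exact hBA₀ (le_of_normalizes h𝒜 hst S B hBp hne A₀ hA₀ hBN)

theorem inf_normal (h𝒜 : IsFam p 𝒜)
    (hst : ∀ (P : Subgroup G) [P.Normal], IsPGroup p P → ∀ a : G, (∃ k : ℕ, a ^ (p ^ k) = 1) →
      ⁅⁅P, Subgroup.zpowers a⁆, Subgroup.zpowers a⁆ = ⊥ →
      (QuotientGroup.mk a : G ⧸ Subgroup.centralizer (P : Set G)) ∈
        Cfsg.pCore p (G ⧸ Subgroup.centralizer (P : Set G))) (S : Sylow p G) :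
    ∀ (n : ℕ) (B : Subgroup G), B.Normal → IsPGroup p B → Nat.card B = n →
      (sInf (𝒜 (S : Subgroup G)) ⊓ B).Normal := by
  intro n
  induction n using Nat.strong_induction_on with
  | _ n ih =>
    intro B hBn hBp hcard
    have := hBn
    apply core_step h𝒜 hst S B hBp
    intro B' hB'n hlt
    have hlt' : Nat.card B' < n := by
      rw [← hcard]
      by_contra hge
      push Not at hge
      exact (ne_of_lt hlt) (Subgroup.eq_of_le_of_card_ge (le_of_lt hlt) hge)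
    exact ih _ hlt' B' hB'n (hBp.to_le (le_of_lt hlt)) rfl

/-- Abstract ZJ-theorem. -/
theorem zj (h𝒜 : IsFam p 𝒜)
    (hc : Subgroup.centralizer (Cfsg.pCore p G : Set G) ≤ Cfsg.pCore p G)
    (hst : ∀ (P : Subgroup G) [P.Normal], IsPGroup p P → ∀ a : G, (∃ k : ℕ, a ^ (p ^ k) = 1) →
      ⁅⁅P, Subgroup.zpowers a⁆, Subgroup.zpowers a⁆ = ⊥ →
      (QuotientGroup.mk a : G ⧸ Subgroup.centralizer (P : Set G)) ∈
        Cfsg.pCore p (G ⧸ Subgroup.centralizer (P : Set G))) (S : Sylow p G) :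
    (sInf (𝒜 (S : Subgroup G))).Characteristic := by
  set Z := sInf (𝒜 (S : Subgroup G)) with hZ
  have hZQ : Z ≤ Cfsg.pCore p G := sInf_le_pCore h𝒜 hc hst S
  have hn : Z.Normal := by
    have := inf_normal h𝒜 hst S _ (Cfsg.pCore p G) (pCore_normal' p G) (pCore_isPGroup p) rfl
    rwa [inf_eq_left.mpr hZQ] at this
  rw [Subgroup.characteristic_iff_map_le]
  intro φ
  have h1 := map_sInf_le h𝒜 φ S
  obtain ⟨g, hg⟩ : ∃ g : G, (S : Subgroup G).map φ.toMonoidHom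
      = (S : Subgroup G).map (MulAut.conj g).toMonoidHom := by
    obtain ⟨g, hg⟩ := MulAction.exists_smul_eq G S (φ • S)
    refine ⟨g, ?_⟩
    have h2 : ((g • S : Sylow p G) : Subgroup G) = ((φ • S : Sylow p G) : Subgroup G) := by
      rw [hg]
    rw [Sylow.coe_subgroup_smul, Sylow.pointwise_smul_def, Subgroup.pointwise_smul_def,
      Subgroup.pointwise_smul_def] at h2
    exact h2.symm
  rw [hg, sInf_map_eq h𝒜] at h1
  refine h1.trans ?_
  rintro _ ⟨z, hz, rfl⟩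
  exact hn.conj_mem z hz g

end main

end Cfsg.Agent.Lib.Helper11.ZJ2
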